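import Mathlib
import Cfsg.Agent.Lib.CT.Orth
import Cfsg.Agent.Lib.CT.Kernel
import Cfsg.Agent.Lib.Helper80.Integrality
import Cfsg.Agent.Lib.Helper80.Restrict
import Cfsg.Agent.Lib.Helper80.IndDeg
import Cfsg.Agent.Lib.Helper3.Irr
import Cfsg.Agent.S0887
import Cfsg.Agent.S4456

/-!
Groups with two character degrees (Isaacs, Chapter 12): basic tools.
-/

set_option autoImplicit false

namespace Cfsg.Agent.Lib.Helper3.TDBasic

open Cfsg Cfsg.Agent.Lib.Helper80.Integrality Cfsg.Agent.Lib.Helper80.Restrict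
open Cfsg.Agent.Lib.CT.Wedderburn Cfsg.Agent.Lib.CT.Orth
open scoped ComplexConjugate

universe u
variable {G : Type u} [Group G]

/-- A finite group all of whose irreducible characters are linear is abelian. -/
theorem comm_of_forall_degree_one [Finite G]
    (h : ∀ χ : IrrCharacter G, charDegree (χ : G → ℂ) = 1) (a b : G) : a * b = b * a := by
  classical
  have := Fintype.ofFinite G
  have := Cfsg.Agent.Lib.Helper3.Irr.finite_irrCharacter (G := G)
  have := Fintype.ofFinite (IrrCharacter G)
  have h1 := Cfsg.Agent.Lib.CT.Orth.sum_charDegree_sq_sum (G := G)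
  have h2 : ∑ χ : IrrCharacter G, charDegree (χ : G → ℂ) ^ 2 = Fintype.card (IrrCharacter G) := by
    simp [h]
  have h3 := Cfsg.Agent.Lib.CT.Orth.card_irrCharacter (G := G)
  have h4 : Nat.card (ConjClasses G) = Nat.card G := by
    rw [← h3, Nat.card_eq_fintype_card, ← h2, h1]
  have h5 : Function.Bijective (ConjClasses.mk : G → ConjClasses G) :=
    (Nat.bijective_iff_surjective_and_card _).2 ⟨ConjClasses.mk_surjective, h4.symm⟩
  have h6 : ConjClasses.mk (b * a * b⁻¹) = ConjClasses.mk a := by
    rw [ConjClasses.mk_eq_mk_iff_isConj]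
    exact (isConj_iff.2 ⟨b, rfl⟩).symm
  have h7 := h5.1 h6
  calc a * b = (b * a * b⁻¹) * b := by rw [h7]
    _ = b * a := by group

/-- An irreducible character of a normal subgroup lies under an irreducible character of the
group, with the usual divisibility of degrees. -/
theorem exists_over [Finite G] (N : Subgroup G) [hN : N.Normal] [Fintype N] (θ : IrrCharacter N) :
    ∃ χ : IrrCharacter G, classInner (fun n : N => (χ : G → ℂ) n) (θ : N → ℂ) ≠ 0 ∧
      charDegree (θ : N → ℂ) ∣ charDegree (χ : G → ℂ) ∧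
      charDegree (χ : G → ℂ) / charDegree (θ : N → ℂ) ∣ N.index := by
  classical
  have := Fintype.ofFinite G
  have hθc : IsCharacter N (θ : N → ℂ) := isCharacter_of_irr θ.2
  have hpos := charDegree_pos θ
  have hidx : N.index ≠ 0 := Subgroup.index_ne_zero_of_finite
  obtain ⟨χ, hχ, -⟩ := Cfsg.Agent.Lib.Helper80.IndDeg.exists_constituent_not_dvd N (θ : N → ℂ) hθc 0
    (by
      rw [zero_dvd_iff]
      exact Nat.mul_ne_zero hidx hpos.ne')
  have hcon : classInner (fun n : N => (χ : G → ℂ) n) (θ : N → ℂ) ≠ 0 := by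
    rw [Cfsg.Agent.Lib.CT.Clifford.classInner_conj_symm]
    simpa using hχ
  refine ⟨χ, hcon, ?_⟩
  exact Cfsg.Agent.S0887.result N (χ : G → ℂ) χ.2 (θ : N → ℂ) θ.2 hcon _ _
    (apply_one_eq_charDegree (isCharacter_of_irr χ.2)) (apply_one_eq_charDegree hθc)

/-- Degrees of constituents on a normal subgroup. -/
theorem deg_of_constituent [Finite G] (N : Subgroup G) [hN : N.Normal] [Fintype N] (θ : IrrCharacter N)
    (χ : IrrCharacter G) (hcon : classInner (fun n : N => (χ : G → ℂ) n) (θ : N → ℂ) ≠ 0) :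
    charDegree (θ : N → ℂ) ∣ charDegree (χ : G → ℂ) ∧
      charDegree (χ : G → ℂ) / charDegree (θ : N → ℂ) ∣ N.index := by
  classical
  have := Fintype.ofFinite G
  exact Cfsg.Agent.S0887.result N (χ : G → ℂ) χ.2 (θ : N → ℂ) θ.2 hcon _ _
    (apply_one_eq_charDegree (isCharacter_of_irr χ.2))
    (apply_one_eq_charDegree (isCharacter_of_irr θ.2))

/-- Inflation of an irreducible character of a quotient. -/
noncomputable def infl (K : Subgroup G) [K.Normal] (ψ : IrrCharacter (G ⧸ K)) : IrrCharacter G :=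
  ⟨fun g : G => (ψ : G ⧸ K → ℂ) (g : G ⧸ K), Cfsg.Agent.Lib.CT.Kernel.isIrrCharacter_inflation K ψ.2⟩

theorem infl_apply (K : Subgroup G) [K.Normal] (ψ : IrrCharacter (G ⧸ K)) (g : G) :
    (infl K ψ : G → ℂ) g = (ψ : G ⧸ K → ℂ) (g : G ⧸ K) := rfl

theorem charDegree_infl (K : Subgroup G) [K.Normal] (ψ : IrrCharacter (G ⧸ K)) :
    charDegree (infl K ψ : G → ℂ) = charDegree (ψ : G ⧸ K → ℂ) := rfl

/-- A finite group with at most two character degrees is solvable. -/
theorem solvable_aux : ∀ (n : ℕ) (G : Type u) [Group G] [Finite G], Nat.card G = n →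
    (∃ m : ℕ, ∀ χ : IrrCharacter G, charDegree (χ : G → ℂ) = 1 ∨ charDegree (χ : G → ℂ) = m) →
    Group.IsSolvable G := by
  intro n
  induction n using Nat.strong_induction_on with
  | _ n ih =>
    intro G _ _ hn hm
    obtain ⟨m, hm⟩ := hm
    by_cases hall : ∀ χ : IrrCharacter G, charDegree (χ : G → ℂ) = 1
    · exact Group.isSolvable_of_comm (comm_of_forall_degree_one hall)
    · push Not at hall
      obtain ⟨χ₀, hχ₀⟩ := hall
      have hχ₀m : charDegree (χ₀ : G → ℂ) = m := (hm χ₀).resolve_left hχ₀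
      have hm1 : m ≠ 1 := by rw [← hχ₀m]; exact hχ₀
      obtain ⟨p, hp, hpm⟩ := Nat.exists_prime_and_dvd hm1
      obtain ⟨N, hNn, hNcop, k, hk⟩ := Cfsg.Agent.S4456.result p hp (fun χ hχ => by
        rcases hm χ with h | h
        · exact absurd h hχ
        · rw [h]; exact hpm)
      have hpG : p ∣ Nat.card G := by
        have h1 := charDegree_dvd_card χ₀
        rw [hχ₀m] at h1
        exact dvd_trans hpm h1
      have hlt : Nat.card N < Nat.card G := by
        have h1 := N.card_mul_index
        rcases Nat.eq_zero_or_pos k with hk0 | hk0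
        · rw [hk0, pow_zero] at hk
          rw [hk, mul_one] at h1
          rw [← h1] at hpG
          exact absurd ((Nat.Prime.coprime_iff_not_dvd hp).1 hNcop.symm) (not_not.2 hpG)
        · rw [← h1, hk]
          have h2 : 1 < p ^ k := Nat.one_lt_pow hk0.ne' hp.one_lt
          have h3 : 0 < Nat.card N := Nat.card_pos
          nlinarith
      -- degrees of N
      have key : ∀ θ : IrrCharacter N, charDegree (θ : N → ℂ) ≠ 1 →
          (Nat.Coprime (charDegree (θ : N → ℂ)) p) ∧ ∃ j, m = charDegree (θ : N → ℂ) * p ^ j := by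
        intro θ hθ
        haveI := Fintype.ofFinite N
        obtain ⟨χ, -, hd1, hd2⟩ := exists_over N θ
        have hcop : Nat.Coprime (charDegree (θ : N → ℂ)) p :=
          Nat.Coprime.coprime_dvd_left (charDegree_dvd_card θ) hNcop
        refine ⟨hcop, ?_⟩
        rcases hm χ with h | h
        · rw [h] at hd1
          exact absurd (Nat.dvd_one.1 hd1) hθ
        · rw [h] at hd1 hd2
          rw [hk] at hd2
          obtain ⟨j, -, hj⟩ := (Nat.dvd_prime_pow hp).1 hd2
          exact ⟨j, by rw [← hj, Nat.mul_div_cancel' hd1]⟩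
      have hNdeg : ∃ m' : ℕ, ∀ θ : IrrCharacter N,
          charDegree (θ : N → ℂ) = 1 ∨ charDegree (θ : N → ℂ) = m' := by
        by_cases hall' : ∀ θ : IrrCharacter N, charDegree (θ : N → ℂ) = 1
        · exact ⟨1, fun θ => Or.inl (hall' θ)⟩
        · push Not at hall'
          obtain ⟨θ₀, hθ₀⟩ := hall'
          refine ⟨charDegree (θ₀ : N → ℂ), fun θ => ?_⟩
          by_cases hθ : charDegree (θ : N → ℂ) = 1
          · exact Or.inl hθ
          · right
            obtain ⟨hc, j, hj⟩ := key θ hθ
            obtain ⟨hc₀, j₀, hj₀⟩ := key θ₀ hθ₀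
            apply Nat.dvd_antisymm
            · have h1 : charDegree (θ : N → ℂ) ∣ charDegree (θ₀ : N → ℂ) * p ^ j₀ := by
                rw [← hj₀, hj]; exact Dvd.intro _ rfl
              exact (Nat.Coprime.pow_right j₀ hc).dvd_of_dvd_mul_right h1
            · have h1 : charDegree (θ₀ : N → ℂ) ∣ charDegree (θ : N → ℂ) * p ^ j := by
                rw [← hj, hj₀]; exact Dvd.intro _ rfl
              exact (Nat.Coprime.pow_right j hc₀).dvd_of_dvd_mul_right h1
      haveI hNsolv : Group.IsSolvable N := ih (Nat.card N) (hn ▸ hlt) N rfl hNdeg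
      haveI hQ : Group.IsSolvable (G ⧸ N) := by
        haveI : Fact p.Prime := ⟨hp⟩
        have h1 : IsPGroup p (G ⧸ N) := IsPGroup.of_card (n := k) (by
          rw [← Subgroup.index_eq_card]; exact hk)
        haveI h2 := h1.isNilpotent
        infer_instance
      exact Group.isSolvable_of_ker_le_range N.subtype (QuotientGroup.mk' N) (by simp)

/-- A finite group with at most two character degrees is solvable. -/
theorem solvable_of_two_degrees [Finite G] (m : ℕ)
    (hm : ∀ χ : IrrCharacter G, charDegree (χ : G → ℂ) = 1 ∨ charDegree (χ : G → ℂ) = m) :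
    Group.IsSolvable G :=
  solvable_aux (Nat.card G) G rfl ⟨m, hm⟩

end Cfsg.Agent.Lib.Helper3.TDBasic
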