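import Mathlib
import Cfsg.Prelude.Def_Characters
import Cfsg.Agent.Lib.Helper3.Orth

set_option autoImplicit false

namespace Cfsg.Agent.Lib.Helper3.ClassCount

open Cfsg
open scoped ComplexConjugate
open Cfsg.Agent.Lib.Helper3.Irr Cfsg.Agent.Lib.Helper3.Complete Cfsg.Agent.Lib.Helper3.Orth

universe u

variable {G : Type u} [Group G]

/-- The centralizer orders of the elements of a conjugacy class add up to the group order. -/
theorem sum_card_centralizer_class [Fintype G] [DecidableEq (ConjClasses G)]
    (C : ConjClasses G) :
    ∑ g : G, (if ConjClasses.mk g = C then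
      (Nat.card (Subgroup.centralizer ({g} : Set G)) : ℂ) else 0) = (Nat.card G : ℂ) := by
  classical
  obtain ⟨g0, rfl⟩ := ConjClasses.mk_surjective C
  have h1 : ∀ g : G, (if ConjClasses.mk g = ConjClasses.mk g0 then
      (Nat.card (Subgroup.centralizer ({g} : Set G)) : ℂ) else 0)
      = ((Finset.univ.filter (fun y : G => y * g0 * y⁻¹ = g)).card : ℂ) := by
    intro g
    by_cases h : IsConj g g0
    · rw [if_pos (ConjClasses.mk_eq_mk_iff_isConj.2 h), card_conj_eq h]
    · rw [if_neg (fun h' => h (ConjClasses.mk_eq_mk_iff_isConj.1 h')), filter_conj_eq_empty h]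
      simp
  simp only [h1]
  rw [← Nat.cast_sum, Nat.card_eq_fintype_card, ← Finset.card_univ (α := G)]
  congr 1
  exact (Finset.card_eq_sum_card_fiberwise (f := fun y : G => y * g0 * y⁻¹)
    (s := Finset.univ) (t := Finset.univ) (fun _ _ => Finset.mem_univ _)).symm

/-- Counting conjugacy classes with a property by summing centralizer orders over the group. -/
theorem card_classes_eq [Fintype G] (p : ConjClasses G → Prop) [DecidablePred p] :
    ((Nat.card {C : ConjClasses G // p C} : ℕ) : ℂ)
      = (Nat.card G : ℂ)⁻¹ * ∑ g : G, (if p (ConjClasses.mk g) then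
          (Nat.card (Subgroup.centralizer ({g} : Set G)) : ℂ) else 0) := by
  classical
  have : Fintype (ConjClasses G) := Fintype.ofFinite _
  have hcard : (Nat.card G : ℂ) ≠ 0 := by exact_mod_cast Nat.card_pos.ne'
  have h1 : ∀ g : G, (if p (ConjClasses.mk g) then
        (Nat.card (Subgroup.centralizer ({g} : Set G)) : ℂ) else 0)
      = ∑ C : ConjClasses G, (if p C then
          (if ConjClasses.mk g = C then
            (Nat.card (Subgroup.centralizer ({g} : Set G)) : ℂ) else 0) else 0) := by
    intro g
    rw [Finset.sum_eq_single (ConjClasses.mk g)]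
    · simp
    · intro C _ hC
      have hne : ¬ ConjClasses.mk g = C := fun h => hC h.symm
      simp [hne]
    · intro h
      exact absurd (Finset.mem_univ _) h
  simp only [h1]
  rw [Finset.sum_comm]
  have h2 : ∀ C : ConjClasses G, ∑ g : G, (if p C then
          (if ConjClasses.mk g = C then
            (Nat.card (Subgroup.centralizer ({g} : Set G)) : ℂ) else 0) else 0)
      = if p C then (Nat.card G : ℂ) else 0 := by
    intro C
    by_cases h : p C
    · simp only [if_pos h]
      exact sum_card_centralizer_class C
    · simp only [if_neg h]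
      simp
  simp only [h2]
  rw [Nat.card_eq_fintype_card, Fintype.card_subtype, Finset.card_filter, Nat.cast_sum,
    Finset.mul_sum]
  refine Finset.sum_congr rfl (fun C _ => ?_)
  by_cases h : p C
  · rw [if_pos h, if_pos h, inv_mul_cancel₀ hcard]
    simp
  · rw [if_neg h, if_neg h]
    simp

/-- Counting the fixed points of a map on the irreducible characters by inner products. -/
theorem card_irr_fixed_eq [Fintype G] [Fintype (IrrCharacter G)]
    (f : IrrCharacter G → IrrCharacter G) :
    ((Nat.card {χ : IrrCharacter G // f χ = χ} : ℕ) : ℂ)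
      = ∑ χ : IrrCharacter G, classInner (χ : G → ℂ) (f χ : G → ℂ) := by
  classical
  rw [Nat.card_eq_fintype_card, Fintype.card_subtype, Finset.card_filter, Nat.cast_sum]
  refine Finset.sum_congr rfl (fun χ _ => ?_)
  rw [irr_orthonormal]
  by_cases h : f χ = χ
  · rw [if_pos h, if_pos h.symm]
    simp
  · rw [if_neg h, if_neg (fun h' => h h'.symm)]
    simp

/-- Brauer's permutation lemma in a general form: if `f` permutes the irreducible characters
by `(f χ) g = χ (a g)` for a map `a : G → G`, then the number of fixed characters is the number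
of classes `C` such that `g` is conjugate to `a g` for (equivalently) the elements of `C`. -/
theorem card_irr_fixed_eq_card_classes [Finite G] (f : IrrCharacter G → IrrCharacter G)
    (a : G → G) (hf : ∀ χ g, (f χ : G → ℂ) g = (χ : G → ℂ) (a g))
    (p : ConjClasses G → Prop) (hp : ∀ g, p (ConjClasses.mk g) ↔ IsConj g (a g)) :
    Nat.card {χ : IrrCharacter G // f χ = χ} = Nat.card {C : ConjClasses G // p C} := by
  classical
  have : Fintype G := Fintype.ofFinite G
  have := finite_irrCharacter (G := G)
  have : Fintype (IrrCharacter G) := Fintype.ofFinite _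
  have key : ((Nat.card {χ : IrrCharacter G // f χ = χ} : ℕ) : ℂ)
      = ((Nat.card {C : ConjClasses G // p C} : ℕ) : ℂ) := by
    rw [card_irr_fixed_eq, card_classes_eq]
    unfold classInner
    rw [← Finset.mul_sum, Finset.sum_comm]
    congr 1
    refine Finset.sum_congr rfl (fun g _ => ?_)
    have h2 := second_orthogonality_sum g (a g)
    simp only [hf]
    rw [h2]
    by_cases h : IsConj g (a g)
    · rw [if_pos h, if_pos ((hp g).2 h)]
    · rw [if_neg h, if_neg (fun h' => h ((hp g).1 h'))]
  exact_mod_cast key

end Cfsg.Agent.Lib.Helper3.ClassCount
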