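import Mathlib

/-!
# Structure of a Frobenius group `G = K ⋊ H` (elementary facts)

Hypotheses: `K` normal, `K ⊓ H = ⊥`, `K ⊔ H = ⊤`, and no non-identity element of `H` commutes
with a non-identity element of `K`.
-/

set_option autoImplicit false

namespace Cfsg.Agent.Lib.Helper3.Frob

variable {G : Type*} [Group G] {K H : Subgroup G}

theorem exists_mul [K.Normal] (hKH' : K ⊔ H = ⊤) (g : G) : ∃ k ∈ K, ∃ h ∈ H, k * h = g := by
  have h1 : g ∈ (↑(K ⊔ H) : Set G) := by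
    rw [hKH']
    exact Set.mem_univ g
  rw [Subgroup.normal_mul] at h1
  exact Set.mem_mul.1 h1

theorem mul_unique (hKH : K ⊓ H = ⊥) {k k' h h' : G} (hk : k ∈ K) (hk' : k' ∈ K) (hh : h ∈ H)
    (hh' : h' ∈ H) (e : k * h = k' * h') : k = k' ∧ h = h' := by
  have h1 : k'⁻¹ * k = h' * h⁻¹ := by
    rw [inv_mul_eq_iff_eq_mul, ← mul_assoc, eq_mul_inv_iff_mul_eq]
    exact e
  have h2 : k'⁻¹ * k ∈ K ⊓ H :=
    ⟨K.mul_mem (K.inv_mem hk') hk, h1 ▸ H.mul_mem hh' (H.inv_mem hh)⟩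
  rw [hKH, Subgroup.mem_bot] at h2
  have h3 : k = k' := (inv_mul_eq_one.1 h2).symm
  subst h3
  exact ⟨rfl, mul_left_cancel e⟩

/-- Every element `u h` with `u ∈ K`, `1 ≠ h ∈ H` is `K`-conjugate to `h`. -/
theorem exists_conj_eq [Finite G] [K.Normal]
    (hfpf : ∀ h ∈ H, h ≠ 1 → ∀ k ∈ K, h * k = k * h → k = 1) {h : G} (hh : h ∈ H) (h1 : h ≠ 1)
    {u : G} (hu : u ∈ K) : ∃ v ∈ K, v * h * v⁻¹ = u * h := by
  have hN : K.Normal := inferInstance
  let f : K → K := fun v => ⟨v * (h * (v : G)⁻¹ * h⁻¹),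
    K.mul_mem v.2 (hN.conj_mem _ (K.inv_mem v.2) h)⟩
  have hinj : Function.Injective f := by
    intro v w hvw
    have e : (v : G) * (h * (v : G)⁻¹ * h⁻¹) = w * (h * (w : G)⁻¹ * h⁻¹) :=
      congrArg Subtype.val hvw
    have hc : h * ((w : G)⁻¹ * v) = ((w : G)⁻¹ * v) * h := by
      calc h * ((w : G)⁻¹ * v) = ((w : G)⁻¹ * (w * (h * (w : G)⁻¹ * h⁻¹))) * h * v := by group
        _ = ((w : G)⁻¹ * (v * (h * (v : G)⁻¹ * h⁻¹))) * h * v := by rw [e]
        _ = ((w : G)⁻¹ * v) * h := by group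
    have h2 := hfpf h hh h1 ((w : G)⁻¹ * v) (K.mul_mem (K.inv_mem w.2) v.2) hc
    exact Subtype.ext (inv_mul_eq_one.1 h2).symm
  obtain ⟨v, hv⟩ := Finite.surjective_of_injective hinj ⟨u, hu⟩
  refine ⟨v, v.2, ?_⟩
  have h3 : (v : G) * (h * (v : G)⁻¹ * h⁻¹) = u := congrArg Subtype.val hv
  rw [← h3]
  group

/-- The centralizer of a non-identity element of `H` lies in `H`. -/
theorem mem_H_of_commute [K.Normal] (hKH : K ⊓ H = ⊥) (hKH' : K ⊔ H = ⊤)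
    (hfpf : ∀ h ∈ H, h ≠ 1 → ∀ k ∈ K, h * k = k * h → k = 1) {h y : G} (hh : h ∈ H) (h1 : h ≠ 1)
    (hc : y * h = h * y) : y ∈ H := by
  have hN : K.Normal := inferInstance
  obtain ⟨k, hk, h₁, hh₁, rfl⟩ := exists_mul hKH' y
  have e : k * (h₁ * h) = (h * k * h⁻¹) * (h * h₁) := by
    rw [← mul_assoc, hc]
    group
  obtain ⟨e1, -⟩ := mul_unique hKH hk (hN.conj_mem k hk h) (H.mul_mem hh₁ hh) (H.mul_mem hh hh₁) e
  have h2 : h * k = k * h := by
    calc h * k = (h * k * h⁻¹) * h := by group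
      _ = k * h := by rw [← e1]
  have hk1 := hfpf h hh h1 k hk h2
  rw [hk1, one_mul]
  exact hh₁

/-- The centralizer of a non-identity element of `K` lies in `K`. -/
theorem mem_K_of_commute [Finite G] [K.Normal] (hKH' : K ⊔ H = ⊤)
    (hfpf : ∀ h ∈ H, h ≠ 1 → ∀ k ∈ K, h * k = k * h → k = 1) {x y : G} (hx : x ∈ K) (x1 : x ≠ 1)
    (hc : y * x = x * y) : y ∈ K := by
  have hN : K.Normal := inferInstance
  obtain ⟨u, hu, h, hh, rfl⟩ := exists_mul hKH' y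
  by_cases h1 : h = 1
  · subst h1
    simpa using hu
  · exfalso
    obtain ⟨v, hv, e⟩ := exists_conj_eq hfpf hh h1 hu
    rw [← e] at hc
    have h2 : h * (v⁻¹ * x * v) = (v⁻¹ * x * v) * h := by
      calc h * (v⁻¹ * x * v) = v⁻¹ * (v * h * v⁻¹ * x) * v := by group
        _ = v⁻¹ * (x * (v * h * v⁻¹)) * v := by rw [hc]
        _ = (v⁻¹ * x * v) * h := by group
    have hx' : v⁻¹ * x * v ∈ K := by
      have := hN.conj_mem x hx v⁻¹
      rwa [inv_inv] at this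
    have h3 := hfpf h hh h1 _ hx' h2
    apply x1
    calc x = v * (v⁻¹ * x * v) * v⁻¹ := by group
      _ = 1 := by rw [h3]; group

/-- A non-identity element of `K` is not `K`-conjugate to its conjugate by a non-identity
element of `H`. -/
theorem eq_one_of_isConj_conj [Finite G] [K.Normal] (hKH : K ⊓ H = ⊥) (hKH' : K ⊔ H = ⊤)
    (hfpf : ∀ h ∈ H, h ≠ 1 → ∀ k ∈ K, h * k = k * h → k = 1) {h : G} (hh : h ∈ H) (h1 : h ≠ 1)
    {k : G} (hk : k ∈ K) {c : G} (hc : c ∈ K) (e : c * k * c⁻¹ = h * k * h⁻¹) : k = 1 := by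
  by_contra hk1
  have h2 : (c⁻¹ * h) * k = k * (c⁻¹ * h) := by
    calc (c⁻¹ * h) * k = c⁻¹ * (h * k * h⁻¹) * h := by group
      _ = c⁻¹ * (c * k * c⁻¹) * h := by rw [e]
      _ = k * (c⁻¹ * h) := by group
  have h3 : c⁻¹ * h ∈ K := mem_K_of_commute hKH' hfpf hk hk1 h2
  have h4 : h ∈ K := by
    have := K.mul_mem hc h3
    rwa [mul_inv_cancel_left] at this
  have h5 : h ∈ K ⊓ H := ⟨h4, hh⟩
  rw [hKH, Subgroup.mem_bot] at h5
  exact h1 h5

end Cfsg.Agent.Lib.Helper3.Frob
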