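import Mathlib
import Cfsg.Agent.Lib.Helper3.TDBasic
import Cfsg.Agent.Lib.Helper3.MGroup
import Cfsg.Agent.Lib.Helper78.CliffordCorr
import Cfsg.Agent.Lib.Helper78.Gallagher
import Cfsg.Agent.Lib.CT.LinChar
import Cfsg.Agent.Lib.CT.NormOne

/-!
Two character degrees, Frobenius-type section (Isaacs 12.4/12.5): if `K ≤ N` are normal in `G`,
`N/K` is an abelian `p`-group on which the elements outside `N` act fixed-point-freely, `[G:N]` is
prime to `p`, and `cd(G) = {1, m}`, then `m = [G:N]` and `N` is abelian.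
-/

set_option autoImplicit false

namespace Cfsg.Agent.Lib.Helper3.TDFrob

open Cfsg Cfsg.Agent.Lib.Helper80.Integrality Cfsg.Agent.Lib.Helper80.Restrict
open Cfsg.Agent.Lib.CT.Wedderburn Cfsg.Agent.Lib.CT.Orth
open Cfsg.Agent.Lib.CT.FrobRec Cfsg.Agent.Lib.CT.IndChar
open Cfsg.Agent.Lib.CT.Clifford Cfsg.Agent.Lib.CT.LinChar
open Cfsg.Agent.Lib.Helper3.TDBasic
open Cfsg.Agent.Lib.Helper78.CliffordCorr
open scoped ComplexConjugate

universe u
variable {G : Type u} [Group G]

theorem charDegree_of_apply_one {A : Type*} [Group A] {μ : A → ℂ} (h : μ 1 = 1) :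
    charDegree μ = 1 := by
  simp [charDegree, h]

theorem frobenius_section [Finite G] (m : ℕ)
    (hcd : ∀ χ : IrrCharacter G, charDegree (χ : G → ℂ) = 1 ∨ charDegree (χ : G → ℂ) = m)
    (K N : Subgroup G) (hKn : K.Normal) (hNn : N.Normal) (hKN : K ≤ N) (hNtop : N ≠ ⊤)
    (p : ℕ) (hp : p.Prime) (hpN : ¬ p ∣ N.index) (hrel : ∃ j, K.relIndex N = p ^ j)
    (hlt : N.index < K.relIndex N)
    (hab : ∀ a ∈ N, ∀ b ∈ N, (b * a)⁻¹ * (a * b) ∈ K)
    (hfree : ∀ g : G, g ∉ N → ∀ n ∈ N, ∃ x ∈ N, ∃ k ∈ K, n = g * x * g⁻¹ * x⁻¹ * k) :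
    m = N.index ∧ ∀ a ∈ N, ∀ b ∈ N, a * b = b * a := by
  classical
  haveI := Fintype.ofFinite G
  haveI : Fintype N := Fintype.ofFinite N
  haveI := hNn
  set K' : Subgroup N := K.subgroupOf N with hK'
  haveI hK'n : K'.Normal := hKn.subgroupOf N
  haveI : Fintype K' := Fintype.ofFinite _
  have hK'idx : K'.index = K.relIndex N := rfl
  have hcf : ∀ (β : N → ℂ), IsClassFunction N β → ∀ g : G, g ∈ N →
      ∀ n : N, β ⟨g * n * g⁻¹, hNn.conj_mem (n : G) n.2 g⟩ = β n := by
    intro β hβ g hg n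
    have h := hβ n ⟨g, hg⟩
    have e : (⟨g * n * g⁻¹, hNn.conj_mem (n : G) n.2 g⟩ : N) = ⟨g, hg⟩ * n * ⟨g, hg⟩⁻¹ :=
      Subtype.ext (by simp)
    rw [e]
    exact h
  -- linear characters killing K and invariant under some g ∉ N are trivial
  have hkill : ∀ (β : N → ℂ), IsCharacter N β → β 1 = 1 → (∀ k : N, (k : G) ∈ K → β k = 1) →
      ∀ g : G, g ∉ N → (∀ n : N, β ⟨g * n * g⁻¹, hNn.conj_mem (n : G) n.2 g⟩ = β n) →
      ∀ n : N, β n = 1 := by
    intro β hβ hβ1 hβK g hg hinv n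
    obtain ⟨x, hx, k, hk, hn⟩ := hfree g hg n n.2
    have e : n = (⟨g * x * g⁻¹, hNn.conj_mem x hx g⟩ : N) * (⟨x, hx⟩ : N)⁻¹ * ⟨k, hKN hk⟩ :=
      Subtype.ext (by simpa using hn)
    have h1 := hinv ⟨x, hx⟩
    rw [e, linear_mul hβ hβ1, linear_mul hβ hβ1, linear_inv hβ hβ1, h1, hβK ⟨k, hKN hk⟩ hk, mul_one,
      mul_inv_cancel₀ (linear_ne_zero hβ hβ1 _)]
  -- a nontrivial linear character of N trivial on K
  have hNK : ∃ lam : N → ℂ, IsCharacter N lam ∧ lam 1 = 1 ∧
      (∀ k : N, (k : G) ∈ K → lam k = 1) ∧ ∃ n, lam n ≠ 1 := by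
    have hcommQ : ∀ a b : N ⧸ K', a * b = b * a := by
      intro a b
      induction a using QuotientGroup.induction_on with
      | _ a =>
      induction b using QuotientGroup.induction_on with
      | _ b =>
      rw [← QuotientGroup.mk_mul, ← QuotientGroup.mk_mul]
      apply QuotientGroup.eq.2
      rw [hK', Subgroup.mem_subgroupOf]
      simpa using hab b b.2 a a.2
    have hcardQ : 1 < Nat.card (N ⧸ K') := by
      rw [← Subgroup.index_eq_card, hK'idx]
      have h0 : N.index ≠ 0 := Subgroup.index_ne_zero_of_finite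
      omega
    haveI : Nontrivial (N ⧸ K') := (Finite.one_lt_card_iff_nontrivial).1 hcardQ
    obtain ⟨a, ha⟩ := exists_ne (1 : N ⧸ K')
    obtain ⟨χ, hχ⟩ : ∃ χ : IrrCharacter (N ⧸ K'), (χ : N ⧸ K' → ℂ) a ≠ (χ : N ⧸ K' → ℂ) 1 := by
      by_contra h
      push Not at h
      have h1 := isConj_of_irr_eq a 1 h
      exact ha (isConj_one_left.1 h1)
    have hχ1 : (χ : N ⧸ K' → ℂ) 1 = 1 :=
      Cfsg.Agent.Lib.Helper3.MGroup.apply_one_eq_one_of_comm χ.2 (fun x y => by
        rw [commutatorElement_eq_one_iff_mul_comm.2 (hcommQ x y)])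
    obtain ⟨n, rfl⟩ := QuotientGroup.mk_surjective a
    refine ⟨fun n : N => (χ : N ⧸ K' → ℂ) (n : N ⧸ K'),
      Cfsg.Agent.Lib.CT.Kernel.isCharacter_inflation K' (isCharacter_of_irr χ.2), hχ1, ?_,
      n, ?_⟩
    · intro k hk
      have h1 : ((k : N) : N ⧸ K') = 1 := (QuotientGroup.eq_one_iff k).2 (by
        rw [hK', Subgroup.mem_subgroupOf]; exact hk)
      show (χ : N ⧸ K' → ℂ) (k : N ⧸ K') = 1
      rw [h1, hχ1]
    · show (χ : N ⧸ K' → ℂ) (n : N ⧸ K') ≠ 1
      rw [← hχ1]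
      exact hχ
  obtain ⟨lam, hlam, hlam1, hlamK, n₀, hn₀⟩ := hNK
  have hlamirr : IsIrrCharacter N lam := isIrrCharacter_of_linear hlam hlam1
  have hT : ∀ g : G, g ∈ N ↔
      ∀ n : N, lam ⟨g * n * g⁻¹, hNn.conj_mem (n : G) n.2 g⟩ = lam n := by
    intro g
    constructor
    · intro hg n
      exact hcf lam (char_isClassFunction hlam) g hg n
    · intro hinv
      by_contra hg
      exact hn₀ (hkill lam hlam hlam1 hlamK g hg hinv n₀)
  have hidx1 : N.index ≠ 1 := fun h => hNtop (Subgroup.index_eq_one.1 h)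
  have hm : m = N.index := by
    obtain ⟨χ, hcon, -, -⟩ := exists_over N ⟨lam, hlamirr⟩
    obtain ⟨ψ, e, hψ, hind, he0, he, hψH, hdeg⟩ :=
      clifford_corr N hNn lam hlamirr N hT le_rfl (χ : G → ℂ) χ.2 hcon
    have he1 : e = 1 := by
      have h2 : ψ = (e : ℂ) • lam := by
        funext n
        have h3 := hψH n
        simpa using h3
      have h1 : classInner ψ lam = e := by
        rw [h2, Cfsg.Agent.Lib.CT.Orth.classInner_smul_left,
          Cfsg.Agent.Lib.CT.NormOne.inner_self_eq_one_of_irr hlamirr, mul_one]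
      have h3 := Cfsg.Agent.Lib.Helper3.Irr.irr_orthonormal (⟨ψ, hψ⟩ : IrrCharacter N)
        ⟨lam, hlamirr⟩
      simp only at h3
      rw [h1] at h3
      by_cases h4 : (⟨ψ, hψ⟩ : IrrCharacter N) = ⟨lam, hlamirr⟩
      · rw [if_pos h4] at h3
        exact_mod_cast h3
      · rw [if_neg h4] at h3
        exact absurd (by exact_mod_cast h3) he0
    have hχdeg : charDegree (χ : G → ℂ) = N.index := by
      rw [hdeg, he1, charDegree_of_apply_one hlam1]
      ring
    rcases hcd χ with h | h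
    · rw [hχdeg] at h
      exact absurd h hidx1
    · rw [← h, hχdeg]
  have hpm : ¬ p ∣ m := by rw [hm]; exact hpN
  -- restrictions to K are irreducible
  have hres : ∀ ψ : IrrCharacter N, IsIrrCharacter K' (fun k : K' => (ψ : N → ℂ) k) := by
    intro ψ
    obtain ⟨χ, -, hd1, -⟩ := exists_over N ψ
    have hψm : charDegree (ψ : N → ℂ) ∣ m := by
      rcases hcd χ with h | h
      · rw [h] at hd1
        rw [Nat.dvd_one.1 hd1]
        exact one_dvd _
      · rwa [h] at hd1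
    have hψp : ¬ p ∣ charDegree (ψ : N → ℂ) := fun h => hpm (dvd_trans h hψm)
    have hresc : IsCharacter K' (fun k : K' => (ψ : N → ℂ) k) :=
      Cfsg.Agent.Lib.CT.Ops.isCharacter_restrict K' (isCharacter_of_irr ψ.2)
    haveI := finite_irrCharacter K'
    haveI := Fintype.ofFinite (IrrCharacter K')
    obtain ⟨mm, hmm1, hmm2, hmm3, -⟩ := exists_mult hresc
    have hdegres : charDegree (fun k : K' => (ψ : N → ℂ) k) = charDegree (ψ : N → ℂ) := rfl
    obtain ⟨θ, hθ⟩ : ∃ θ : IrrCharacter K', mm θ ≠ 0 := by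
      by_contra h
      push Not at h
      have h0 : charDegree (ψ : N → ℂ) = 0 := by
        rw [← hdegres, hmm3]
        simp [h]
      exact (charDegree_pos ψ).ne' h0
    have hconθ : classInner (fun k : K' => (ψ : N → ℂ) k) (θ : K' → ℂ) ≠ 0 := by
      rw [hmm1 θ]
      exact_mod_cast hθ
    obtain ⟨hdd1, hdd2⟩ := deg_of_constituent K' θ ψ hconθ
    obtain ⟨j, hj⟩ := hrel
    rw [hK'idx, hj] at hdd2
    obtain ⟨i, -, hi⟩ := (Nat.dvd_prime_pow hp).1 hdd2
    have hi0 : i = 0 := by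
      by_contra hi0
      apply hψp
      have h1 : p ∣ charDegree (ψ : N → ℂ) / charDegree (θ : K' → ℂ) := by
        rw [hi]
        exact dvd_pow_self p hi0
      exact dvd_trans h1 (Nat.div_dvd_of_dvd hdd1)
    have hdeq : charDegree (θ : K' → ℂ) = charDegree (ψ : N → ℂ) := by
      rw [hi0, pow_zero] at hi
      have h1 := Nat.div_mul_cancel hdd1
      rw [hi, one_mul] at h1
      exact h1
    have hsum : charDegree (ψ : N → ℂ) =
        ∑ φ : IrrCharacter K', mm φ * charDegree (φ : K' → ℂ) := by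
      rw [← hdegres, hmm3]
    have hpos := charDegree_pos θ
    have hmmθ1 : mm θ = 1 := by
      have h1 : mm θ * charDegree (θ : K' → ℂ) ≤
          ∑ φ : IrrCharacter K', mm φ * charDegree (φ : K' → ℂ) :=
        Finset.single_le_sum (f := fun φ : IrrCharacter K' => mm φ * charDegree (φ : K' → ℂ))
          (fun _ _ => Nat.zero_le _) (Finset.mem_univ θ)
      rw [← hsum, ← hdeq] at h1
      have h2 : mm θ ≤ 1 := by
        by_contra h3
        push Not at h3
        nlinarith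
      have h3 : 1 ≤ mm θ := Nat.pos_of_ne_zero hθ
      omega
    have hmmθ2 : ∀ φ : IrrCharacter K', φ ≠ θ → mm φ = 0 := by
      intro φ hφ
      by_contra hφ0
      have h2 : mm θ * charDegree (θ : K' → ℂ) + mm φ * charDegree (φ : K' → ℂ) ≤
          ∑ φ : IrrCharacter K', mm φ * charDegree (φ : K' → ℂ) := by
        rw [← Finset.sum_pair (f := fun φ : IrrCharacter K' => mm φ * charDegree (φ : K' → ℂ))
          hφ.symm]
        exact Finset.sum_le_sum_of_subset (Finset.subset_univ _)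
      rw [← hsum, ← hdeq, hmmθ1] at h2
      have hposφ := charDegree_pos φ
      have h3 : 0 < mm φ * charDegree (φ : K' → ℂ) :=
        Nat.mul_pos (Nat.pos_of_ne_zero hφ0) hposφ
      omega
    have heq : (fun k : K' => (ψ : N → ℂ) k) = (θ : K' → ℂ) := by
      funext k
      rw [hmm2 k, Finset.sum_eq_single θ]
      · rw [hmmθ1]
        simp
      · intro φ _ hφ
        rw [hmmθ2 φ hφ]
        simp
      · intro h
        exact absurd (Finset.mem_univ θ) h
    rw [heq]
    exact θ.2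
  -- all irreducible characters of N are linear
  have hlin : ∀ ψ : IrrCharacter N, charDegree (ψ : N → ℂ) = 1 := by
    by_contra hcon
    push Not at hcon
    obtain ⟨ψ₀, hψ₀⟩ := hcon
    set θ : K' → ℂ := fun k => (ψ₀ : N → ℂ) k with hθdef
    have hθirr : IsIrrCharacter K' θ := hres ψ₀
    haveI := finite_irrCharacter N
    haveI := Fintype.ofFinite (IrrCharacter N)
    let S : Finset (IrrCharacter N) :=
      Finset.univ.filter (fun ψ => ∀ k : K', (ψ : N → ℂ) k = θ k)
    have hSmem : ∀ ψ : IrrCharacter N, ψ ∈ S ↔ ∀ k : K', (ψ : N → ℂ) k = θ k := by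
      intro ψ
      simp [S]
    have hdegS : ∀ ψ ∈ S, charDegree (ψ : N → ℂ) = charDegree θ := by
      intro ψ hψ
      have h := (hSmem ψ).1 hψ 1
      show ⌊((ψ : N → ℂ) 1).re⌋₊ = ⌊(θ 1).re⌋₊
      rw [← h]
      rfl
    have hθpos : 0 < charDegree θ := charDegree_pos ⟨θ, hθirr⟩
    have hScard : S.card = K'.index := by
      have hind : IsCharacter N (indFun K' θ) :=
        isCharacter_indFun K' θ (isCharacter_of_irr hθirr)
      obtain ⟨mm, hmm1, -, hmm3, -⟩ := exists_mult hind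
      have hmmval : ∀ ψ : IrrCharacter N, mm ψ = if ψ ∈ S then 1 else 0 := by
        intro ψ
        have h1 := hmm1 ψ
        rw [frobenius_reciprocity K' θ (ψ : N → ℂ) (irr_isClassFunction ψ)] at h1
        have h2 := Cfsg.Agent.Lib.Helper3.Irr.irr_orthonormal (⟨θ, hθirr⟩ : IrrCharacter K')
          ⟨fun k : K' => (ψ : N → ℂ) k, hres ψ⟩
        simp only at h2
        rw [h2] at h1
        by_cases hψS : ψ ∈ S
        · have h3 : (⟨θ, hθirr⟩ : IrrCharacter K') = ⟨fun k : K' => (ψ : N → ℂ) k, hres ψ⟩ :=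
            Subtype.ext (funext fun k => ((hSmem ψ).1 hψS k).symm)
          rw [if_pos h3] at h1
          rw [if_pos hψS]
          exact_mod_cast h1.symm
        · have h3 : ¬ (⟨θ, hθirr⟩ : IrrCharacter K') =
              ⟨fun k : K' => (ψ : N → ℂ) k, hres ψ⟩ := by
            intro h
            apply hψS
            rw [hSmem]
            exact fun k => (congrFun (congrArg Subtype.val h) k).symm
          rw [if_neg h3] at h1
          rw [if_neg hψS]
          exact_mod_cast h1.symm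
      rw [Cfsg.Agent.Lib.Helper80.IndDeg.charDegree_indFun K' θ (isCharacter_of_irr hθirr)] at hmm3
      have hsum : ∑ ψ : IrrCharacter N, mm ψ * charDegree (ψ : N → ℂ) = S.card * charDegree θ := by
        have h1 : ∀ ψ : IrrCharacter N, mm ψ * charDegree (ψ : N → ℂ) =
            if ψ ∈ S then charDegree θ else 0 := by
          intro ψ
          rw [hmmval ψ]
          by_cases hψS : ψ ∈ S
          · rw [if_pos hψS, if_pos hψS, one_mul, hdegS ψ hψS]
          · rw [if_neg hψS, if_neg hψS, zero_mul]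
        rw [Finset.sum_congr rfl (fun ψ _ => h1 ψ), Finset.sum_ite_mem, Finset.univ_inter,
          Finset.sum_const, smul_eq_mul]
      rw [hsum] at hmm3
      exact (Nat.eq_of_mul_eq_mul_right hθpos hmm3).symm
    have hdθ : charDegree θ = charDegree (ψ₀ : N → ℂ) := rfl
    -- each ψ ∈ S is fixed by some element outside N
    have hout : ∀ ψ : IrrCharacter N, ψ ∈ S → ∃ g : G, g ∉ N ∧
        ∀ n : N, (ψ : N → ℂ) ⟨g * n * g⁻¹, hNn.conj_mem (n : G) n.2 g⟩ = (ψ : N → ℂ) n := by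
      intro ψ hψS
      by_contra hcon2
      push Not at hcon2
      have hT' : ∀ g : G, g ∈ N ↔
          ∀ n : N, (ψ : N → ℂ) ⟨g * n * g⁻¹, hNn.conj_mem (n : G) n.2 g⟩ = (ψ : N → ℂ) n := by
        intro g
        constructor
        · intro hg n
          exact hcf _ (irr_isClassFunction ψ) g hg n
        · intro hinv
          by_contra hg
          obtain ⟨n, hn⟩ := hcon2 g hg
          exact hn (hinv n)
      obtain ⟨χ, hcon, -, -⟩ := exists_over N ψ
      obtain ⟨ψ', e, -, -, he0, -, -, hdeg⟩ :=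
        clifford_corr N hNn (ψ : N → ℂ) ψ.2 N hT' le_rfl (χ : G → ℂ) χ.2 hcon
      have hdψ : charDegree (ψ : N → ℂ) ≠ 1 := by
        rw [hdegS ψ hψS, hdθ]
        exact hψ₀
      have hdpos := charDegree_pos ψ
      have he1 : 1 ≤ e := Nat.pos_of_ne_zero he0
      have hi1 : 1 ≤ N.index := Nat.pos_of_ne_zero Subgroup.index_ne_zero_of_finite
      have hd2 : 2 ≤ charDegree (ψ : N → ℂ) := by omega
      have hbig : 2 * N.index ≤ e * N.index * charDegree (ψ : N → ℂ) := by
        calc 2 * N.index ≤ charDegree (ψ : N → ℂ) * N.index := Nat.mul_le_mul_right _ hd2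
          _ = 1 * N.index * charDegree (ψ : N → ℂ) := by ring
          _ ≤ e * N.index * charDegree (ψ : N → ℂ) :=
            Nat.mul_le_mul_right _ (Nat.mul_le_mul_right _ he1)
      rcases hcd χ with h | h
      · rw [hdeg] at h
        omega
      · rw [hdeg, hm] at h
        omega
    choose! gsel hgsel using hout
    have claim : ∀ ψ₁ ψ₂ : IrrCharacter N, ψ₁ ∈ S → ψ₂ ∈ S → ∀ g : G, g ∉ N →
        (∀ n : N, (ψ₁ : N → ℂ) ⟨g * n * g⁻¹, hNn.conj_mem (n : G) n.2 g⟩ = (ψ₁ : N → ℂ) n) →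
        (∀ n : N, (ψ₂ : N → ℂ) ⟨g * n * g⁻¹, hNn.conj_mem (n : G) n.2 g⟩ = (ψ₂ : N → ℂ) n) →
        ψ₁ = ψ₂ := by
      intro ψ₁ ψ₂ h₁ h₂ g hgN hf₁ hf₂
      have hr₁ := (hSmem ψ₁).1 h₁
      have hr₂ := (hSmem ψ₂).1 h₂
      have hone : IsIrrCharacter K' (fun _ => (1 : ℂ)) := Cfsg.Agent.Lib.CT.Ops.isIrrCharacter_one
      have e1 : (fun k : K' => (fun _ : K' => (1 : ℂ)) k * (ψ₁ : N → ℂ) k) = θ := by
        funext k
        simp [hr₁ k]
      have hprod : IsIrrCharacter K' (fun k : K' => (fun _ : K' => (1 : ℂ)) k * (ψ₁ : N → ℂ) k) := by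
        rw [e1]
        exact hθirr
      obtain ⟨-, hG2, hG3⟩ := Cfsg.Agent.Lib.Helper78.Gallagher.gallagher_core K' hK'n
        (fun _ => (1 : ℂ)) hone (fun _ _ => rfl) (ψ₁ : N → ℂ) ψ₁.2 hprod
      have hc2 : classInner (indFun K' (fun k : K' => (fun _ : K' => (1 : ℂ)) k * (ψ₁ : N → ℂ) k))
          (ψ₂ : N → ℂ) ≠ 0 := by
        rw [frobenius_reciprocity K' _ (ψ₂ : N → ℂ) (irr_isClassFunction ψ₂)]
        have e2 : (fun k : K' => (ψ₂ : N → ℂ) k) = θ := funext hr₂
        rw [e1, e2, Cfsg.Agent.Lib.CT.NormOne.inner_self_eq_one_of_irr hθirr]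
        exact one_ne_zero
      obtain ⟨β, hβ1, hβ2⟩ := hG3 ψ₂ hc2
      have hβdeg : (β : N → ℂ) 1 = 1 := by
        have h := congrFun hβ2 1
        rw [Pi.mul_apply] at h
        have h1' : (ψ₂ : N → ℂ) 1 = (ψ₁ : N → ℂ) 1 := by
          have a := hr₁ 1
          have b := hr₂ 1
          simp only [Subgroup.coe_one] at a b
          rw [a, b]
        rw [h1'] at h
        have hne : (ψ₁ : N → ℂ) 1 ≠ 0 :=
          Cfsg.Agent.Lib.Helper3.Irr.IsIrrCharacter.apply_one_ne_zero ψ₁.2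
        exact mul_right_cancel₀ hne (by rw [h, one_mul])
      have hβc : IsCharacter N (β : N → ℂ) := isCharacter_of_irr β.2
      have hβK : ∀ k : N, (k : G) ∈ K → (β : N → ℂ) k = 1 := by
        have hβ1' := hβ1
        rw [frobenius_reciprocity K' _ (β : N → ℂ) (irr_isClassFunction β)] at hβ1'
        have hβres : IsIrrCharacter K' (fun k : K' => (β : N → ℂ) k) :=
          isIrrCharacter_of_linear (Cfsg.Agent.Lib.CT.Ops.isCharacter_restrict K' hβc)
            (by simpa using hβdeg)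
        have h := Cfsg.Agent.Lib.Helper3.Irr.irr_orthonormal
          (⟨fun _ => 1, hone⟩ : IrrCharacter K') ⟨_, hβres⟩
        simp only at h
        rw [h] at hβ1'
        by_cases heq : (⟨fun _ => 1, hone⟩ : IrrCharacter K') = ⟨_, hβres⟩
        · intro k hk
          have h3 := congrFun (congrArg Subtype.val heq) ⟨k, by
            rw [hK', Subgroup.mem_subgroupOf]; exact hk⟩
          exact h3.symm
        · rw [if_neg heq] at hβ1'
          exact absurd rfl hβ1'
      set β' : N → ℂ := conjFun N hNn (β : N → ℂ) g with hβ'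
      have hβ'irr : IsIrrCharacter N β' := isIrrCharacter_conjFun N hNn β.2 g
      have hβ'K : ∀ k : K', β' k = 1 := by
        intro k
        rw [hβ', conjFun_apply]
        exact hβK _ (hKn.conj_mem _ (Subgroup.mem_subgroupOf.1 k.2) g)
      have hβ'1 : classInner (indFun K' (fun _ => (1 : ℂ))) β' ≠ 0 := by
        rw [frobenius_reciprocity K' _ β' (char_isClassFunction (isCharacter_of_irr hβ'irr))]
        have e : (fun k : K' => β' k) = fun _ => (1 : ℂ) := funext hβ'K
        rw [e, Cfsg.Agent.Lib.CT.NormOne.inner_self_eq_one_of_irr hone]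
        exact one_ne_zero
      have hmul : (β' : N → ℂ) * (ψ₁ : N → ℂ) = (β : N → ℂ) * (ψ₁ : N → ℂ) := by
        funext n
        rw [Pi.mul_apply, Pi.mul_apply, hβ', conjFun_apply]
        have a := congrFun hβ2 ⟨g * n * g⁻¹, hNn.conj_mem n n.2 g⟩
        have b := congrFun hβ2 n
        rw [Pi.mul_apply] at a b
        rw [← hf₁ n, a, hf₂ n, ← b, hf₁ n]
      have hββ' : (⟨β', hβ'irr⟩ : IrrCharacter N) = β := hG2 ⟨β', hβ'irr⟩ β hβ'1 hβ1 hmul
      have hβinv : ∀ n : N, (β : N → ℂ) ⟨g * n * g⁻¹, hNn.conj_mem (n : G) n.2 g⟩ =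
          (β : N → ℂ) n := by
        intro n
        have h := congrFun (congrArg Subtype.val hββ') n
        exact h
      have hβone := hkill (β : N → ℂ) hβc hβdeg hβK g hgN hβinv
      apply Subtype.ext
      funext n
      have b := congrFun hβ2 n
      rw [Pi.mul_apply, hβone n, one_mul] at b
      exact b
    have hinj : ∀ ψ₁ ∈ S, ∀ ψ₂ ∈ S, (gsel ψ₁ : G ⧸ N) = (gsel ψ₂ : G ⧸ N) → ψ₁ = ψ₂ := by
      intro ψ₁ h₁ ψ₂ h₂ hq
      have hgN : gsel ψ₂ ∉ N := (hgsel ψ₂ h₂).1
      have hfix₂ := (hgsel ψ₂ h₂).2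
      have hfix₁ : ∀ n : N, (ψ₁ : N → ℂ)
          ⟨gsel ψ₂ * n * (gsel ψ₂)⁻¹, hNn.conj_mem (n : G) n.2 (gsel ψ₂)⟩ = (ψ₁ : N → ℂ) n := by
        have h1 : gsel ψ₁ ∈ inertia N hNn (ψ₁ : N → ℂ) :=
          (mem_inertia N hNn _ _).2 (hgsel ψ₁ h₁).2
        have h2 : (gsel ψ₁)⁻¹ * gsel ψ₂ ∈ N := QuotientGroup.eq.1 hq
        have h3 : (gsel ψ₁)⁻¹ * gsel ψ₂ ∈ inertia N hNn (ψ₁ : N → ℂ) :=
          le_inertia N hNn (irr_isClassFunction ψ₁) h2
        have h4 := Subgroup.mul_mem _ h1 h3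
        rw [mul_inv_cancel_left] at h4
        exact (mem_inertia N hNn _ _).1 h4
      exact claim ψ₁ ψ₂ h₁ h₂ (gsel ψ₂) hgN hfix₁ hfix₂
    haveI := Fintype.ofFinite (G ⧸ N)
    have hcount : S.card ≤ N.index - 1 := by
      have h1 : (S.image (fun ψ => (gsel ψ : G ⧸ N))).card = S.card :=
        Finset.card_image_of_injOn (fun ψ₁ h₁ ψ₂ h₂ h => hinj ψ₁ h₁ ψ₂ h₂ h)
      have h2 : S.image (fun ψ => (gsel ψ : G ⧸ N)) ⊆ Finset.univ.erase (1 : G ⧸ N) := by
        intro q hq
        obtain ⟨ψ, hψ, rfl⟩ := Finset.mem_image.1 hq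
        rw [Finset.mem_erase]
        refine ⟨?_, Finset.mem_univ _⟩
        intro h
        exact (hgsel ψ hψ).1 ((QuotientGroup.eq_one_iff _).1 h)
      have h3 := Finset.card_le_card h2
      rw [h1, Finset.card_erase_of_mem (Finset.mem_univ _), Finset.card_univ,
        ← Nat.card_eq_fintype_card, ← Subgroup.index_eq_card] at h3
      exact h3
    rw [hScard, hK'idx] at hcount
    omega
  have hcommN := comm_of_forall_degree_one hlin
  exact ⟨hm, fun a ha b hb => by simpa using congrArg Subtype.val (hcommN ⟨a, ha⟩ ⟨b, hb⟩)⟩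

end Cfsg.Agent.Lib.Helper3.TDFrob
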