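import Mathlib
import Cfsg.Agent.Lib.Helper25.ACStmt
import Cfsg.Agent.Lib.Helper25.ACOddStmt

set_option autoImplicit false

/-! S3911 piece PCOMPL (from `Burn`, applied to the group `↥(M ⊔ P)`): the `p'`-elements of `M`
form a normal subgroup `K` of `G` with `[M : K]` a power of `p`. -/

namespace Cfsg.Agent.Lib.Helper3.AOPCOMPL

open Cfsg.Agent.Lib.Helper25.ACStmt Cfsg.Agent.Lib.Helper25.ACOddStmt

universe u

theorem main (hB : Burn.{u}) : PCompl.{u} := by
  intro G _ _ p _ P hcyc M hM hPM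
  have hp : p.Prime := Fact.out
  have hML : M ≤ M ⊔ (P : Subgroup G) := le_sup_left
  have hPL : (P : Subgroup G) ≤ M ⊔ (P : Subgroup G) := le_sup_right
  obtain ⟨L, hL⟩ : ∃ L : Subgroup G, L = M ⊔ (P : Subgroup G) := ⟨_, rfl⟩
  rw [← hL] at hML hPL
  obtain ⟨P', hP'⟩ : ∃ P' : Sylow p L, (P' : Subgroup L) = (P : Subgroup G).subgroupOf L :=
    ⟨P.subtype hPL, rfl⟩
  have hcyc' : IsCyclic ↥(P' : Subgroup L) := by
    rw [hP']
    haveI := hcyc
    exact isCyclic_of_surjective (Subgroup.subgroupOfEquivOfLe hPL).symm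
      (Subgroup.subgroupOfEquivOfLe hPL).symm.surjective
  haveI := hM
  have hM' : (M.subgroupOf L).Normal := inferInstance
  have hnle : ¬ (P' : Subgroup L) ≤ M.subgroupOf L := by
    intro hle
    apply hPM
    intro x hx
    have hx' : (⟨x, hPL hx⟩ : L) ∈ (P' : Subgroup L) := by
      rw [hP', Subgroup.mem_subgroupOf]
      exact hx
    exact Subgroup.mem_subgroupOf.mp (hle hx')
  have htop : M.subgroupOf L ⊔ (P' : Subgroup L) = ⊤ := by
    rw [hP', ← Subgroup.subgroupOf_sup hML hPL, ← hL]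
    exact Subgroup.subgroupOf_self L
  obtain ⟨K₁, hK₁n, hK₁M, hK₁card⟩ := hB L p P' hcyc' (M.subgroupOf L) hM' hnle htop
  haveI := hK₁n
  have hidx : K₁.index = Nat.card ↥(P' : Subgroup L) := by
    have h1 := K₁.card_mul_index
    have hpos : 0 < Nat.card ↥K₁ := Nat.card_pos
    rw [← hK₁card] at h1
    exact Nat.eq_of_mul_eq_mul_left hpos h1
  obtain ⟨m, hm⟩ := IsPGroup.iff_card.1 P'.isPGroup'
  have hm0 : m ≠ 0 := by
    rintro rfl
    rw [pow_zero] at hm
    apply hnle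
    have h1 : (P' : Subgroup L) = ⊥ := Subgroup.card_eq_one.mp hm
    rw [h1]
    exact bot_le
  have hcop : Nat.Coprime (Nat.card ↥K₁) p := by
    have h1 := P'.card_coprime_index
    have h2 : (P' : Subgroup L).index = Nat.card ↥K₁ := by
      have h3 := (P' : Subgroup L).card_mul_index
      have hpos : 0 < Nat.card ↥(P' : Subgroup L) := Nat.card_pos
      rw [← hK₁card, mul_comm] at h3
      exact Nat.eq_of_mul_eq_mul_right hpos h3
    rw [h2, hm] at h1
    exact ((Nat.coprime_pow_left_iff (Nat.pos_of_ne_zero hm0) p _).mp h1).symm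
  obtain ⟨K, hK⟩ : ∃ K : Subgroup G, K = K₁.map L.subtype := ⟨_, rfl⟩
  have hKcard : Nat.card ↥K = Nat.card ↥K₁ := by
    rw [hK]
    exact Subgroup.card_subtype L K₁
  have hKM : K ≤ M := by
    rw [hK]
    rintro _ ⟨k, hk, rfl⟩
    exact Subgroup.mem_subgroupOf.mp (hK₁M hk)
  have hchar : ∀ y : G, y ∈ M → Nat.Coprime (orderOf y) p → y ∈ K := by
    intro y hy hco
    have hord : orderOf (⟨y, hML hy⟩ : L) = orderOf y := Subgroup.orderOf_mk y (hML hy)
    have hpow : (⟨y, hML hy⟩ : L) ^ (p ^ m) ∈ K₁ := by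
      have h1 := K₁.pow_index_mem (⟨y, hML hy⟩ : L)
      rwa [hidx, hm] at h1
    have hco' : Nat.Coprime (p ^ m) (orderOf (⟨y, hML hy⟩ : L)) := by
      rw [hord]
      exact (Nat.Coprime.pow_right m hco).symm
    obtain ⟨t, ht⟩ := exists_pow_eq_self_of_coprime hco'
    have hmem : (⟨y, hML hy⟩ : L) ∈ K₁ := by
      rw [← ht]
      exact K₁.pow_mem hpow t
    rw [hK]
    exact ⟨⟨y, hML hy⟩, hmem, rfl⟩
  have hKord : ∀ y ∈ K, Nat.Coprime (orderOf y) p := by
    rw [hK]
    rintro _ ⟨k, hk, rfl⟩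
    have h1 : orderOf k ∣ Nat.card ↥K₁ := Subgroup.orderOf_dvd_natCard K₁ hk
    have h2 : orderOf (L.subtype k) = orderOf k := Subgroup.orderOf_coe k
    rw [h2]
    exact Nat.Coprime.coprime_dvd_left h1 hcop
  have hKn : K.Normal := by
    refine ⟨fun n hn g => ?_⟩
    apply hchar
    · exact hM.conj_mem n (hKM hn) g
    · have h1 : orderOf (g * n * g⁻¹) = orderOf n := by
        rw [← MulAut.conj_apply]
        exact MulEquiv.orderOf_eq _ _
      rw [h1]
      exact hKord n hn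
  have hMcard : Nat.card ↥(M.subgroupOf L) = Nat.card ↥M :=
    Nat.card_congr (Subgroup.subgroupOfEquivOfLe hML).toEquiv
  have hrel : K₁.relIndex (M.subgroupOf L) ∣ p ^ m := by
    have h1 := Subgroup.relIndex_dvd_index_of_normal K₁ (M.subgroupOf L)
    rwa [hidx, hm] at h1
  obtain ⟨j, -, hj⟩ := (Nat.dvd_prime_pow hp).1 hrel
  have hmul : Nat.card ↥K₁ * K₁.relIndex (M.subgroupOf L) = Nat.card ↥(M.subgroupOf L) := by
    have h1 := Subgroup.relIndex_mul_relIndex (H := (⊥ : Subgroup L)) (K := K₁)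
      (L := M.subgroupOf L) bot_le hK₁M
    rwa [Subgroup.relIndex_bot_left, Subgroup.relIndex_bot_left] at h1
  refine ⟨K, hKn, hKM, ?_, j, ?_⟩
  · rw [hKcard]
    exact hcop
  · rw [hKcard, ← hMcard, ← hmul, hj]

end Cfsg.Agent.Lib.Helper3.AOPCOMPL
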