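import Mathlib
import Cfsg.Agent.Lib.Helper74.IndexP
import Cfsg.Agent.Lib.Helper81.Glaub
import Cfsg.Agent.Lib.Helper80.Schur
import Cfsg.Agent.Lib.Helper15.DetChar
import Cfsg.Agent.Lib.Helper80.Restrict
import Cfsg.Agent.Lib.Helper80.TISylow

/-!
Groups with a normal `p`-complement: an irreducible character of degree less than `p - 1` has
every `p`-element in its centre (a consequence of the Glauberman correspondence and Schur's
lemma).  This is the `p`-nilpotent case of Ito's theorem on `p`-solvable linear groups.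
-/

set_option autoImplicit false

namespace Cfsg.Agent.Lib.Helper3.FTBpn

open Cfsg Cfsg.Agent.Lib.Helper80.Integrality Cfsg.Agent.Lib.Helper80.Restrict
open Cfsg.Agent.Lib.CT.Wedderburn Cfsg.Agent.Lib.CT.Orth

universe u

/-- If `G / M` is a `p`-group and `p ∤ χ(1)` then `χ` restricts irreducibly to `M`. -/
theorem restrict_irr_of_index_pow (p : ℕ) [Fact p.Prime] :
    ∀ (k : ℕ) (G : Type u) [Group G] [Finite G] (M : Subgroup G) [M.Normal], M.index = p ^ k →
      ∀ χ : G → ℂ, IsIrrCharacter G χ → ¬ p ∣ charDegree χ →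
        IsIrrCharacter M (fun m : M => χ m) := by
  intro k
  induction k with
  | zero =>
    intro G _ _ M _ hidx χ hχ _
    have hM : M = ⊤ := Subgroup.index_eq_one.1 (by rw [hidx, pow_zero])
    subst hM
    exact Cfsg.Agent.Lib.CT.Ops.isIrrCharacter_comp_mulEquiv
      (Subgroup.topEquiv : (⊤ : Subgroup G) ≃* G) hχ
  | succ k ih =>
    intro G _ _ M hMn hidx χ hχ hdeg
    classical
    haveI := Fintype.ofFinite G
    have hp : p.Prime := Fact.out
    have hcard : Nat.card (G ⧸ M) = p ^ (k + 1) := by rw [← Subgroup.index_eq_card, hidx]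
    obtain ⟨H, hH⟩ := Sylow.exists_subgroup_card_pow_prime p (n := k) (G := G ⧸ M) (by
      rw [hcard]
      exact pow_dvd_pow p (Nat.le_succ k))
    have hHidx : H.index = p := by
      have h1 := H.card_mul_index
      rw [hH, hcard, pow_succ] at h1
      exact Nat.eq_of_mul_eq_mul_left (pow_pos hp.pos k) h1
    haveI hHn : H.Normal := Subgroup.normal_of_index_eq_minFac_card (by
      rw [hHidx, hcard, Nat.Prime.pow_minFac hp (Nat.succ_ne_zero k)])
    set M₁ : Subgroup G := H.comap (QuotientGroup.mk' M) with hM₁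
    haveI hM₁n : M₁.Normal := Subgroup.Normal.comap hHn _
    have hM₁idx : M₁.index = p := by
      rw [hM₁, Subgroup.index_comap_of_surjective H (QuotientGroup.mk'_surjective M), hHidx]
    have hMM₁ : M ≤ M₁ := by
      intro m hm
      rw [hM₁, Subgroup.mem_comap]
      have h1 : (QuotientGroup.mk' M) m = 1 := (QuotientGroup.eq_one_iff m).2 hm
      rw [h1]
      exact H.one_mem
    haveI : Fintype M₁ := Fintype.ofFinite _
    have h1 : IsIrrCharacter M₁ (fun m : M₁ => χ m) :=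
      Cfsg.Agent.Lib.Helper74.IndexP.restrict_irr M₁ hp hM₁idx χ hχ hdeg
    haveI : (M.subgroupOf M₁).Normal := hMn.subgroupOf M₁
    have hidx' : (M.subgroupOf M₁).index = p ^ k := by
      have h2 := Subgroup.relIndex_mul_index hMM₁
      rw [hidx, hM₁idx, pow_succ] at h2
      exact Nat.eq_of_mul_eq_mul_right hp.pos h2
    have hdeg' : ¬ p ∣ charDegree (fun m : M₁ => χ m) := hdeg
    have h2 := ih M₁ (M.subgroupOf M₁) hidx' (fun m : M₁ => χ m) h1 hdeg'
    exact Cfsg.Agent.Lib.CT.Ops.isIrrCharacter_comp_mulEquiv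
      (Subgroup.subgroupOfEquivOfLe hMM₁).symm h2

variable {G : Type u} [Group G]

/-- In a group with a normal `p`-complement `M`, a `p`-element `x` lies in the centre of every
irreducible character of degree less than `p - 1`. -/
theorem central_of_small_degree (p : ℕ) [Fact p.Prime] [Finite G] (M : Subgroup G)
    [hM : M.Normal] (hpM : ¬ p ∣ Nat.card M) (k : ℕ) (hidx : M.index = p ^ k)
    (χ : G → ℂ) (hχ : IsIrrCharacter G χ) (hdeg : charDegree χ + 1 < p)
    (x : G) (j : ℕ) (hx : x ^ p ^ j = 1) (g : G) : χ (x * g * x⁻¹ * g⁻¹) = χ 1 := by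
  classical
  have hp : p.Prime := Fact.out
  haveI := Fintype.ofFinite G
  haveI : Fintype M := Fintype.ofFinite M
  have hdpos : 0 < charDegree χ := charDegree_pos ⟨χ, hχ⟩
  have hndvd : ¬ p ∣ charDegree χ := fun h => by
    have h1 := Nat.le_of_dvd hdpos h
    omega
  have hθ : IsIrrCharacter M (fun m : M => χ m) :=
    restrict_irr_of_index_pow p k G M hidx χ hχ hndvd
  have hcf : IsClassFunction G χ := irr_isClassFunction ⟨χ, hχ⟩
  -- the Glauberman setup
  set a : MulAut M := MulAut.conjNormal x with ha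
  have hacoe : ∀ (i : ℤ) (m : M), ((a ^ i) m : G) = x ^ i * m * (x ^ i)⁻¹ := by
    intro i m
    rw [ha, ← map_zpow]
    rfl
  set S : Subgroup (MulAut M) := Subgroup.zpowers a with hSdef
  have hS : IsPGroup p S :=
    Cfsg.Agent.Lib.Helper80.TISylow.isPGroup_zpowers p a j (by rw [ha, ← map_pow, hx, map_one])
  set C₀ : Subgroup M := (Subgroup.centralizer ({x} : Set G)).subgroupOf M with hC₀
  haveI : Fintype C₀ := Fintype.ofFinite _
  have hι : Function.Injective C₀.subtype := Subgroup.subtype_injective _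
  have hmemC : ∀ m : M, m ∈ C₀ ↔ x * (m : G) = (m : G) * x := by
    intro m
    rw [hC₀, Subgroup.mem_subgroupOf, Subgroup.mem_centralizer_iff]
    constructor
    · intro h
      exact h x rfl
    · intro h y hy
      rw [Set.mem_singleton_iff] at hy
      rw [hy]
      exact h
  have hrange : ∀ m : M, m ∈ C₀.subtype.range ↔ ∀ s ∈ S, s m = m := by
    intro m
    rw [Subgroup.range_subtype, hmemC]
    constructor
    · intro hm s hs
      obtain ⟨i, rfl⟩ := Subgroup.mem_zpowers_iff.1 hs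
      apply Subtype.ext
      rw [hacoe]
      have h1 : Commute (x ^ i) (m : G) := Commute.zpow_left hm i
      rw [h1.eq, mul_assoc, mul_inv_cancel, mul_one]
    · intro h
      have h1 := congrArg Subtype.val (h a (Subgroup.mem_zpowers a))
      have h2 := hacoe 1 m
      rw [zpow_one] at h2
      rw [h2, zpow_one] at h1
      calc x * (m : G) = (x * m * x⁻¹) * x := by group
        _ = m * x := by rw [h1]
  have hglaub := Cfsg.Agent.Lib.Helper81.Glaub.glaub_pgroup p S C₀.subtype hS hpM hι hrange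
  have hinv : ∀ s ∈ S, ∀ m : M, (fun m : M => χ m) (s m) = (fun m : M => χ m) m := by
    intro s hs m
    obtain ⟨i, rfl⟩ := Subgroup.mem_zpowers_iff.1 hs
    show χ ((a ^ i) m : G) = χ m
    rw [hacoe]
    exact hcf _ _
  obtain ⟨hst1, hst2, -, -⟩ := Cfsg.Agent.Lib.Helper81.Glaub.glaub_statement p hp C₀.subtype _ hglaub
  set φ : C₀ → ℂ := fun c => χ ((C₀.subtype c : M) : G) with hφ
  have hφc : IsCharacter C₀ φ :=
    Cfsg.Agent.Lib.CT.Ops.isCharacter_comp_hom (M.subtype.comp C₀.subtype) (isCharacter_of_irr hχ)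
  haveI := finite_irrCharacter C₀
  haveI := Fintype.ofFinite (IrrCharacter C₀)
  obtain ⟨mm, hmm1, hmm2, hmm3, -⟩ := exists_mult hφc
  have hφdeg : charDegree φ = charDegree χ := rfl
  obtain ⟨β, ⟨m₀, hm₀, hm₀p⟩, huniq⟩ := hst1 ⟨_, hθ⟩ hinv
  have hmmβ : mm β = m₀ := by
    have h1 : classInner φ (β : C₀ → ℂ) = (m₀ : ℂ) := hm₀
    rw [hmm1 β] at h1
    exact_mod_cast h1
  have hle : ∀ ψ : IrrCharacter C₀, mm ψ ≤ charDegree χ := by
    intro ψ
    rw [← hφdeg, hmm3]
    calc mm ψ ≤ mm ψ * charDegree (ψ : C₀ → ℂ) := Nat.le_mul_of_pos_right _ (charDegree_pos ψ)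
      _ ≤ ∑ φ' : IrrCharacter C₀, mm φ' * charDegree (φ' : C₀ → ℂ) :=
        Finset.single_le_sum (f := fun φ' : IrrCharacter C₀ => mm φ' * charDegree (φ' : C₀ → ℂ))
          (fun _ _ => Nat.zero_le _) (Finset.mem_univ ψ)
  have hzero : ∀ ψ : IrrCharacter C₀, ψ ≠ β → mm ψ = 0 := by
    intro ψ hψ
    by_contra hne
    have hnd : ¬ p ∣ mm ψ := fun hd => by
      have h1 := Nat.le_of_dvd (Nat.pos_of_ne_zero hne) hd
      have h2 := hle ψ
      omega
    exact hψ (huniq ψ ⟨mm ψ, hmm1 ψ, hnd⟩)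
  have hone : mm β = 1 := by
    have h1 := hst2 ⟨_, hθ⟩ hinv β m₀ hm₀ hm₀p
    have h2 := hle β
    rw [hmmβ] at h2
    rw [hmmβ]
    rcases h1 with h1 | h1
    · have h3 : (p : ℤ) ∣ 1 - (m₀ : ℤ) := h1.dvd
      have h4 : (1 : ℤ) - (m₀ : ℤ) = 0 := by
        apply Int.eq_zero_of_abs_lt_dvd h3
        rw [abs_lt]
        constructor <;> omega
      omega
    · exfalso
      have h3 : (p : ℤ) ∣ -1 - (m₀ : ℤ) := h1.dvd
      have h4 : (-1 : ℤ) - (m₀ : ℤ) = 0 := by
        apply Int.eq_zero_of_abs_lt_dvd h3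
        rw [abs_lt]
        constructor <;> omega
      omega
  have hφeq : φ = (β : C₀ → ℂ) := by
    funext c
    rw [hmm2 c, Finset.sum_eq_single β]
    · rw [hone]
      simp
    · intro ψ _ hψ
      rw [hzero ψ hψ]
      simp
    · intro h
      exact absurd (Finset.mem_univ β) h
  have hφirr : IsIrrCharacter C₀ φ := hφeq ▸ β.2
  -- Schur's lemma
  obtain ⟨n, ρ, hirr, hρ⟩ := hχ
  set σ : Representation ℂ C₀ (Fin n → ℂ) := ρ.comp (M.subtype.comp C₀.subtype) with hσ
  have hσchar : σ.character = φ := by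
    funext c
    rw [hφ, ← hρ]
    rfl
  haveI hσirr : σ.IsIrreducible :=
    Cfsg.Agent.Lib.Helper15.DetChar.isIrreducible_of_isIrrCharacter σ (by rw [hσchar]; exact hφirr)
  have hcomm : ∀ c : C₀, ρ x * σ c = σ c * ρ x := by
    intro c
    show ρ x * ρ ((c : M) : G) = ρ ((c : M) : G) * ρ x
    rw [← map_mul, ← map_mul, (hmemC (c : M)).1 c.2]
  obtain ⟨z, hz⟩ := Cfsg.Agent.Lib.Helper80.Schur.schur_scalar σ (ρ x) hcomm
  have hxg : ρ x * ρ g = ρ g * ρ x := by
    rw [hz, smul_mul_assoc, one_mul, mul_smul_comm, mul_one]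
  have h1 : ρ (x * g * x⁻¹ * g⁻¹) = ρ 1 := by
    calc ρ (x * g * x⁻¹ * g⁻¹) = ρ x * ρ g * ρ x⁻¹ * ρ g⁻¹ := by simp only [map_mul]
      _ = ρ g * ρ x * ρ x⁻¹ * ρ g⁻¹ := by rw [hxg]
      _ = ρ (g * x * x⁻¹ * g⁻¹) := by simp only [map_mul]
      _ = ρ 1 := by
        congr 1
        group
  rw [← hρ]
  show LinearMap.trace ℂ _ (ρ (x * g * x⁻¹ * g⁻¹)) = LinearMap.trace ℂ _ (ρ 1)
  rw [h1]

end Cfsg.Agent.Lib.Helper3.FTBpn
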