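import Mathlib
import Cfsg.Agent.S0175
import Cfsg.Agent.Lib.Helper3.TDBasic
import Cfsg.Agent.Lib.Helper3.TDFrob
import Cfsg.Agent.Lib.Helper80.IndDeg

/-!
Taketa-type arguments for groups with two character degrees: a subgroup of index `m` contains the
commutator subgroup, and an M-group with two character degrees is metabelian.
-/

set_option autoImplicit false

namespace Cfsg.Agent.Lib.Helper3.TDTak

open Cfsg Cfsg.Agent.Lib.Helper80.Integrality Cfsg.Agent.Lib.Helper80.Restrict
open Cfsg.Agent.Lib.CT.Wedderburn Cfsg.Agent.Lib.CT.Orth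
open Cfsg.Agent.Lib.CT.FrobRec Cfsg.Agent.Lib.CT.IndChar
open Cfsg.Agent.Lib.CT.LinChar
open Cfsg.Agent.Lib.Helper3.TDBasic Cfsg.Agent.Lib.Helper3.TDFrob
open scoped ComplexConjugate commutatorElement

universe u
variable {G : Type u} [Group G]

/-- Irreducible characters of degree one are trivial on the commutator subgroup. -/
theorem apply_eq_one_of_mem_commutator [Finite G] (φ : IrrCharacter G)
    (h1 : charDegree (φ : G → ℂ) = 1) {g : G} (hg : g ∈ commutator G) :
    (φ : G → ℂ) g = (φ : G → ℂ) 1 := by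
  have hφ1 : (φ : G → ℂ) 1 = 1 := by
    rw [apply_one_eq_charDegree (isCharacter_of_irr φ.2), h1]
    simp
  obtain ⟨f, hf⟩ := exists_hom_of_isCharacter (φ : G → ℂ) (isCharacter_of_irr φ.2) hφ1
  have h2 : f g = 1 := MonoidHom.mem_ker.1 (Abelianization.commutator_subset_ker f hg)
  rw [hf g, hf 1, h2, map_one]

/-- If `cd(G) ⊆ {1, m}` with `m ≠ 1`, then every subgroup of index `m` contains `G'`. -/
theorem commutator_le_of_index [Finite G] (m : ℕ) (hm1 : m ≠ 1)
    (hcd : ∀ χ : IrrCharacter G, charDegree (χ : G → ℂ) = 1 ∨ charDegree (χ : G → ℂ) = m)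
    (U : Subgroup G) (hU : U.index = m) : commutator G ≤ U := by
  classical
  haveI := Fintype.ofFinite G
  haveI := finite_irrCharacter G
  haveI := Fintype.ofFinite (IrrCharacter G)
  haveI : Fintype U := Fintype.ofFinite U
  have hΦ : IsCharacter G (indFun U (fun _ => (1 : ℂ))) :=
    isCharacter_indFun U _ Cfsg.Agent.Lib.CT.Ops.isCharacter_one
  obtain ⟨mm, hmm1, hmm2, hmm3, -⟩ := exists_mult hΦ
  let triv : IrrCharacter G := ⟨fun _ => 1, Cfsg.Agent.Lib.CT.Ops.isIrrCharacter_one⟩
  have hdtriv : charDegree (triv : G → ℂ) = 1 := charDegree_of_apply_one rfl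
  have hmtriv : mm triv = 1 := by
    have h1 := hmm1 triv
    have h2 := frobenius_reciprocity U (fun _ => (1 : ℂ)) (fun _ : G => (1 : ℂ))
      (fun _ _ => rfl)
    have h3 : classInner (fun _ : U => (1 : ℂ)) (fun _ : U => (1 : ℂ)) = 1 := by
      unfold classInner
      have hH0 : (Nat.card U : ℂ) ≠ 0 := by exact_mod_cast Nat.card_pos.ne'
      simp only [map_one, mul_one, Finset.sum_const, Finset.card_univ, nsmul_eq_mul]
      rw [← Nat.card_eq_fintype_card]
      exact inv_mul_cancel₀ hH0
    rw [h3] at h2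
    have h4 : ((triv : IrrCharacter G) : G → ℂ) = fun _ => (1 : ℂ) := rfl
    rw [h4, h2] at h1
    exact_mod_cast h1.symm
  have hdegΦ : charDegree (indFun U (fun _ => (1 : ℂ))) = m := by
    rw [Cfsg.Agent.Lib.Helper80.IndDeg.charDegree_indFun U _ Cfsg.Agent.Lib.CT.Ops.isCharacter_one,
      hU, charDegree_of_apply_one rfl, mul_one]
  have hlin : ∀ φ : IrrCharacter G, mm φ ≠ 0 → charDegree (φ : G → ℂ) = 1 := by
    intro φ hφ
    rcases hcd φ with h | h
    · exact h
    · exfalso
      have hφt : φ ≠ triv := by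
        intro heq
        rw [heq, hdtriv] at h
        exact hm1 h.symm
      have h1 : mm φ * charDegree (φ : G → ℂ) + mm triv * charDegree (triv : G → ℂ) ≤
          ∑ ψ : IrrCharacter G, mm ψ * charDegree (ψ : G → ℂ) := by
        have h0 := Finset.sum_pair (f := fun ψ : IrrCharacter G => mm ψ * charDegree (ψ : G → ℂ)) hφt
        rw [← h0]
        exact Finset.sum_le_sum_of_subset (Finset.subset_univ _)
      rw [← hmm3, hdegΦ, hmtriv, hdtriv, h] at h1
      have h2 : m ≤ mm φ * m := Nat.le_mul_of_pos_left _ (Nat.pos_of_ne_zero hφ)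
      omega
  intro g hg
  apply Cfsg.Agent.S0175.mem_of_indFun_one_eq U
  rw [hmm2 g, hmm2 1]
  refine Finset.sum_congr rfl fun φ _ => ?_
  by_cases hφ : mm φ = 0
  · rw [hφ]
    simp
  · rw [apply_eq_one_of_mem_commutator φ (hlin φ hφ) hg]

/-- An M-group with at most two character degrees has abelian commutator subgroup. -/
theorem mgroup_two_degrees [Fintype G] (m : ℕ) (hm1 : m ≠ 1)
    (hcd : ∀ χ : IrrCharacter G, charDegree (χ : G → ℂ) = 1 ∨ charDegree (χ : G → ℂ) = m)
    (hM : ∀ χ : G → ℂ, IsIrrCharacter G χ → ∃ (H : Subgroup G) (lam : H →* ℂˣ),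
      χ = indFun H (fun h => ((lam h : ℂˣ) : ℂ))) :
    ∀ a ∈ commutator G, ∀ b ∈ commutator G, a * b = b * a := by
  classical
  intro a ha b hb
  have hkey : ∀ χ : IrrCharacter G, (χ : G → ℂ) ⁅a, b⁆ = (χ : G → ℂ) 1 := by
    intro χ
    rcases hcd χ with h | h
    · apply apply_eq_one_of_mem_commutator χ h
      rw [commutator_def]
      exact Subgroup.commutator_mem_commutator (Subgroup.mem_top a) (Subgroup.mem_top b)
    · obtain ⟨U, lam, hχ⟩ := hM (χ : G → ℂ) χ.2
      haveI : Fintype U := Fintype.ofFinite U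
      have hU : U.index = m := by
        have h1 := Cfsg.Agent.Lib.Helper80.IndDeg.charDegree_indFun U
          (fun h => ((lam h : ℂˣ) : ℂ)) (isCharacter_of_hom lam)
        rw [← hχ, h, charDegree_of_apply_one (by simp), mul_one] at h1
        exact h1.symm
      have hGU : commutator G ≤ U := commutator_le_of_index m hm1 hcd U hU
      haveI : (⁅commutator G, commutator G⁆ : Subgroup G).Normal :=
        Subgroup.commutator_normal _ _
      have hle : (⁅commutator G, commutator G⁆ : Subgroup G) ≤ (lam.ker).map U.subtype := by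
        rw [Subgroup.commutator_le]
        intro g₁ hg₁ g₂ hg₂
        refine ⟨⁅(⟨g₁, hGU hg₁⟩ : U), ⟨g₂, hGU hg₂⟩⁆, ?_, rfl⟩
        apply Abelianization.commutator_subset_ker lam
        rw [commutator_def]
        exact Subgroup.commutator_mem_commutator (Subgroup.mem_top _) (Subgroup.mem_top _)
      have hDH : ∀ n ∈ (⁅commutator G, commutator G⁆ : Subgroup G),
          ∃ hn : n ∈ U, lam ⟨n, hn⟩ = 1 := by
        intro n hn
        obtain ⟨x, hx, rfl⟩ := hle hn
        exact ⟨x.2, MonoidHom.mem_ker.1 hx⟩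
      rw [hχ]
      exact Cfsg.Agent.S0175.indFun_eq_of_normal U lam _ hDH
        (Subgroup.commutator_mem_commutator ha hb)
  have h1 : IsConj ⁅a, b⁆ 1 := isConj_of_irr_eq _ _ hkey
  have h2 : ⁅a, b⁆ = 1 := isConj_one_left.1 h1
  exact commutatorElement_eq_one_iff_mul_comm.1 h2

end Cfsg.Agent.Lib.Helper3.TDTak
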