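import Mathlib

/-!
Solvable groups whose derived subgroup is the unique minimal normal subgroup (Isaacs 12.3, the
group-theoretic part): such a group is a `p`-group, or its derived subgroup is a normal abelian
Sylow `p`-subgroup on which every element outside acts fixed-point-freely.
-/

set_option autoImplicit false

namespace Cfsg.Agent.Lib.Helper3.TDUniq

universe u
variable {Q : Type u} [Group Q]

theorem conj_mul_inv_mem_commutator (g x : Q) : g * x * g⁻¹ * x⁻¹ ∈ commutator Q := by
  have h := Subgroup.commutator_mem_commutator (Subgroup.mem_top g) (Subgroup.mem_top x)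
  rw [commutatorElement_def] at h
  rw [commutator_def]
  exact h

theorem eq_one_of_pow_primes {x : Q} {p q : ℕ} (hp : p.Prime) (hq : q.Prime) (hqp : q ≠ p)
    (h1 : x ^ q = 1) (h5 : x ^ p = 1) : x = 1 := by
  have h6 : orderOf x ∣ q := orderOf_dvd_of_pow_eq_one h1
  have h7 : orderOf x ∣ p := orderOf_dvd_of_pow_eq_one h5
  have h8 : orderOf x = 1 := by
    have h := Nat.dvd_gcd h6 h7
    rw [(Nat.coprime_primes hq hp).2 hqp] at h
    exact Nat.dvd_one.1 h
  exact orderOf_eq_one_iff.1 h8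

theorem structure_thm [Finite Q] (hsolv : Group.IsSolvable Q) (hne : commutator Q ≠ ⊥)
    (hmin : ∀ L : Subgroup Q, L.Normal → L ≠ ⊥ → commutator Q ≤ L) :
    ∃ p : ℕ, p.Prime ∧ (IsPGroup p Q ∨
      (IsPGroup p (commutator Q) ∧ ¬ p ∣ (commutator Q).index ∧ commutator Q ≠ ⊤ ∧
        (∀ a ∈ commutator Q, ∀ b ∈ commutator Q, a * b = b * a) ∧
        (∀ g : Q, g ∉ commutator Q → ∀ y ∈ commutator Q,
          ∃ x ∈ commutator Q, y = g * x * g⁻¹ * x⁻¹) ∧
        (commutator Q).index < Nat.card (commutator Q))) := by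
  classical
  set M := commutator Q with hM
  have hMn : M.Normal := inferInstance
  -- Step 1: M abelian
  have hMM : ⁅M, M⁆ = ⊥ := by
    by_contra hbot
    have h1 : M ≤ ⁅M, M⁆ := hmin _ inferInstance hbot
    have h2 : ⁅M, M⁆ = M := le_antisymm (Subgroup.commutator_le_left M M) h1
    have h3 : ∀ n : ℕ, derivedSeries Q (n + 1) = M := by
      intro n
      induction n with
      | zero => rw [derivedSeries_succ, derivedSeries_zero, ← commutator_def]
      | succ n ih => rw [derivedSeries_succ, ih, h2]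
    obtain ⟨n, hn⟩ := hsolv.solvable
    have h4 : derivedSeries Q (n + 1) = ⊥ := by
      have h := derivedSeries_antitone Q (Nat.le_succ n)
      rw [hn] at h
      exact le_bot_iff.1 h
    rw [h3 n] at h4
    exact hne h4
  have hMab : ∀ a ∈ M, ∀ b ∈ M, a * b = b * a := by
    intro a ha b hb
    have h1 := (Subgroup.commutator_eq_bot_iff_le_centralizer).1 hMM ha
    exact (Subgroup.mem_centralizer_iff.1 h1 b hb).symm
  -- Step 2
  have hMcard : 1 < Nat.card M := (Subgroup.one_lt_card_iff_ne_bot M).2 hne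
  obtain ⟨p, hp, hpM⟩ := Nat.exists_prime_and_dvd (Nat.ne_of_gt hMcard)
  haveI : Fact p.Prime := ⟨hp⟩
  obtain ⟨x₀, hx₀⟩ := exists_prime_orderOf_dvd_card' p hpM
  let T : Subgroup Q :=
    { carrier := {x | x ∈ M ∧ x ^ p = 1}
      mul_mem' := by
        rintro a b ⟨ha, ha'⟩ ⟨hb, hb'⟩
        refine ⟨M.mul_mem ha hb, ?_⟩
        rw [Commute.mul_pow (hMab a ha b hb), ha', hb', one_mul]
      one_mem' := ⟨M.one_mem, one_pow _⟩
      inv_mem' := by
        rintro a ⟨ha, ha'⟩
        exact ⟨M.inv_mem ha, by rw [inv_pow, ha', inv_one]⟩ }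
  have hTn : T.Normal := ⟨by
    rintro a ⟨ha, ha'⟩ g
    refine ⟨hMn.conj_mem a ha g, ?_⟩
    rw [conj_pow, ha', mul_one, mul_inv_cancel]⟩
  have hTne : T ≠ ⊥ := by
    intro h
    have h1 : (x₀ : Q) ∈ T := ⟨x₀.2, by
      have h2 := pow_orderOf_eq_one x₀
      rw [hx₀] at h2
      exact_mod_cast congrArg Subtype.val h2⟩
    rw [h, Subgroup.mem_bot] at h1
    have h3 : x₀ = 1 := Subtype.ext h1
    rw [h3, orderOf_one] at hx₀
    exact hp.one_lt.ne hx₀
  have hexp : ∀ x ∈ M, x ^ p = 1 := fun x hx => (hmin T hTn hTne hx).2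
  have hMp : IsPGroup p M := by
    intro x
    refine ⟨1, ?_⟩
    rw [pow_one]
    exact Subtype.ext (by simpa using hexp x x.2)
  -- Step 3
  obtain ⟨P, hMP⟩ := hMp.exists_le_sylow
  have hPn : (P : Subgroup Q).Normal := ⟨by
    intro x hx g
    have h1 : g * x * g⁻¹ * x⁻¹ ∈ M := conj_mul_inv_mem_commutator g x
    have h2 : g * x * g⁻¹ = (g * x * g⁻¹ * x⁻¹) * x := by group
    rw [h2]
    exact (P : Subgroup Q).mul_mem (hMP h1) hx⟩
  refine ⟨p, hp, ?_⟩
  by_cases hPtop : (P : Subgroup Q) = ⊤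
  · left
    intro g
    have hg : g ∈ (P : Subgroup Q) := by rw [hPtop]; exact Subgroup.mem_top g
    obtain ⟨k, hk⟩ := P.isPGroup' ⟨g, hg⟩
    exact ⟨k, by simpa [Subtype.ext_iff] using hk⟩
  · right
    obtain ⟨x₁, hx₁M, hx₁⟩ : ∃ x ∈ M, x ≠ 1 := by
      by_contra h
      push Not at h
      exact hne ((Subgroup.eq_bot_iff_forall M).2 h)
    -- Step 5a
    have hMZ : ∀ x ∈ M, ∀ y ∈ (P : Subgroup Q), x * y = y * x := by
      let Z : Subgroup Q :=
        { carrier := {z | z ∈ (P : Subgroup Q) ∧ ∀ y ∈ (P : Subgroup Q), z * y = y * z}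
          mul_mem' := by
            rintro a b ⟨ha, ha'⟩ ⟨hb, hb'⟩
            refine ⟨Subgroup.mul_mem _ ha hb, fun y hy => ?_⟩
            rw [mul_assoc, hb' y hy, ← mul_assoc, ha' y hy, mul_assoc]
          one_mem' := ⟨Subgroup.one_mem _, fun y _ => by simp⟩
          inv_mem' := by
            rintro a ⟨ha, ha'⟩
            refine ⟨Subgroup.inv_mem _ ha, fun y hy => ?_⟩
            have h := ha' y hy
            calc a⁻¹ * y = a⁻¹ * (y * a) * a⁻¹ := by group
              _ = a⁻¹ * (a * y) * a⁻¹ := by rw [h]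
              _ = y * a⁻¹ := by group }
      have hZn : Z.Normal := ⟨by
        rintro z ⟨hz, hz'⟩ g
        refine ⟨hPn.conj_mem z hz g, fun y hy => ?_⟩
        have h1 : g⁻¹ * y * g ∈ (P : Subgroup Q) := by
          have h := hPn.conj_mem y hy g⁻¹
          simpa using h
        have h2 := hz' _ h1
        calc g * z * g⁻¹ * y = g * (z * (g⁻¹ * y * g)) * g⁻¹ := by group
          _ = g * ((g⁻¹ * y * g) * z) * g⁻¹ := by rw [h2]
          _ = y * (g * z * g⁻¹) := by group⟩
      have hZne : Z ≠ ⊥ := by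
        haveI : Nontrivial (P : Subgroup Q) :=
          ⟨⟨⟨x₁, hMP hx₁M⟩, 1, fun h => hx₁ (congrArg Subtype.val h)⟩⟩
        haveI h1 := IsPGroup.center_nontrivial (P.isPGroup')
        obtain ⟨z, hz⟩ := exists_ne (1 : Subgroup.center (P : Subgroup Q))
        intro h
        have h2 : ((z : (P : Subgroup Q)) : Q) ∈ Z := ⟨(z : (P : Subgroup Q)).2, fun y hy => by
          have h3 := Subgroup.mem_center_iff.1 z.2 ⟨y, hy⟩
          have h4 := congrArg Subtype.val h3
          simpa using h4.symm⟩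
        rw [h, Subgroup.mem_bot] at h2
        apply hz
        apply Subtype.ext
        apply Subtype.ext
        simpa using h2
      intro x hx y hy
      exact (hmin Z hZn hZne hx).2 y hy
    -- Step 5b
    have hfree : ∀ g : Q, g ∉ (P : Subgroup Q) → ∀ x ∈ M, x * g = g * x → x = 1 := by
      intro g hg
      let Ng : Subgroup Q :=
        { carrier := {x | x ∈ M ∧ x * g = g * x}
          mul_mem' := by
            rintro a b ⟨ha, ha'⟩ ⟨hb, hb'⟩
            exact ⟨M.mul_mem ha hb, by rw [mul_assoc, hb', ← mul_assoc, ha', mul_assoc]⟩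
          one_mem' := ⟨M.one_mem, by simp⟩
          inv_mem' := by
            rintro a ⟨ha, ha'⟩
            refine ⟨M.inv_mem ha, ?_⟩
            calc a⁻¹ * g = a⁻¹ * (g * a) * a⁻¹ := by group
              _ = a⁻¹ * (a * g) * a⁻¹ := by rw [ha']
              _ = g * a⁻¹ := by group }
      have hNgn : Ng.Normal := ⟨by
        rintro x ⟨hx, hx'⟩ y
        refine ⟨hMn.conj_mem x hx y, ?_⟩
        have hc : g⁻¹ * y⁻¹ * g * y ∈ M := by
          have h := conj_mul_inv_mem_commutator g⁻¹ y⁻¹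
          simpa using h
        have hxc := hMab x hx _ hc
        calc y * x * y⁻¹ * g = y * (x * g * (g⁻¹ * y⁻¹ * g * y)) * y⁻¹ := by group
          _ = y * (g * ((g⁻¹ * y⁻¹ * g * y) * x)) * y⁻¹ := by rw [hx', mul_assoc g, hxc]
          _ = g * (y * x * y⁻¹) := by group⟩
      have hNgbot : Ng = ⊥ := by
        by_contra hne'
        have hcent : ∀ x ∈ M, x * g = g * x := fun x hx => (hmin Ng hNgn hne' hx).2
        have hord : ∃ q : ℕ, q.Prime ∧ q ≠ p ∧ q ∣ orderOf g := by
          by_contra hcon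
          push Not at hcon
          have hpos : orderOf g ≠ 0 := (orderOf_pos g).ne'
          have h1 := Nat.eq_prime_pow_of_unique_prime_dvd hpos (p := p) (fun {d} hd hdv => by
            by_contra hdp
            exact hcon d hd hdp hdv)
          have h2 : IsPGroup p (Subgroup.zpowers g) := IsPGroup.of_card (n := _) (by
            rw [Nat.card_zpowers, h1])
          obtain ⟨P', hP'⟩ := h2.exists_le_sylow
          obtain ⟨c, hc⟩ := MulAction.exists_smul_eq Q P P'
          haveI := hPn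
          rw [Sylow.smul_eq_of_normal] at hc
          apply hg
          rw [hc]
          exact hP' (Subgroup.mem_zpowers g)
        obtain ⟨q, hq, hqp, hqg⟩ := hord
        set c := g ^ (orderOf g / q) with hcdef
        have hcord : orderOf c = q := orderOf_pow_orderOf_div (orderOf_pos g).ne' hqg
        have hccent : ∀ x ∈ M, x * c = c * x := by
          intro x hx
          exact (Commute.pow_right (hcent x hx) _)
        have hc1 : c ^ q = 1 := by rw [← hcord]; exact pow_orderOf_eq_one c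
        have hcZ : ∀ y : Q, y * c = c * y := by
          intro y
          have hm : y * c * y⁻¹ * c⁻¹ ∈ M := conj_mul_inv_mem_commutator y c
          set mm := y * c * y⁻¹ * c⁻¹ with hmm
          have h1 : (mm * c) ^ q = mm ^ q * c ^ q := Commute.mul_pow (hccent mm hm) q
          have h2 : mm * c = y * c * y⁻¹ := by rw [hmm]; group
          have h3 : (y * c * y⁻¹) ^ q = 1 := by
            rw [conj_pow, hc1, mul_one, mul_inv_cancel]
          rw [h2, h3, hc1, mul_one] at h1
          have h9 : mm = 1 := eq_one_of_pow_primes hp hq hqp h1.symm (hexp mm hm)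
          have h10 : y * c = (y * c * y⁻¹ * c⁻¹) * c * y := by group
          rw [h10, ← hmm, h9, one_mul]
        have hzn : (Subgroup.zpowers c).Normal := ⟨by
          intro a ha y
          have h1 : y * a * y⁻¹ = a := by
            obtain ⟨k, rfl⟩ := Subgroup.mem_zpowers_iff.1 ha
            have h2 : y * c ^ k = c ^ k * y := (Commute.zpow_right (hcZ y) k)
            rw [h2]
            group
          rw [h1]
          exact ha⟩
        have hzne : Subgroup.zpowers c ≠ ⊥ := by
          rw [Ne, Subgroup.zpowers_eq_bot]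
          intro h
          rw [h, orderOf_one] at hcord
          exact hq.one_lt.ne hcord
        have hMz := hmin _ hzn hzne
        apply hne
        rw [Subgroup.eq_bot_iff_forall]
        intro x hx
        obtain ⟨k, hk⟩ := Subgroup.mem_zpowers_iff.1 (hMz hx)
        have h1 : x ^ q = 1 := by
          rw [← hk, ← zpow_natCast, ← zpow_mul, mul_comm, zpow_mul, zpow_natCast, hc1, one_zpow]
        exact eq_one_of_pow_primes hp hq hqp h1 (hexp x hx)
      intro x hx hxg
      have h : x ∈ Ng := ⟨hx, hxg⟩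
      rw [hNgbot, Subgroup.mem_bot] at h
      exact h
    obtain ⟨g₀, hg₀⟩ : ∃ g₀ : Q, g₀ ∉ (P : Subgroup Q) := by
      by_contra h
      push Not at h
      exact hPtop ((Subgroup.eq_top_iff' _).2 h)
    -- Step 5c
    have hDfree : ∀ x ∈ (P : Subgroup Q), x * g₀ = g₀ * x → x = 1 := by
      let D : Subgroup Q :=
        { carrier := {x | x ∈ (P : Subgroup Q) ∧ x * g₀ = g₀ * x}
          mul_mem' := by
            rintro a b ⟨ha, ha'⟩ ⟨hb, hb'⟩
            exact ⟨Subgroup.mul_mem _ ha hb, by rw [mul_assoc, hb', ← mul_assoc, ha', mul_assoc]⟩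
          one_mem' := ⟨Subgroup.one_mem _, by simp⟩
          inv_mem' := by
            rintro a ⟨ha, ha'⟩
            refine ⟨Subgroup.inv_mem _ ha, ?_⟩
            calc a⁻¹ * g₀ = a⁻¹ * (g₀ * a) * a⁻¹ := by group
              _ = a⁻¹ * (a * g₀) * a⁻¹ := by rw [ha']
              _ = g₀ * a⁻¹ := by group }
      have hDn : D.Normal := ⟨by
        rintro x ⟨hx, hx'⟩ y
        refine ⟨hPn.conj_mem x hx y, ?_⟩
        have hc : g₀⁻¹ * y⁻¹ * g₀ * y ∈ M := by
          have h := conj_mul_inv_mem_commutator g₀⁻¹ y⁻¹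
          simpa using h
        have hxc := (hMZ _ hc x hx).symm
        calc y * x * y⁻¹ * g₀ = y * (x * g₀ * (g₀⁻¹ * y⁻¹ * g₀ * y)) * y⁻¹ := by group
          _ = y * (g₀ * ((g₀⁻¹ * y⁻¹ * g₀ * y) * x)) * y⁻¹ := by rw [hx', mul_assoc g₀, hxc]
          _ = g₀ * (y * x * y⁻¹) := by group⟩
      have hDbot : D = ⊥ := by
        by_contra hne'
        have h1 := hmin D hDn hne'
        exact hx₁ (hfree g₀ hg₀ x₁ hx₁M (h1 hx₁M).2)
      intro x hx hxg
      have h : x ∈ D := ⟨hx, hxg⟩
      rw [hDbot, Subgroup.mem_bot] at h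
      exact h
    -- Step 5d
    have hPM : (P : Subgroup Q) ≤ M := by
      intro x hx
      let f : M → M := fun y =>
        ⟨(y : Q) * g₀ * (y : Q)⁻¹ * g₀⁻¹, conj_mul_inv_mem_commutator _ _⟩
      have hf : Function.Injective f := by
        intro y y' hyy'
        have h1 : (y : Q) * g₀ * (y : Q)⁻¹ * g₀⁻¹ = (y' : Q) * g₀ * (y' : Q)⁻¹ * g₀⁻¹ :=
          congrArg Subtype.val hyy'
        have h3 : (y : Q) * g₀ * (y : Q)⁻¹ = (y' : Q) * g₀ * (y' : Q)⁻¹ := mul_right_cancel h1
        have h2 : ((y' : Q)⁻¹ * y) * g₀ = g₀ * ((y' : Q)⁻¹ * y) := by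
          calc (y' : Q)⁻¹ * y * g₀ = (y' : Q)⁻¹ * (y * g₀ * (y : Q)⁻¹) * y := by group
            _ = (y' : Q)⁻¹ * ((y' : Q) * g₀ * (y' : Q)⁻¹) * y := by rw [h3]
            _ = g₀ * ((y' : Q)⁻¹ * y) := by group
        have h4 := hfree g₀ hg₀ _ (M.mul_mem (M.inv_mem y'.2) y.2) h2
        exact Subtype.ext (inv_mul_eq_one.1 h4).symm
      obtain ⟨y, hy⟩ := Finite.surjective_of_injective hf
        ⟨x * g₀ * x⁻¹ * g₀⁻¹, conj_mul_inv_mem_commutator _ _⟩
      have h1 : (y : Q) * g₀ * (y : Q)⁻¹ * g₀⁻¹ = x * g₀ * x⁻¹ * g₀⁻¹ := congrArg Subtype.val hy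
      have h3 : (y : Q) * g₀ * (y : Q)⁻¹ = x * g₀ * x⁻¹ := mul_right_cancel h1
      have h2 : ((y : Q)⁻¹ * x) * g₀ = g₀ * ((y : Q)⁻¹ * x) := by
        calc (y : Q)⁻¹ * x * g₀ = (y : Q)⁻¹ * (x * g₀ * x⁻¹) * x := by group
          _ = (y : Q)⁻¹ * ((y : Q) * g₀ * (y : Q)⁻¹) * x := by rw [h3]
          _ = g₀ * ((y : Q)⁻¹ * x) := by group
      have h4 := hDfree _ (Subgroup.mul_mem _ (Subgroup.inv_mem _ (hMP y.2)) hx) h2
      have h5 : (y : Q) = x := inv_mul_eq_one.1 h4
      rw [← h5]
      exact y.2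
    have hPeq : (P : Subgroup Q) = M := le_antisymm hPM hMP
    refine ⟨hMp, ?_, ?_, hMab, ?_, ?_⟩
    · rw [← hPeq]
      haveI := hPn
      exact P.not_dvd_index
    · rw [← hPeq]
      exact hPtop
    · intro g hg y hy
      rw [← hPeq] at hg
      let f : M → M := fun x =>
        ⟨g * (x : Q) * g⁻¹ * (x : Q)⁻¹, conj_mul_inv_mem_commutator _ _⟩
      have hf : Function.Injective f := by
        intro x x' hxx'
        have h1 : g * (x : Q) * g⁻¹ * (x : Q)⁻¹ = g * (x' : Q) * g⁻¹ * (x' : Q)⁻¹ :=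
          congrArg Subtype.val hxx'
        have h3 : (x : Q) * g⁻¹ * (x : Q)⁻¹ = (x' : Q) * g⁻¹ * (x' : Q)⁻¹ := by
          have h := congrArg (g⁻¹ * ·) h1
          simpa [mul_assoc] using h
        have h4 : ((x' : Q)⁻¹ * x) * g⁻¹ = g⁻¹ * ((x' : Q)⁻¹ * x) := by
          calc (x' : Q)⁻¹ * x * g⁻¹ = (x' : Q)⁻¹ * (x * g⁻¹ * (x : Q)⁻¹) * x := by group
            _ = (x' : Q)⁻¹ * ((x' : Q) * g⁻¹ * (x' : Q)⁻¹) * x := by rw [h3]
            _ = g⁻¹ * ((x' : Q)⁻¹ * x) := by group
        have h2 : ((x' : Q)⁻¹ * x) * g = g * ((x' : Q)⁻¹ * x) := by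
          calc (x' : Q)⁻¹ * x * g = g * (g⁻¹ * ((x' : Q)⁻¹ * x)) * g := by group
            _ = g * ((x' : Q)⁻¹ * x * g⁻¹) * g := by rw [h4]
            _ = g * ((x' : Q)⁻¹ * x) := by group
        have h5 := hfree g hg _ (M.mul_mem (M.inv_mem x'.2) x.2) h2
        exact Subtype.ext (inv_mul_eq_one.1 h5).symm
      obtain ⟨x, hx⟩ := Finite.surjective_of_injective hf ⟨y, hy⟩
      exact ⟨x, x.2, (congrArg Subtype.val hx).symm⟩
    · let F : Q ⧸ M → {y : M // y ≠ 1} := fun q =>
        Quotient.liftOn' q (fun g => (⟨⟨g * x₁ * g⁻¹, hMn.conj_mem x₁ hx₁M g⟩, by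
          intro h
          apply hx₁
          have h' := congrArg Subtype.val h
          simpa using h'⟩ : {y : M // y ≠ 1}))
          (by
            intro a b hab
            rw [QuotientGroup.leftRel_apply] at hab
            apply Subtype.ext
            apply Subtype.ext
            show a * x₁ * a⁻¹ = b * x₁ * b⁻¹
            have h1 := hMab _ hab x₁ hx₁M
            calc a * x₁ * a⁻¹ = a * (x₁ * (a⁻¹ * b)) * b⁻¹ := by group
              _ = a * ((a⁻¹ * b) * x₁) * b⁻¹ := by rw [h1]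
              _ = b * x₁ * b⁻¹ := by group)
      have hF : Function.Injective F := by
        intro q q' hqq'
        induction q using QuotientGroup.induction_on with
        | _ a =>
        induction q' using QuotientGroup.induction_on with
        | _ b =>
        have h1 : a * x₁ * a⁻¹ = b * x₁ * b⁻¹ :=
          congrArg (fun z : {y : M // y ≠ 1} => ((z : M) : Q)) hqq'
        rw [QuotientGroup.eq]
        by_contra hnot
        rw [← hPeq] at hnot
        apply hx₁
        apply hfree _ hnot x₁ hx₁M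
        calc x₁ * (a⁻¹ * b) = a⁻¹ * (a * x₁ * a⁻¹) * b := by group
          _ = a⁻¹ * (b * x₁ * b⁻¹) * b := by rw [h1]
          _ = a⁻¹ * b * x₁ := by group
      have h1 := Nat.card_le_card_of_injective F hF
      rw [Subgroup.index_eq_card]
      have h2 : Nat.card {y : M // y ≠ 1} < Nat.card M := by
        have := Fintype.ofFinite M
        rw [Nat.card_eq_fintype_card, Nat.card_eq_fintype_card]
        exact Fintype.card_subtype_lt (p := fun y : M => y ≠ 1) (x := 1) (by simp)
      omega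

/-- A nonabelian finite solvable group has a normal subgroup `K` such that `G ⧸ K` is a nonabelian
`p`-group, or a section `K ≤ N` of Frobenius type. -/
theorem exists_section {G : Type u} [Group G] [Finite G] (hsolv : Group.IsSolvable G)
    (hne : commutator G ≠ ⊥) :
    ∃ (K : Subgroup G) (p : ℕ), K.Normal ∧ ¬ commutator G ≤ K ∧ p.Prime ∧
      ((∃ j, K.index = p ^ j) ∨
        ∃ N : Subgroup G, N.Normal ∧ K ≤ N ∧ commutator G ≤ N ∧ N ≠ ⊤ ∧ ¬ p ∣ N.index ∧
          (∃ j, K.relIndex N = p ^ j) ∧ N.index < K.relIndex N ∧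
          (∀ a ∈ N, ∀ b ∈ N, (b * a)⁻¹ * (a * b) ∈ K) ∧
          ∀ g : G, g ∉ N → ∀ n ∈ N, ∃ x ∈ N, ∃ k ∈ K, n = g * x * g⁻¹ * x⁻¹ * k) := by
  classical
  let S : Set (Subgroup G) := {K | K.Normal ∧ ¬ commutator G ≤ K}
  have hSfin : S.Finite := Set.toFinite S
  have hbot : (⊥ : Subgroup G) ∈ S := ⟨inferInstance, fun h => hne (le_bot_iff.1 h)⟩
  obtain ⟨K, -, hK⟩ := hSfin.exists_le_maximal hbot
  have hKS : K ∈ S := hK.prop
  haveI hKn : K.Normal := hKS.1
  have hKmax : ∀ L : Subgroup G, L.Normal → K ≤ L → ¬ L ≤ K → commutator G ≤ L := by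
    intro L hL hKL hLK
    by_contra h
    exact hLK (hK.le_of_ge ⟨hL, h⟩ hKL)
  let π := QuotientGroup.mk' K
  have hπ : Function.Surjective π := QuotientGroup.mk'_surjective K
  have hcomm : commutator (G ⧸ K) = (commutator G).map π := by
    rw [commutator_def, commutator_def, Subgroup.map_commutator,
      Subgroup.map_top_of_surjective π hπ]
  have hQne : commutator (G ⧸ K) ≠ ⊥ := by
    intro h
    apply hKS.2
    rw [hcomm, Subgroup.map_eq_bot_iff] at h
    rwa [QuotientGroup.ker_mk'] at h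
  have hKle : ∀ L : Subgroup (G ⧸ K), K ≤ L.comap π := by
    intro L k hk
    rw [Subgroup.mem_comap]
    have h : π k = 1 := (QuotientGroup.eq_one_iff k).2 hk
    rw [h]
    exact L.one_mem
  have hQmin : ∀ L : Subgroup (G ⧸ K), L.Normal → L ≠ ⊥ → commutator (G ⧸ K) ≤ L := by
    intro L hL hLne
    have h2 : ¬ L.comap π ≤ K := by
      intro h
      apply hLne
      rw [Subgroup.eq_bot_iff_forall]
      intro x hx
      obtain ⟨g, rfl⟩ := hπ x
      exact (QuotientGroup.eq_one_iff g).2 (h hx)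
    have h3 := hKmax (L.comap π) (hL.comap π) (hKle L) h2
    rw [hcomm]
    exact Subgroup.map_le_iff_le_comap.2 h3
  haveI := hsolv
  obtain ⟨p, hp, hcase⟩ := structure_thm (Q := G ⧸ K) inferInstance hQne hQmin
  refine ⟨K, p, hKn, hKS.2, hp, ?_⟩
  rcases hcase with hA | ⟨hMp, hMidx, hMtop, hMab, hMsurj, hMlt⟩
  · left
    haveI : Fact p.Prime := ⟨hp⟩
    obtain ⟨j, hj⟩ := (IsPGroup.iff_card).1 hA
    exact ⟨j, by rw [Subgroup.index_eq_card]; exact hj⟩
  · right
    set M := commutator (G ⧸ K) with hMdef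
    have hidx : (M.comap π).index = M.index := Subgroup.index_comap_of_surjective M hπ
    have hmem : ∀ g : G, g ∈ M.comap π ↔ π g ∈ M := fun g => Subgroup.mem_comap
    refine ⟨M.comap π, (inferInstance : M.Normal).comap π, hKle M, ?_, ?_, ?_, ?_, ?_, ?_, ?_⟩
    · exact Subgroup.map_le_iff_le_comap.1 (le_of_eq hcomm.symm)
    · intro h
      apply hMtop
      rw [Subgroup.eq_top_iff']
      intro x
      obtain ⟨g, rfl⟩ := hπ x
      have h1 : g ∈ M.comap π := by rw [h]; exact Subgroup.mem_top g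
      exact (hmem g).1 h1
    · rw [hidx]
      exact hMidx
    · haveI : Fact p.Prime := ⟨hp⟩
      obtain ⟨j, hj⟩ := (IsPGroup.iff_card).1 hMp
      refine ⟨j, ?_⟩
      have h1 := Subgroup.relIndex_mul_index (hKle M)
      rw [hidx, Subgroup.index_eq_card K, ← M.card_mul_index] at h1
      have h2 : M.index ≠ 0 := Subgroup.index_ne_zero_of_finite
      rw [← hj]
      exact Nat.eq_of_mul_eq_mul_right (Nat.pos_of_ne_zero h2) h1
    · have h1 := Subgroup.relIndex_mul_index (hKle M)
      rw [hidx, Subgroup.index_eq_card K, ← M.card_mul_index] at h1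
      have h2 : M.index ≠ 0 := Subgroup.index_ne_zero_of_finite
      have h3 : K.relIndex (M.comap π) = Nat.card M :=
        Nat.eq_of_mul_eq_mul_right (Nat.pos_of_ne_zero h2) h1
      rw [hidx, h3]
      exact hMlt
    · intro a ha b hb
      have h1 := hMab (π a) ((hmem a).1 ha) (π b) ((hmem b).1 hb)
      apply QuotientGroup.eq.1
      show π (b * a) = π (a * b)
      rw [map_mul, map_mul, h1]
    · intro g hg n hn
      have hg' : π g ∉ M := fun h => hg ((hmem g).2 h)
      obtain ⟨xbar, hxbar, hx⟩ := hMsurj (π g) hg' (π n) ((hmem n).1 hn)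
      obtain ⟨x, rfl⟩ := hπ xbar
      refine ⟨x, (hmem x).2 hxbar, (g * x * g⁻¹ * x⁻¹)⁻¹ * n, ?_, by group⟩
      apply QuotientGroup.eq.1
      show π (g * x * g⁻¹ * x⁻¹) = π n
      rw [hx]
      simp

end Cfsg.Agent.Lib.Helper3.TDUniq
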