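import Mathlib
import Cfsg.Prelude.Def_Characters
import Cfsg.Agent.Lib.Helper3.Irr
import Cfsg.Agent.Lib.CT.Ops
import Cfsg.Agent.Lib.CT.Kernel
import Cfsg.Agent.Lib.CT.NormOne
import Cfsg.Agent.Lib.CT.Clifford

/-!
# A counting lemma of Feit and Thompson

Let `H` be an abelian subgroup of `G` with `H ∩ Z(G) = 1` such that the centralizer of a
non-central element meets at most one conjugate of `H` nontrivially.  If `χ` is an irreducible
character of `G` whose kernel does not contain `H`, then `χ(1)² > |H| ⟨χ_H, 1_H⟩²`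
(`ft_inequality`).

* `avgOp H ρ`: the averaging operator of `H` in a representation; `isCharacter_sub_average`:
  `g ↦ χ(g) - |H|⁻¹ ∑_{k ∈ H} χ(gk)` is a character of the normalizer of `H`.
-/

set_option autoImplicit false
open Cfsg

namespace Cfsg.Agent.Lib.Helper3.FTCount

open Cfsg.Agent.Lib.Helper3.Irr
open scoped ComplexConjugate

universe u

section Avg

variable {G : Type*} [Group G] (H : Subgroup G) [Fintype H] {V : Type*} [AddCommGroup V]
  [Module ℂ V] (ρ : Representation ℂ G V)

/-- The sum of the operators of `H`. -/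
noncomputable def sumOp : Module.End ℂ V := ∑ k : H, ρ (k : G)

/-- The averaging operator of `H`. -/
noncomputable def avgOp : Module.End ℂ V := (Nat.card H : ℂ)⁻¹ • sumOp H ρ

theorem mul_sumOp (k : H) : ρ (k : G) * sumOp H ρ = sumOp H ρ := by
  unfold sumOp
  rw [Finset.mul_sum]
  refine Fintype.sum_equiv (Equiv.mulLeft k) _ _ (fun k' => ?_)
  rw [← map_mul]
  rfl

theorem sumOp_mul_self : sumOp H ρ * sumOp H ρ = (Nat.card H : ℂ) • sumOp H ρ := by
  have h1 : (∑ k : H, ρ (k : G)) * sumOp H ρ = ∑ k : H, ρ (k : G) * sumOp H ρ :=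
    Finset.sum_mul _ _ _
  show (∑ k : H, ρ (k : G)) * sumOp H ρ = _
  rw [h1, Finset.sum_congr rfl (fun k _ => mul_sumOp H ρ k), Finset.sum_const, Finset.card_univ,
    Nat.card_eq_fintype_card, Nat.cast_smul_eq_nsmul]

theorem avgOp_mul_self : avgOp H ρ * avgOp H ρ = avgOp H ρ := by
  have hcard : (Nat.card H : ℂ) ≠ 0 := by exact_mod_cast Nat.card_pos.ne'
  unfold avgOp
  rw [smul_mul_smul_comm, sumOp_mul_self, smul_smul]
  congr 1
  field_simp

/-- Conjugation by an element of the normalizer, as a permutation of `H`. -/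
def conjEquiv {g : G} (hg : g ∈ Subgroup.normalizer (H : Set G)) : H ≃ H where
  toFun k := ⟨g * k * g⁻¹, (Subgroup.mem_normalizer_iff.1 hg k).1 k.2⟩
  invFun k := ⟨g⁻¹ * k * g, by
    have := (Subgroup.mem_normalizer_iff.1 hg (g⁻¹ * k * g)).2
    apply this
    have h2 : g * (g⁻¹ * k * g) * g⁻¹ = k := by group
    rw [h2]
    exact k.2⟩
  left_inv k := by
    apply Subtype.ext
    show g⁻¹ * (g * k * g⁻¹) * g = k
    group
  right_inv k := by
    apply Subtype.ext
    show g * (g⁻¹ * k * g) * g⁻¹ = k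
    group

theorem mul_sumOp_comm {g : G} (hg : g ∈ Subgroup.normalizer (H : Set G)) :
    ρ g * sumOp H ρ = sumOp H ρ * ρ g := by
  unfold sumOp
  rw [Finset.mul_sum, Finset.sum_mul]
  refine Fintype.sum_equiv (conjEquiv H hg) _ _ (fun k => ?_)
  rw [← map_mul, ← map_mul]
  congr 1
  show g * k = g * k * g⁻¹ * g
  group

theorem mul_avgOp_comm {g : G} (hg : g ∈ Subgroup.normalizer (H : Set G)) :
    ρ g * avgOp H ρ = avgOp H ρ * ρ g := by
  unfold avgOp
  rw [mul_smul_comm, smul_mul_assoc, mul_sumOp_comm H ρ hg]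

theorem trace_mul_avgOp [FiniteDimensional ℂ V] (g : G) :
    LinearMap.trace ℂ V (ρ g * avgOp H ρ)
      = (Nat.card H : ℂ)⁻¹ * ∑ k : H, ρ.character (g * k) := by
  unfold avgOp sumOp
  rw [mul_smul_comm, map_smul, smul_eq_mul, Finset.mul_sum, map_sum]
  congr 1
  refine Finset.sum_congr rfl (fun k _ => ?_)
  unfold Representation.character
  rw [map_mul ρ g k]

end Avg

/-- Subtracting the `H`-average from a character gives a character of the normalizer of `H`. -/
theorem isCharacter_sub_average {G : Type u} [Group G] [Finite G] (H : Subgroup G) [Fintype H]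
    {χ : G → ℂ} (hχ : IsCharacter G χ) :
    IsCharacter (Subgroup.normalizer (H : Set G))
      (fun g : Subgroup.normalizer (H : Set G) => χ g - (Nat.card H : ℂ)⁻¹ * ∑ k : H, χ ((g : G) * k)) := by
  classical
  obtain ⟨n, ρ, rfl⟩ := hχ
  let P : Module.End ℂ (Fin n → ℂ) := avgOp H ρ
  let Q : Module.End ℂ (Fin n → ℂ) := 1 - P
  have hPP : P * P = P := avgOp_mul_self H ρ
  have hQQ : Q * Q = Q := by
    show (1 - P) * (1 - P) = 1 - P
    rw [mul_sub, sub_mul, sub_mul, one_mul, mul_one, one_mul, hPP]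
    abel
  have hcomm : ∀ g : G, g ∈ Subgroup.normalizer (H : Set G) → ρ g * Q = Q * ρ g := by
    intro g hg
    show ρ g * (1 - P) = (1 - P) * ρ g
    rw [mul_sub, sub_mul, mul_one, one_mul, mul_avgOp_comm H ρ hg]
  let ρN : Representation ℂ (Subgroup.normalizer (H : Set G)) (Fin n → ℂ) := ρ.comp (Subgroup.normalizer (H : Set G)).subtype
  let sub : Subrepresentation ρN :=
    { toSubmodule := LinearMap.range Q
      apply_mem_toSubmodule := by
        rintro g v ⟨w, rfl⟩
        refine ⟨ρ (g : G) w, ?_⟩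
        have := LinearMap.congr_fun (hcomm g g.2) w
        exact this.symm }
  have hchar := isCharacter_of_rep sub.toRepresentation
  have heq : sub.toRepresentation.character
      = fun g : Subgroup.normalizer (H : Set G) => ρ.character g
        - (Nat.card H : ℂ)⁻¹ * ∑ k : H, ρ.character ((g : G) * k) := by
    funext g
    have hf : ∀ x, (ρ (g : G) * Q) x ∈ LinearMap.range Q := by
      intro x
      refine ⟨ρ (g : G) x, ?_⟩
      exact (LinearMap.congr_fun (hcomm g g.2) x).symm
    have h1 := LinearMap.trace_restrict_eq_of_forall_mem (LinearMap.range Q) (ρ (g : G) * Q) hf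
    have h2 : sub.toRepresentation.character g
        = LinearMap.trace ℂ (LinearMap.range Q)
          ((ρ (g : G) * Q).restrict (fun x _ => hf x)) := by
      unfold Representation.character
      congr 1
      refine LinearMap.ext (fun w => Subtype.ext ?_)
      obtain ⟨w, v, rfl⟩ := w
      show ρ (g : G) (Q v) = ρ (g : G) (Q (Q v))
      have : Q (Q v) = Q v := LinearMap.congr_fun hQQ v
      rw [this]
    rw [h2, h1]
    show LinearMap.trace ℂ _ (ρ (g : G) * (1 - P)) = _
    rw [mul_sub, mul_one, map_sub, trace_mul_avgOp]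
    rfl
  rw [heq] at hchar
  exact hchar

section Grp

variable {G : Type u} [Group G] (H : Subgroup G)

/-- The elements commuting with a non-identity element of `H`. -/
def cstar : Set G := {g | ∃ s ∈ H, s ≠ 1 ∧ g * s = s * g}

/-- The hypotheses of the Feit–Thompson counting lemma. -/
def FTHyp : Prop :=
  (∀ a ∈ H, ∀ b ∈ H, a * b = b * a) ∧ H ⊓ Subgroup.center G = ⊥ ∧
  ∀ g : G, g ∉ Subgroup.center G → ∀ a b : G,
    Subgroup.centralizer ({g} : Set G) ⊓ H.map (MulAut.conj a).toMonoidHom ≠ ⊥ →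
    Subgroup.centralizer ({g} : Set G) ⊓ H.map (MulAut.conj b).toMonoidHom ≠ ⊥ →
    H.map (MulAut.conj a).toMonoidHom = H.map (MulAut.conj b).toMonoidHom

theorem mem_normalizer_of_map_conj_eq {a b : G}
    (h : H.map (MulAut.conj a).toMonoidHom = H.map (MulAut.conj b).toMonoidHom) :
    a⁻¹ * b ∈ Subgroup.normalizer (H : Set G) := by
  rw [Subgroup.mem_normalizer_iff]
  intro k
  constructor
  · intro hk
    have h1 : b * k * b⁻¹ ∈ H.map (MulAut.conj b).toMonoidHom := ⟨k, hk, rfl⟩
    rw [← h] at h1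
    obtain ⟨k', hk', hk'eq⟩ := h1
    have e : a * k' * a⁻¹ = b * k * b⁻¹ := hk'eq
    have : a⁻¹ * b * k * (a⁻¹ * b)⁻¹ = k' := by
      calc a⁻¹ * b * k * (a⁻¹ * b)⁻¹ = a⁻¹ * (b * k * b⁻¹) * a := by group
        _ = a⁻¹ * (a * k' * a⁻¹) * a := by rw [e]
        _ = k' := by group
    rw [this]
    exact hk'
  · intro hk
    have h1 : a * (a⁻¹ * b * k * (a⁻¹ * b)⁻¹) * a⁻¹ ∈ H.map (MulAut.conj a).toMonoidHom :=
      ⟨_, hk, rfl⟩
    rw [h] at h1
    obtain ⟨k', hk', hk'eq⟩ := h1
    have e : b * k' * b⁻¹ = a * (a⁻¹ * b * k * (a⁻¹ * b)⁻¹) * a⁻¹ := hk'eq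
    have e2 : a * (a⁻¹ * b * k * (a⁻¹ * b)⁻¹) * a⁻¹ = b * k * b⁻¹ := by group
    rw [e2] at e
    have : k' = k := mul_left_cancel (mul_right_cancel e)
    rw [← this]
    exact hk'

theorem inf_map_conj_ne_bot {g x : G} (hx : x⁻¹ * g * x ∈ cstar H) :
    Subgroup.centralizer ({g} : Set G) ⊓ H.map (MulAut.conj x).toMonoidHom ≠ ⊥ := by
  obtain ⟨s, hs, hs1, hcomm⟩ := hx
  intro hbot
  have h1 : x * s * x⁻¹ ∈ Subgroup.centralizer ({g} : Set G) := by
    rw [Subgroup.mem_centralizer_iff]
    intro y hy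
    rw [Set.mem_singleton_iff] at hy
    subst hy
    calc y * (x * s * x⁻¹) = x * (x⁻¹ * y * x * s) * x⁻¹ := by group
      _ = x * (s * (x⁻¹ * y * x)) * x⁻¹ := by rw [hcomm]
      _ = x * s * x⁻¹ * y := by group
  have h2 : x * s * x⁻¹ ∈ H.map (MulAut.conj x).toMonoidHom := ⟨s, hs, rfl⟩
  have h3 : x * s * x⁻¹ ∈ (⊥ : Subgroup G) := by
    rw [← hbot]
    exact ⟨h1, h2⟩
  rw [Subgroup.mem_bot] at h3
  apply hs1
  calc s = x⁻¹ * (x * s * x⁻¹) * x := by group
    _ = 1 := by rw [h3]; group

theorem not_mem_center_of_mem (hyp : FTHyp H) {s : G} (hs : s ∈ H) (hs1 : s ≠ 1) :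
    s ∉ Subgroup.center G := by
  intro hc
  have : s ∈ H ⊓ Subgroup.center G := ⟨hs, hc⟩
  rw [hyp.2.1, Subgroup.mem_bot] at this
  exact hs1 this

theorem cstar_subset_normalizer (hyp : FTHyp H) {g : G} (hg : g ∈ cstar H) :
    g ∈ Subgroup.normalizer (H : Set G) := by
  obtain ⟨s, hs, hs1, hcomm⟩ := hg
  have hsZ := not_mem_center_of_mem H hyp hs hs1
  have h1 : (1 : G)⁻¹ * s * 1 ∈ cstar H := ⟨s, hs, hs1, by simp⟩
  have h2 : g⁻¹ * s * g ∈ cstar H := by
    refine ⟨s, hs, hs1, ?_⟩
    have : g⁻¹ * s * g = s := by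
      calc g⁻¹ * s * g = g⁻¹ * (s * g) := by group
        _ = g⁻¹ * (g * s) := by rw [hcomm]
        _ = s := by group
    rw [this]
  have h3 := hyp.2.2 s hsZ 1 g (inf_map_conj_ne_bot H h1) (inf_map_conj_ne_bot H h2)
  have h4 := mem_normalizer_of_map_conj_eq H h3
  simpa using h4

theorem mem_normalizer_of_conj_mem_cstar (hyp : FTHyp H) {g : G} (hg : g ∉ Subgroup.center G)
    {x y : G} (hx : x⁻¹ * g * x ∈ cstar H) (hy : y⁻¹ * g * y ∈ cstar H) :
    x⁻¹ * y ∈ Subgroup.normalizer (H : Set G) :=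
  mem_normalizer_of_map_conj_eq H
    (hyp.2.2 g hg x y (inf_map_conj_ne_bot H hx) (inf_map_conj_ne_bot H hy))

end Grp

section Count

open Classical

variable {G : Type u} [Group G] [Fintype G] (H : Subgroup G) [Fintype H]

omit [Fintype H] in
/-- The upper bound: the conjugates of `cstar H` minus the centre are pairwise disjoint. -/
theorem upper_count (hyp : FTHyp H) (f : G → ℝ) (hf0 : ∀ g, 0 ≤ f g)
    (hfc : ∀ g x, f (x⁻¹ * g * x) = f g) :
    (Fintype.card G : ℝ)
        * ∑ g : G, (if g ∈ cstar H ∧ g ∉ Subgroup.center G then f g else 0)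
      ≤ (Nat.card (Subgroup.normalizer (H : Set G)) : ℝ)
        * ∑ g : G, (if g ∉ Subgroup.center G then f g else 0) := by
  have h1 : ∑ x : G, ∑ g : G,
      (if x⁻¹ * g * x ∈ cstar H ∧ x⁻¹ * g * x ∉ Subgroup.center G then f g else 0)
      = (Fintype.card G : ℝ)
        * ∑ g : G, (if g ∈ cstar H ∧ g ∉ Subgroup.center G then f g else 0) := by
    have : ∀ x : G, ∑ g : G,
        (if x⁻¹ * g * x ∈ cstar H ∧ x⁻¹ * g * x ∉ Subgroup.center G then f g else 0)
        = ∑ g : G, (if g ∈ cstar H ∧ g ∉ Subgroup.center G then f g else 0) := by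
      intro x
      refine Fintype.sum_equiv (MulAut.conj x⁻¹).toEquiv _ _ (fun g => ?_)
      show (if x⁻¹ * g * x ∈ cstar H ∧ x⁻¹ * g * x ∉ Subgroup.center G then f g else 0)
        = (if x⁻¹ * g * x⁻¹⁻¹ ∈ cstar H ∧ x⁻¹ * g * x⁻¹⁻¹ ∉ Subgroup.center G
            then f (x⁻¹ * g * x⁻¹⁻¹) else 0)
      rw [inv_inv, hfc]
    rw [Finset.sum_congr rfl (fun x _ => this x), Finset.sum_const, Finset.card_univ,
      nsmul_eq_mul]
  rw [← h1, Finset.sum_comm, Finset.mul_sum]
  refine Finset.sum_le_sum (fun g _ => ?_)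
  by_cases hg : g ∈ Subgroup.center G
  · have : ∀ x : G, ¬ (x⁻¹ * g * x ∈ cstar H ∧ x⁻¹ * g * x ∉ Subgroup.center G) := by
      intro x hx
      apply hx.2
      have : x⁻¹ * g * x = g := by
        rw [mul_assoc, ← Subgroup.mem_center_iff.1 hg x, ← mul_assoc, inv_mul_cancel, one_mul]
      rw [this]
      exact hg
    simp [this, hg]
  · rw [if_pos hg]
    have hsum : ∑ x : G,
        (if x⁻¹ * g * x ∈ cstar H ∧ x⁻¹ * g * x ∉ Subgroup.center G then f g else 0)
        = ((Finset.univ.filter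
            (fun x : G => x⁻¹ * g * x ∈ cstar H ∧ x⁻¹ * g * x ∉ Subgroup.center G)).card : ℝ)
          * f g := by
      rw [← Finset.sum_filter, Finset.sum_const, nsmul_eq_mul]
    rw [hsum]
    refine mul_le_mul_of_nonneg_right ?_ (hf0 g)
    have hcard : (Finset.univ.filter
        (fun x : G => x⁻¹ * g * x ∈ cstar H ∧ x⁻¹ * g * x ∉ Subgroup.center G)).card
        ≤ Nat.card (Subgroup.normalizer (H : Set G)) := by
      rcases (Finset.univ.filter
        (fun x : G => x⁻¹ * g * x ∈ cstar H ∧ x⁻¹ * g * x ∉ Subgroup.center G)).eq_empty_or_nonempty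
        with h | ⟨x₀, hx₀⟩
      · rw [h]
        simp
      · have hx₀' := (Finset.mem_filter.1 hx₀).2
        have h2 : (Finset.univ.filter
            (fun x : G => x⁻¹ * g * x ∈ cstar H ∧ x⁻¹ * g * x ∉ Subgroup.center G)).card
            ≤ (Finset.univ.filter
              (fun x : G => x ∈ Subgroup.normalizer (H : Set G))).card := by
          refine Finset.card_le_card_of_injOn (fun x => x₀⁻¹ * x) ?_ ?_
          · intro x hx
            have hx' := (Finset.mem_filter.1 (Finset.mem_coe.1 hx)).2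
            refine Finset.mem_coe.2 (Finset.mem_filter.2 ⟨Finset.mem_univ _, ?_⟩)
            exact mem_normalizer_of_conj_mem_cstar H hyp hg hx₀'.1 hx'.1
          · intro x _ y _ hxy
            exact mul_left_cancel hxy
        rw [Nat.card_eq_fintype_card, Fintype.card_subtype]
        exact h2
    exact_mod_cast hcard

/-- The lower bound for the sum of `|χ|²` over `cstar H`. -/
theorem lower_count (hyp : FTHyp H) {χ : G → ℂ} (hχ : IsIrrCharacter G χ)
    (hker : ∃ h ∈ H, χ h ≠ χ 1) :
    (Nat.card (Subgroup.normalizer (H : Set G)) : ℝ)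
        + (Nat.card H : ℝ) * (Nat.card (Subgroup.center G) : ℝ)
          * Complex.normSq (classInner (fun h : H => χ h) (fun _ => 1))
      ≤ ∑ g : G, (if g ∈ cstar H then Complex.normSq (χ g) else 0) := by
  have hab := hyp.1
  have hZ := hyp.2.1
  have hχc : IsCharacter G χ := IsIrrCharacter.isCharacter hχ
  have hcf : IsClassFunction G χ := IsCharacter.isClassFunction hχc
  have hcard : (Nat.card H : ℂ) ≠ 0 := by exact_mod_cast Nat.card_pos.ne'
  have hNle : H ≤ Subgroup.normalizer (H : Set G) := Subgroup.le_normalizer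
  let Ψ : G → ℂ := fun g => (Nat.card H : ℂ)⁻¹ * ∑ k : H, χ (g * k)
  have hΨmul : ∀ (g : G) (k : H), Ψ (g * k) = Ψ g := by
    intro g k
    show (Nat.card H : ℂ)⁻¹ * ∑ k' : H, χ (g * k * k') = (Nat.card H : ℂ)⁻¹ * ∑ k' : H, χ (g * k')
    congr 1
    refine Fintype.sum_equiv (Equiv.mulLeft k) _ _ (fun k' => ?_)
    show χ (g * k * k') = χ (g * ((k * k' : H) : G))
    rw [Subgroup.coe_mul, mul_assoc]
  have hΔchar : IsCharacter (Subgroup.normalizer (H : Set G))
      (fun g : Subgroup.normalizer (H : Set G) => χ g - Ψ g) := isCharacter_sub_average H hχc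
  -- orthogonality of the average and the rest
  have horth : ∑ g : Subgroup.normalizer (H : Set G), χ g * conj (Ψ g)
      = ∑ g : Subgroup.normalizer (H : Set G), Ψ g * conj (Ψ g) := by
    have h1 : ∀ k : H, ∑ g : Subgroup.normalizer (H : Set G), χ ((g : G) * k) * conj (Ψ g)
        = ∑ g : Subgroup.normalizer (H : Set G), χ g * conj (Ψ g) := by
      intro k
      refine Fintype.sum_equiv
        (Equiv.mulRight (⟨k, hNle k.2⟩ : Subgroup.normalizer (H : Set G))) _ _ (fun g => ?_)
      show χ ((g : G) * k) * conj (Ψ g) = χ ((g : G) * k) * conj (Ψ ((g : G) * k))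
      rw [hΨmul]
    have h2 : ∑ g : Subgroup.normalizer (H : Set G), Ψ g * conj (Ψ g)
        = (Nat.card H : ℂ)⁻¹
          * ∑ k : H, ∑ g : Subgroup.normalizer (H : Set G), χ ((g : G) * k) * conj (Ψ g) := by
      conv_rhs => rw [Finset.sum_comm, Finset.mul_sum]
      refine Finset.sum_congr rfl (fun g _ => ?_)
      show (Nat.card H : ℂ)⁻¹ * (∑ k : H, χ ((g : G) * k)) * conj (Ψ g)
        = (Nat.card H : ℂ)⁻¹ * ∑ k : H, χ ((g : G) * k) * conj (Ψ g)
      rw [← Finset.sum_mul, mul_assoc]
    rw [h2, Finset.sum_congr rfl (fun k _ => h1 k), Finset.sum_const, Finset.card_univ,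
      nsmul_eq_mul, ← Nat.card_eq_fintype_card, ← mul_assoc, inv_mul_cancel₀ hcard, one_mul]
  have hsplit : ∑ g : Subgroup.normalizer (H : Set G), χ g * conj (χ g)
      = ∑ g : Subgroup.normalizer (H : Set G), Ψ g * conj (Ψ g)
        + ∑ g : Subgroup.normalizer (H : Set G), (χ g - Ψ g) * conj (χ g - Ψ g) := by
    have h3 : ∑ g : Subgroup.normalizer (H : Set G), Ψ g * conj (χ g)
        = ∑ g : Subgroup.normalizer (H : Set G), Ψ g * conj (Ψ g) := by
      have h := congrArg conj horth
      rw [map_sum, map_sum] at h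
      have e1 : ∀ g : Subgroup.normalizer (H : Set G),
          conj (χ g * conj (Ψ g)) = Ψ g * conj (χ g) := by
        intro g
        rw [map_mul, Complex.conj_conj, mul_comm]
      have e2 : ∀ g : Subgroup.normalizer (H : Set G),
          conj (Ψ g * conj (Ψ g)) = Ψ g * conj (Ψ g) := by
        intro g
        rw [map_mul, Complex.conj_conj, mul_comm]
      rw [Finset.sum_congr rfl (fun g _ => e1 g), Finset.sum_congr rfl (fun g _ => e2 g)] at h
      exact h
    have h4 : ∀ g : Subgroup.normalizer (H : Set G), (χ g - Ψ g) * conj (χ g - Ψ g)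
        = χ g * conj (χ g) - χ g * conj (Ψ g) - Ψ g * conj (χ g) + Ψ g * conj (Ψ g) := by
      intro g
      rw [map_sub]
      ring
    rw [Finset.sum_congr rfl (fun g _ => h4 g), Finset.sum_add_distrib, Finset.sum_sub_distrib,
      Finset.sum_sub_distrib, horth, h3]
    ring
  have hre : ∀ F : Subgroup.normalizer (H : Set G) → ℂ,
      ∑ g : Subgroup.normalizer (H : Set G), F g * conj (F g)
        = ((∑ g : Subgroup.normalizer (H : Set G), Complex.normSq (F g) : ℝ) : ℂ) := by
    intro F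
    push_cast
    exact Finset.sum_congr rfl (fun g _ => Complex.mul_conj (F g))
  have hsplitR : ∑ g : Subgroup.normalizer (H : Set G), Complex.normSq (χ g)
      = ∑ g : Subgroup.normalizer (H : Set G), Complex.normSq (Ψ g)
        + ∑ g : Subgroup.normalizer (H : Set G), Complex.normSq (χ g - Ψ g) := by
    have h := hsplit
    rw [hre (fun g => χ g), hre (fun g => Ψ g), hre (fun g => χ g - Ψ g)] at h
    exact_mod_cast h
  -- the norm of the rest is at least one
  have hΔ : (Nat.card (Subgroup.normalizer (H : Set G)) : ℝ)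
      ≤ ∑ g : Subgroup.normalizer (H : Set G), Complex.normSq (χ g - Ψ g) := by
    obtain ⟨m, hm⟩ := Cfsg.Agent.Lib.CT.Clifford.classInner_char_nat hΔchar hΔchar
    unfold classInner at hm
    have hNne : (Nat.card (Subgroup.normalizer (H : Set G)) : ℂ) ≠ 0 := by
      exact_mod_cast Nat.card_pos.ne'
    have h4 : ∑ g : Subgroup.normalizer (H : Set G), (χ g - Ψ g) * conj (χ g - Ψ g)
        = (Nat.card (Subgroup.normalizer (H : Set G)) : ℂ) * m := by
      rw [← hm, ← mul_assoc, mul_inv_cancel₀ hNne, one_mul]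
    rw [hre (fun g => χ g - Ψ g)] at h4
    have h5 : ∑ g : Subgroup.normalizer (H : Set G), Complex.normSq (χ g - Ψ g)
        = (Nat.card (Subgroup.normalizer (H : Set G)) : ℝ) * m := by exact_mod_cast h4
    have hm1 : 1 ≤ m := by
      by_contra hcon
      have hm0 : m = 0 := by omega
      rw [hm0, Nat.cast_zero, mul_zero] at h5
      have h6 := (Finset.sum_eq_zero_iff_of_nonneg (fun g _ => Complex.normSq_nonneg _)).1 h5
      obtain ⟨h, hh, hne⟩ := hker
      have e1 : χ h = Ψ h := by
        have := h6 ⟨h, hNle hh⟩ (Finset.mem_univ _)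
        rw [Complex.normSq_eq_zero, sub_eq_zero] at this
        exact this
      have e2 : χ 1 = Ψ 1 := by
        have := h6 ⟨1, Subgroup.one_mem _⟩ (Finset.mem_univ _)
        rw [Complex.normSq_eq_zero, sub_eq_zero] at this
        exact this
      have e3 : Ψ h = Ψ 1 := by
        have := hΨmul 1 ⟨h, hh⟩
        rwa [one_mul] at this
      exact hne (by rw [e1, e3, ← e2])
    rw [h5]
    have h7 : (1 : ℝ) ≤ m := by exact_mod_cast hm1
    have h8 : (0 : ℝ) ≤ (Nat.card (Subgroup.normalizer (H : Set G)) : ℝ) := Nat.cast_nonneg _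
    nlinarith
  -- elements acting without fixed points on `H`
  have hfix : ∀ g : Subgroup.normalizer (H : Set G), (g : G) ∉ cstar H → χ g = Ψ g := by
    intro g hg
    have hginv : (g : G)⁻¹ ∈ Subgroup.normalizer (H : Set G) := Subgroup.inv_mem _ g.2
    have hmem : ∀ k : H, (g : G)⁻¹ * k * g * (k : G)⁻¹ ∈ H := by
      intro k
      refine H.mul_mem ?_ (H.inv_mem k.2)
      have := (Subgroup.mem_normalizer_iff.1 hginv k).1 k.2
      simpa using this
    let c : H → H := fun k => ⟨(g : G)⁻¹ * k * g * (k : G)⁻¹, hmem k⟩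
    have hcinj : Function.Injective c := by
      intro k k' hkk
      have e : (g : G)⁻¹ * k * g * (k : G)⁻¹ = (g : G)⁻¹ * k' * g * (k' : G)⁻¹ :=
        congrArg Subtype.val hkk
      by_contra hne
      apply hg
      refine ⟨(k : G)⁻¹ * k', H.mul_mem (H.inv_mem k.2) k'.2, ?_, ?_⟩
      · intro h1
        apply hne
        apply Subtype.ext
        exact inv_mul_eq_one.1 h1
      · have e' : (k : G) * g * (k : G)⁻¹ = k' * g * (k' : G)⁻¹ := by
          calc (k : G) * g * (k : G)⁻¹ = (g : G) * ((g : G)⁻¹ * k * g * (k : G)⁻¹) := by group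
            _ = (g : G) * ((g : G)⁻¹ * k' * g * (k' : G)⁻¹) := by rw [e]
            _ = k' * g * (k' : G)⁻¹ := by group
        calc (g : G) * ((k : G)⁻¹ * k') = (k : G)⁻¹ * ((k : G) * g * (k : G)⁻¹) * k' := by group
          _ = (k : G)⁻¹ * (k' * g * (k' : G)⁻¹) * k' := by rw [e']
          _ = (k : G)⁻¹ * k' * g := by group
    have hcbij : Function.Bijective c := Finite.injective_iff_bijective.1 hcinj
    have h1 : ∑ k : H, χ ((g : G) * k) = ∑ k : H, χ ((g : G) * c k) :=
      (Fintype.sum_bijective c hcbij _ _ (fun k => rfl)).symm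
    have h2 : ∀ k : H, χ ((g : G) * c k) = χ g := by
      intro k
      show χ ((g : G) * ((g : G)⁻¹ * k * g * (k : G)⁻¹)) = χ g
      have : (g : G) * ((g : G)⁻¹ * k * g * (k : G)⁻¹) = k * g * (k : G)⁻¹ := by group
      rw [this, hcf]
    show χ g = (Nat.card H : ℂ)⁻¹ * ∑ k : H, χ ((g : G) * k)
    rw [h1, Finset.sum_congr rfl (fun k _ => h2 k), Finset.sum_const, Finset.card_univ,
      nsmul_eq_mul, ← Nat.card_eq_fintype_card, ← mul_assoc, inv_mul_cancel₀ hcard, one_mul]
  have hlow1 : ∑ g : Subgroup.normalizer (H : Set G),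
        (if (g : G) ∈ cstar H then Complex.normSq (χ g) else 0)
      = ∑ g : Subgroup.normalizer (H : Set G), Complex.normSq (χ g - Ψ g)
        + ∑ g : Subgroup.normalizer (H : Set G),
            (if (g : G) ∈ cstar H then Complex.normSq (Ψ g) else 0) := by
    have e1 : ∀ F : Subgroup.normalizer (H : Set G) → ℝ,
        ∑ g : Subgroup.normalizer (H : Set G), F g
          = ∑ g : Subgroup.normalizer (H : Set G), (if (g : G) ∈ cstar H then F g else 0)
            + ∑ g : Subgroup.normalizer (H : Set G), (if (g : G) ∈ cstar H then 0 else F g) := by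
      intro F
      rw [← Finset.sum_add_distrib]
      refine Finset.sum_congr rfl (fun g _ => ?_)
      split_ifs <;> simp
    have e2 : ∑ g : Subgroup.normalizer (H : Set G),
          (if (g : G) ∈ cstar H then 0 else Complex.normSq (χ g))
        = ∑ g : Subgroup.normalizer (H : Set G),
          (if (g : G) ∈ cstar H then 0 else Complex.normSq (Ψ g)) := by
      refine Finset.sum_congr rfl (fun g _ => ?_)
      split_ifs with h
      · rfl
      · rw [hfix g h]
    have e3 := e1 (fun g => Complex.normSq (χ g))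
    have e4 := e1 (fun g => Complex.normSq (Ψ g))
    linarith [hsplitR]
  -- the contribution of `H Z(G)`
  obtain ⟨h₀, hh₀, hne₀⟩ := hker
  have hh₀1 : h₀ ≠ 1 := by
    intro h
    rw [h] at hne₀
    exact hne₀ rfl
  obtain ⟨n, hnpos, hn⟩ := IsIrrCharacter.exists_apply_one_pos hχ
  have hlow2 : (Nat.card H : ℝ) * (Nat.card (Subgroup.center G) : ℝ)
        * Complex.normSq (classInner (fun h : H => χ h) (fun _ => 1))
      ≤ ∑ g : Subgroup.normalizer (H : Set G),
          (if (g : G) ∈ cstar H then Complex.normSq (Ψ g) else 0) := by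
    have ha : classInner (fun h : H => χ h) (fun _ => 1) = Ψ 1 := by
      unfold classInner
      simp [Ψ]
    let φ : H × Subgroup.center G → Subgroup.normalizer (H : Set G) := fun p =>
      ⟨(p.1 : G) * p.2, Subgroup.mul_mem _ (hNle p.1.2)
        (Subgroup.center_le_normalizer _ p.2.2)⟩
    have hφinj : Function.Injective φ := by
      intro p q hpq
      have e : (p.1 : G) * p.2 = q.1 * q.2 := congrArg Subtype.val hpq
      have h1 : (q.1 : G)⁻¹ * p.1 = q.2 * (p.2 : G)⁻¹ := by
        calc (q.1 : G)⁻¹ * p.1 = (q.1 : G)⁻¹ * ((p.1 : G) * p.2) * (p.2 : G)⁻¹ := by group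
          _ = (q.1 : G)⁻¹ * ((q.1 : G) * q.2) * (p.2 : G)⁻¹ := by rw [e]
          _ = q.2 * (p.2 : G)⁻¹ := by group
      have h2 : (q.1 : G)⁻¹ * p.1 ∈ H ⊓ Subgroup.center G := by
        refine ⟨H.mul_mem (H.inv_mem q.1.2) p.1.2, ?_⟩
        rw [h1]
        exact Subgroup.mul_mem _ q.2.2 (Subgroup.inv_mem _ p.2.2)
      rw [hZ, Subgroup.mem_bot, inv_mul_eq_one] at h2
      have h3 : (p.2 : G) = q.2 := by
        rw [h2] at e
        exact mul_left_cancel e
      exact Prod.ext (Subtype.ext h2.symm) (Subtype.ext h3)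
    have hφmem : ∀ p, ((φ p : Subgroup.normalizer (H : Set G)) : G) ∈ cstar H := by
      intro p
      refine ⟨h₀, hh₀, hh₀1, ?_⟩
      show (p.1 : G) * p.2 * h₀ = h₀ * ((p.1 : G) * p.2)
      have hz := Subgroup.mem_center_iff.1 p.2.2 h₀
      calc (p.1 : G) * p.2 * h₀ = (p.1 : G) * (h₀ * p.2) := by rw [mul_assoc, hz]
        _ = ((p.1 : G) * h₀) * p.2 := by rw [mul_assoc]
        _ = (h₀ * (p.1 : G)) * p.2 := by rw [hab _ p.1.2 _ hh₀]
        _ = h₀ * ((p.1 : G) * p.2) := by rw [mul_assoc]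
    have hφval : ∀ p, Complex.normSq (Ψ (φ p)) = Complex.normSq (Ψ 1) := by
      intro p
      have hzc := p.2.2
      have hz1 : ‖χ (p.2 : G)‖ = (χ 1).re :=
        Cfsg.Agent.Lib.CT.Kernel.norm_eq_of_mem_center hχ hzc
      obtain ⟨ω, hω1, -, hω3⟩ := Cfsg.Agent.Lib.CT.Kernel.exists_scalar_of_norm_eq hχc hz1
      have hωnorm : ‖ω‖ = 1 := by
        have h1 : ‖χ (p.2 : G)‖ = ‖ω‖ * ‖χ 1‖ := by rw [hω3, norm_mul]
        rw [hz1, hn] at h1
        simp only [Complex.natCast_re, Complex.norm_natCast] at h1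
        have hn0 : (n : ℝ) ≠ 0 := by exact_mod_cast hnpos.ne'
        have : ‖ω‖ * (n : ℝ) = 1 * (n : ℝ) := by rw [one_mul]; exact h1.symm
        exact mul_right_cancel₀ hn0 this
      have h2 : Ψ (φ p) = ω * Ψ 1 := by
        show Ψ ((p.1 : G) * p.2) = ω * Ψ 1
        have hcomm : (p.1 : G) * p.2 = (p.2 : G) * p.1 := Subgroup.mem_center_iff.1 hzc p.1
        rw [hcomm, hΨmul]
        show (Nat.card H : ℂ)⁻¹ * ∑ k : H, χ ((p.2 : G) * k)
          = ω * ((Nat.card H : ℂ)⁻¹ * ∑ k : H, χ (1 * k))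
        rw [Finset.sum_congr rfl (fun (k : H) _ => hω1 (k : G)), ← Finset.mul_sum]
        simp only [one_mul]
        ring
      rw [h2, map_mul, Complex.normSq_eq_norm_sq ω, hωnorm]
      ring
    have h3 : ∑ p : H × Subgroup.center G, Complex.normSq (Ψ (φ p))
        = (Nat.card H : ℝ) * (Nat.card (Subgroup.center G) : ℝ)
          * Complex.normSq (classInner (fun h : H => χ h) (fun _ => 1)) := by
      rw [Finset.sum_congr rfl (fun p _ => hφval p), Finset.sum_const, Finset.card_univ,
        Fintype.card_prod, nsmul_eq_mul, ha, Nat.card_eq_fintype_card, Nat.card_eq_fintype_card]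
      push_cast
      ring
    rw [← h3]
    have h4 : ∑ p : H × Subgroup.center G, Complex.normSq (Ψ (φ p))
        = ∑ g ∈ Finset.univ.image φ,
          (if (g : G) ∈ cstar H then Complex.normSq (Ψ g) else 0) := by
      rw [Finset.sum_image (fun p _ q _ hpq => hφinj hpq)]
      refine Finset.sum_congr rfl (fun p _ => ?_)
      rw [if_pos (hφmem p)]
    rw [h4]
    refine Finset.sum_le_sum_of_subset_of_nonneg (Finset.subset_univ _) (fun g _ _ => ?_)
    split_ifs
    · exact Complex.normSq_nonneg _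
    · exact le_rfl
  -- convert the sum over `G` to a sum over the normalizer
  have hconv : ∑ g : G, (if g ∈ cstar H then Complex.normSq (χ g) else 0)
      = ∑ g : Subgroup.normalizer (H : Set G),
          (if (g : G) ∈ cstar H then Complex.normSq (χ g) else 0) := by
    have h1 : ∑ g ∈ Finset.univ.filter (fun g : G => g ∈ Subgroup.normalizer (H : Set G)),
        (if g ∈ cstar H then Complex.normSq (χ g) else 0)
        = ∑ g : G, (if g ∈ cstar H then Complex.normSq (χ g) else 0) := by
      refine Finset.sum_filter_of_ne (fun g _ hg => ?_)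
      by_contra hcon
      apply hg
      rw [if_neg (fun h => hcon (cstar_subset_normalizer H hyp h))]
    rw [← h1]
    exact Finset.sum_subtype _ (fun g => by simp) _
  rw [hconv, hlow1]
  linarith

/-- **Feit–Thompson counting lemma**: `|H| ⟨χ_H, 1_H⟩² < χ(1)²`. -/
theorem ft_inequality (hyp : FTHyp H) {χ : G → ℂ} (hχ : IsIrrCharacter G χ)
    (hker : ∃ h ∈ H, χ h ≠ χ 1) :
    (Nat.card H : ℝ) * Complex.normSq (classInner (fun h : H => χ h) (fun _ => 1))
      < (χ 1).re ^ 2 := by
  have hχc : IsCharacter G χ := IsIrrCharacter.isCharacter hχ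
  have hcf : IsClassFunction G χ := IsCharacter.isClassFunction hχc
  obtain ⟨n, hnpos, hn⟩ := IsIrrCharacter.exists_apply_one_pos hχ
  have hup := upper_count H hyp (fun g => Complex.normSq (χ g))
    (fun g => Complex.normSq_nonneg _) (fun g x => by
      have := hcf g x⁻¹
      rw [inv_inv] at this
      show Complex.normSq (χ (x⁻¹ * g * x)) = Complex.normSq (χ g)
      rw [this])
  have hlow := lower_count H hyp hχ hker
  -- the total sum
  have hG : ∑ g : G, Complex.normSq (χ g) = (Fintype.card G : ℝ) := by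
    have h1 := Cfsg.Agent.Lib.CT.NormOne.inner_self_eq_one_of_irr hχ
    unfold classInner at h1
    have hGne : (Nat.card G : ℂ) ≠ 0 := by exact_mod_cast Nat.card_pos.ne'
    have h2 : ∑ g : G, χ g * conj (χ g) = (Nat.card G : ℂ) := by
      have := congrArg (fun t => (Nat.card G : ℂ) * t) h1
      simp only [← mul_assoc, mul_inv_cancel₀ hGne, one_mul, mul_one] at this
      exact this
    have h3 : ∑ g : G, χ g * conj (χ g) = ((∑ g : G, Complex.normSq (χ g) : ℝ) : ℂ) := by
      push_cast
      exact Finset.sum_congr rfl (fun g _ => Complex.mul_conj (χ g))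
    rw [h3, Nat.card_eq_fintype_card] at h2
    exact_mod_cast h2
  -- the centre
  have hZsum : ∑ g : G, (if g ∈ Subgroup.center G then Complex.normSq (χ g) else 0)
      = (Nat.card (Subgroup.center G) : ℝ) * (χ 1).re ^ 2 := by
    have h1 : ∀ g : G, (if g ∈ Subgroup.center G then Complex.normSq (χ g) else 0)
        = (if g ∈ Subgroup.center G then (χ 1).re ^ 2 else 0) := by
      intro g
      split_ifs with h
      · rw [Complex.normSq_eq_norm_sq, Cfsg.Agent.Lib.CT.Kernel.norm_eq_of_mem_center hχ h]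
      · rfl
    rw [Finset.sum_congr rfl (fun g _ => h1 g), ← Finset.sum_filter, Finset.sum_const,
      nsmul_eq_mul, Nat.card_eq_fintype_card, Fintype.card_subtype]
  have hnotZ : ∑ g : G, (if g ∉ Subgroup.center G then Complex.normSq (χ g) else 0)
      = (Fintype.card G : ℝ) - (Nat.card (Subgroup.center G) : ℝ) * (χ 1).re ^ 2 := by
    rw [← hG, ← hZsum, eq_sub_iff_add_eq, ← Finset.sum_add_distrib]
    refine Finset.sum_congr rfl (fun g _ => ?_)
    split_ifs <;> simp
  obtain ⟨h₀, hh₀, hne₀⟩ := hker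
  have hh₀1 : h₀ ≠ 1 := by
    intro h
    rw [h] at hne₀
    exact hne₀ rfl
  have hsplit : ∑ g : G, (if g ∈ cstar H then Complex.normSq (χ g) else 0)
      = ∑ g : G, (if g ∈ cstar H ∧ g ∉ Subgroup.center G then Complex.normSq (χ g) else 0)
        + ∑ g : G, (if g ∈ Subgroup.center G then Complex.normSq (χ g) else 0) := by
    rw [← Finset.sum_add_distrib]
    refine Finset.sum_congr rfl (fun g _ => ?_)
    by_cases hz : g ∈ Subgroup.center G
    · have hc : g ∈ cstar H := ⟨h₀, hh₀, hh₀1, (Subgroup.mem_center_iff.1 hz h₀).symm⟩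
      simp [hz, hc]
    · by_cases hc : g ∈ cstar H <;> simp [hz, hc]
  rw [hnotZ] at hup
  rw [hsplit, hZsum] at hlow
  set SM := ∑ g : G, (if g ∈ cstar H ∧ g ∉ Subgroup.center G then Complex.normSq (χ g) else 0)
  set A := Complex.normSq (classInner (fun h : H => χ h) (fun _ => 1))
  have hre : (χ 1).re = n := by rw [hn]; simp
  rw [hre] at hup hlow ⊢
  have hGpos : (0 : ℝ) < (Fintype.card G : ℝ) := by exact_mod_cast Fintype.card_pos
  have hNpos : (0 : ℝ) < (Nat.card (Subgroup.normalizer (H : Set G)) : ℝ) := by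
    exact_mod_cast Nat.card_pos
  have hZpos : (0 : ℝ) < (Nat.card (Subgroup.center G) : ℝ) := by exact_mod_cast Nat.card_pos
  have hnpos' : (0 : ℝ) < (n : ℝ) := by exact_mod_cast hnpos
  by_contra hcon
  push Not at hcon
  have h1 := mul_le_mul_of_nonneg_left hlow hGpos.le
  have h2 : 0 ≤ (Fintype.card G : ℝ) * (Nat.card (Subgroup.center G) : ℝ)
      * ((Nat.card H : ℝ) * A - (n : ℝ) ^ 2) :=
    mul_nonneg (mul_nonneg hGpos.le hZpos.le) (by linarith)
  have h3 : 0 < (Nat.card (Subgroup.normalizer (H : Set G)) : ℝ)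
      * (Nat.card (Subgroup.center G) : ℝ) * (n : ℝ) ^ 2 := by positivity
  nlinarith

end Count

end Cfsg.Agent.Lib.Helper3.FTCount
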