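import Mathlib
import Cfsg.Agent.S0898
import Cfsg.Agent.Lib.Helper3.FTBpn
import Cfsg.Agent.Lib.Helper3.TDTak
import Cfsg.Agent.Lib.Helper3.TDUniq
import Cfsg.Agent.Lib.Helper3.MGroup
import Cfsg.Agent.Lib.CT.Kernel

/-!
The Feit–Thompson–Blichfeldt reduction: a group with a faithful character of degree `n`,
`n + 1 < p`, all of whose proper subgroups have a normal Sylow `p`-subgroup, and whose Sylow
`p`-subgroups have order at least `(n + 1)^2`, has a normal Sylow `p`-subgroup.
-/

set_option autoImplicit false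

namespace Cfsg.Agent.Lib.Helper3.FTBmain

open Cfsg Cfsg.Agent.Lib.Helper80.Integrality Cfsg.Agent.Lib.Helper80.Restrict
open Cfsg.Agent.Lib.CT.Wedderburn Cfsg.Agent.Lib.CT.Orth
open Cfsg.Agent.Lib.Helper3.TDTak Cfsg.Agent.Lib.Helper3.TDUniq Cfsg.Agent.Lib.Helper3.TDFrob
open Cfsg.Agent.Lib.Helper3.FTBpn

universe u
variable {G : Type u} [Group G]

theorem mem_smul_sylow (p : ℕ) (g : G) (P : Sylow p G) (y : G) :
    y ∈ ((g • P : Sylow p G) : Subgroup G) ↔ g⁻¹ * y * g ∈ (P : Subgroup G) := by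
  rw [Sylow.smul_def, Sylow.pointwise_smul_def, Subgroup.mem_pointwise_smul_iff_inv_smul_mem]
  simp [MulAut.smul_def]

theorem map_conj_eq_smul (p : ℕ) (a : G) (P : Sylow p G) :
    (P : Subgroup G).map (MulAut.conj a).toMonoidHom = ((a • P : Sylow p G) : Subgroup G) := by
  ext y
  rw [mem_smul_sylow, Subgroup.mem_map]
  constructor
  · rintro ⟨h, hh, rfl⟩
    have e : a⁻¹ * ((MulAut.conj a).toMonoidHom h) * a = h := by
      show a⁻¹ * (a * h * a⁻¹) * a = h
      group
    rw [e]
    exact hh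
  · intro h
    refine ⟨a⁻¹ * y * a, h, ?_⟩
    show a * (a⁻¹ * y * a) * a⁻¹ = y
    group

/-- A faithful character of degree less than `p` forces abelian Sylow `p`-subgroups. -/
theorem sylow_comm [Finite G] (p : ℕ) [Fact p.Prime] (Φ : G → ℂ) (hΦ : IsCharacter G Φ)
    (hfaith : ∀ g, Φ g = Φ 1 → g = 1) (hdeg : charDegree Φ < p) (P : Sylow p G) :
    ∀ a ∈ (P : Subgroup G), ∀ b ∈ (P : Subgroup G), a * b = b * a := by
  classical
  intro a ha b hb
  have hp : p.Prime := Fact.out
  haveI : Fintype (P : Subgroup G) := Fintype.ofFinite _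
  haveI := finite_irrCharacter (P : Subgroup G)
  haveI := Fintype.ofFinite (IrrCharacter (P : Subgroup G))
  have hφ : IsCharacter (P : Subgroup G) (fun x : (P : Subgroup G) => Φ x) :=
    Cfsg.Agent.Lib.CT.Ops.isCharacter_restrict _ hΦ
  obtain ⟨mm, -, hmm2, hmm3, -⟩ := exists_mult hφ
  have hlin : ∀ ψ : IrrCharacter (P : Subgroup G), mm ψ ≠ 0 →
      charDegree ψ.1 = 1 := by
    intro ψ hψ
    have h1 : charDegree ψ.1 ≤ charDegree Φ := by
      have h0 : charDegree (fun x : (P : Subgroup G) => Φ x) = charDegree Φ := rfl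
      rw [← h0, hmm3]
      calc charDegree ψ.1
          ≤ mm ψ * charDegree ψ.1 :=
            Nat.le_mul_of_pos_left _ (Nat.pos_of_ne_zero hψ)
        _ ≤ ∑ φ' : IrrCharacter (P : Subgroup G), mm φ' * charDegree φ'.1 :=
          Finset.single_le_sum
            (f := fun φ' : IrrCharacter (P : Subgroup G) =>
              mm φ' * charDegree φ'.1)
            (fun _ _ => Nat.zero_le _) (Finset.mem_univ ψ)
    have h2 : charDegree ψ.1 ∣ Nat.card (P : Subgroup G) :=
      charDegree_dvd_card ψ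
    rw [P.card_eq_multiplicity] at h2
    obtain ⟨i, -, hi⟩ := (Nat.dvd_prime_pow hp).1 h2
    rcases Nat.eq_zero_or_pos i with h0 | hipos
    · rw [hi, h0, pow_zero]
    · exfalso
      have h3 : p ^ 1 ≤ p ^ i := Nat.pow_le_pow_right hp.pos hipos
      rw [pow_one] at h3
      omega
  have hcomm := conj_mul_inv_mem_commutator (⟨a, ha⟩ : (P : Subgroup G)) ⟨b, hb⟩
  have h1 : Φ (a * b * a⁻¹ * b⁻¹) = Φ 1 := by
    have e1 := hmm2 ((⟨a, ha⟩ : (P : Subgroup G)) * ⟨b, hb⟩ * (⟨a, ha⟩ : (P : Subgroup G))⁻¹ *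
      (⟨b, hb⟩ : (P : Subgroup G))⁻¹)
    have e2 := hmm2 1
    have e3 : ∀ ψ : IrrCharacter (P : Subgroup G),
        (mm ψ : ℂ) * ψ.1 ((⟨a, ha⟩ : (P : Subgroup G)) * ⟨b, hb⟩ *
          (⟨a, ha⟩ : (P : Subgroup G))⁻¹ * (⟨b, hb⟩ : (P : Subgroup G))⁻¹) =
        (mm ψ : ℂ) * ψ.1 1 := by
      intro ψ
      by_cases hψ : mm ψ = 0
      · rw [hψ]
        simp
      · rw [apply_eq_one_of_mem_commutator ψ (hlin ψ hψ) hcomm]
    calc Φ (a * b * a⁻¹ * b⁻¹) = _ := e1
      _ = ∑ ψ : IrrCharacter (P : Subgroup G), (mm ψ : ℂ) * ψ.1 1 :=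
        Finset.sum_congr rfl (fun ψ _ => e3 ψ)
      _ = Φ 1 := e2.symm
  have h2 := hfaith _ h1
  calc a * b = (a * b * a⁻¹ * b⁻¹) * (b * a) := by group
    _ = b * a := by rw [h2, one_mul]

/-- The kernel of the transfer into an abelian Sylow `p`-subgroup. -/
theorem exists_transfer_kernel [Finite G] (p : ℕ) [Fact p.Prime] (P : Sylow p G)
    (hab : ∀ a ∈ (P : Subgroup G), ∀ b ∈ (P : Subgroup G), a * b = b * a) :
    ∃ M : Subgroup G, M.Normal ∧ (∀ g : G, g ^ Nat.card (P : Subgroup G) ∈ M) ∧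
      ∀ y, y ∈ (P : Subgroup G) → y ∈ Subgroup.center G → y ∈ M → y = 1 := by
  classical
  letI : CommGroup (P : Subgroup G) :=
    { (inferInstance : Group (P : Subgroup G)) with
      mul_comm := fun a b => Subtype.ext (hab a a.2 b b.2) }
  let V : G →* (P : Subgroup G) := MonoidHom.transfer (MonoidHom.id (P : Subgroup G))
  have hV : ∀ y, y ∈ (P : Subgroup G) → y ∈ Subgroup.center G →
      ((V y : (P : Subgroup G)) : G) = y ^ (P : Subgroup G).index := by
    intro y hyP hyc
    have key : ∀ (k : ℕ) (g₀ : G), g₀⁻¹ * y ^ k * g₀ ∈ (P : Subgroup G) →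
        g₀⁻¹ * y ^ k * g₀ = y ^ k := by
      intro k g₀ _
      have h1 : y ^ k ∈ Subgroup.center G := Subgroup.pow_mem _ hyc k
      have h2 := Subgroup.mem_center_iff.1 h1 g₀
      calc g₀⁻¹ * y ^ k * g₀ = g₀⁻¹ * (y ^ k * g₀) := by group
        _ = g₀⁻¹ * (g₀ * y ^ k) := by rw [h2]
        _ = y ^ k := by group
    have h3 := MonoidHom.transfer_eq_pow (MonoidHom.id (P : Subgroup G)) y key
    show ((MonoidHom.transfer (MonoidHom.id (P : Subgroup G)) y : (P : Subgroup G)) : G) = _
    rw [h3]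
    rfl
  have hcop : (Nat.card (P : Subgroup G)).Coprime (P : Subgroup G).index := by
    rw [P.card_eq_multiplicity]
    exact Nat.Coprime.pow_left _ ((Nat.Prime.coprime_iff_not_dvd Fact.out).2 P.not_dvd_index)
  have hker : ∀ y, y ∈ (P : Subgroup G) → y ∈ Subgroup.center G → y ∈ V.ker → y = 1 := by
    intro y hyP hyc hyk
    have h1 := hV y hyP hyc
    rw [MonoidHom.mem_ker.1 hyk] at h1
    have h2 : y ^ (P : Subgroup G).index = 1 := h1.symm
    have h3 : y ^ Nat.card (P : Subgroup G) = 1 := by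
      have h4 : ((⟨y, hyP⟩ : (P : Subgroup G)) ^ Nat.card (P : Subgroup G) : (P : Subgroup G)) = 1 :=
        pow_card_eq_one'
      exact congrArg Subtype.val h4
    have h6 : orderOf y ∣ Nat.card (P : Subgroup G) := orderOf_dvd_of_pow_eq_one h3
    have h7 : orderOf y ∣ (P : Subgroup G).index := orderOf_dvd_of_pow_eq_one h2
    have h8 : orderOf y = 1 := by
      have h := Nat.dvd_gcd h6 h7
      rw [hcop] at h
      exact Nat.dvd_one.1 h
    exact orderOf_eq_one_iff.1 h8
  refine ⟨V.ker, MonoidHom.normal_ker V, ?_, hker⟩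
  intro g
  rw [MonoidHom.mem_ker, map_pow]
  exact pow_card_eq_one'

/-- The Feit–Thompson–Blichfeldt reduction. -/
theorem ftb (p : ℕ) [Fact p.Prime] [Finite G] (n : ℕ) (hnp : n + 1 < p)
    (Φ : G → ℂ) (hΦ : IsCharacter G Φ) (hfaith : ∀ g, Φ g = Φ 1 → g = 1)
    (hdeg : charDegree Φ = n)
    (hsub : ∀ K : Subgroup G, K ≠ ⊤ → ∃ Q : Sylow p K, (Q : Subgroup K).Normal)
    (hbig : (n + 1) ^ 2 ≤ p ^ (Nat.card G).factorization p) :
    ∃ P : Sylow p G, (P : Subgroup G).Normal := by
  classical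
  by_contra hcon
  push Not at hcon
  have hp : p.Prime := Fact.out
  haveI := Fintype.ofFinite G
  haveI := finite_irrCharacter G
  haveI := Fintype.ofFinite (IrrCharacter G)
  obtain ⟨P⟩ : Nonempty (Sylow p G) := inferInstance
  have hab : ∀ Q : Sylow p G, ∀ a ∈ (Q : Subgroup G), ∀ b ∈ (Q : Subgroup G), a * b = b * a :=
    fun Q => sylow_comm p Φ hΦ hfaith (by omega) Q
  have huniq : ∀ K : Subgroup G, K ≠ ⊤ → ∀ P₁ P₂ : Sylow p G, (P₁ : Subgroup G) ≤ K →
      (P₂ : Subgroup G) ≤ K → P₁ = P₂ := by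
    intro K hK P₁ P₂ h₁ h₂
    obtain ⟨Q, hQ⟩ := hsub K hK
    haveI := Sylow.unique_of_normal Q hQ
    exact Sylow.subtype_injective (Subsingleton.elim (P₁.subtype h₁) (P₂.subtype h₂))
  have hgen : ∀ P₁ P₂ : Sylow p G, P₁ ≠ P₂ → (P₁ : Subgroup G) ⊔ (P₂ : Subgroup G) = ⊤ := by
    intro P₁ P₂ hne
    by_contra h
    exact hne (huniq _ h P₁ P₂ le_sup_left le_sup_right)
  have hcen : ∀ P₁ P₂ : Sylow p G, P₁ ≠ P₂ → ∀ d, d ∈ (P₁ : Subgroup G) →
      d ∈ (P₂ : Subgroup G) → d ∈ Subgroup.center G := by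
    intro P₁ P₂ hne d hd1 hd2
    have h1 : (P₁ : Subgroup G) ⊔ (P₂ : Subgroup G) ≤ Subgroup.centralizer ({d} : Set G) := by
      apply sup_le
      · intro y hy
        rw [Subgroup.mem_centralizer_iff]
        intro h hh
        rw [Set.mem_singleton_iff] at hh
        rw [hh]
        exact hab P₁ d hd1 y hy
      · intro y hy
        rw [Subgroup.mem_centralizer_iff]
        intro h hh
        rw [Set.mem_singleton_iff] at hh
        rw [hh]
        exact hab P₂ d hd2 y hy
    rw [hgen P₁ P₂ hne] at h1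
    rw [Subgroup.mem_center_iff]
    intro g
    have h2 := h1 (Subgroup.mem_top g)
    rw [Subgroup.mem_centralizer_iff] at h2
    exact (h2 d rfl).symm
  have hnormal_of : ∀ Q : Sylow p G, (∀ g : G, g • Q = Q) → (Q : Subgroup G).Normal := by
    intro Q h
    rw [← Subgroup.normalizer_eq_top_iff, Subgroup.eq_top_iff']
    intro g
    exact Sylow.smul_eq_iff_mem_normalizer.1 (h g)
  obtain ⟨P₂, hP₂⟩ : ∃ P₂ : Sylow p G, P₂ ≠ P := by
    by_contra h
    push Not at h
    exact hcon P (hnormal_of P (fun g => h (g • P)))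
  have hnorm : ∀ M : Subgroup G, M.Normal → (P : Subgroup G) ≤ M → M = ⊤ := by
    intro M hM hPM
    by_contra hMtop
    apply hcon P
    apply hnormal_of P
    intro g
    apply huniq M hMtop (g • P) P _ hPM
    intro y hy
    have h1 := (mem_smul_sylow p g P y).1 hy
    have h2 := hM.conj_mem _ (hPM h1) g
    have e : g * (g⁻¹ * y * g) * g⁻¹ = y := by group
    rw [e] at h2
    exact h2
  obtain ⟨mm, -, hmm2, hmm3, -⟩ := exists_mult hΦ
  have hdn : ∀ χ : IrrCharacter G, mm χ ≠ 0 → charDegree (χ : G → ℂ) ≤ n := by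
    intro χ hχ
    rw [← hdeg, hmm3]
    calc charDegree (χ : G → ℂ) ≤ mm χ * charDegree (χ : G → ℂ) :=
          Nat.le_mul_of_pos_left _ (Nat.pos_of_ne_zero hχ)
      _ ≤ ∑ φ' : IrrCharacter G, mm φ' * charDegree (φ' : G → ℂ) :=
        Finset.single_le_sum (f := fun φ' : IrrCharacter G => mm φ' * charDegree (φ' : G → ℂ))
          (fun _ _ => Nat.zero_le _) (Finset.mem_univ χ)
  -- if all the constituents of `Φ` kill the commutators with `x`, then `x` is central
  have hcentral : ∀ x : G, (∀ χ : IrrCharacter G, mm χ ≠ 0 → ∀ g : G,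
      (χ : G → ℂ) (x * g * x⁻¹ * g⁻¹) = (χ : G → ℂ) 1) → ∀ g : G, x * g = g * x := by
    intro x hx g
    have h1 : Φ (x * g * x⁻¹ * g⁻¹) = Φ 1 := by
      rw [hmm2, hmm2 1]
      refine Finset.sum_congr rfl fun χ _ => ?_
      by_cases hχ : mm χ = 0
      · rw [hχ]
        simp
      · rw [hx χ hχ g]
    have h2 := hfaith _ h1
    calc x * g = (x * g * x⁻¹ * g⁻¹) * (g * x) := by group
      _ = g * x := by rw [h2, one_mul]
  by_cases hZ : (P : Subgroup G) ⊓ Subgroup.center G = ⊥
  · -- the trivial intersection case: the counting lemma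
    haveI : Fintype (P : Subgroup G) := Fintype.ofFinite _
    have hone : ∀ g : G, g ∉ Subgroup.center G → ∀ a b : G,
        Subgroup.centralizer ({g} : Set G) ⊓ (P : Subgroup G).map (MulAut.conj a).toMonoidHom ≠ ⊥ →
        Subgroup.centralizer ({g} : Set G) ⊓ (P : Subgroup G).map (MulAut.conj b).toMonoidHom ≠ ⊥ →
        (P : Subgroup G).map (MulAut.conj a).toMonoidHom =
          (P : Subgroup G).map (MulAut.conj b).toMonoidHom := by
      intro g hg a b h1 h2
      have hKtop : Subgroup.centralizer ({g} : Set G) ≠ ⊤ := by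
        intro h
        apply hg
        rw [Subgroup.mem_center_iff]
        intro y
        have h3 : y ∈ Subgroup.centralizer ({g} : Set G) := h ▸ Subgroup.mem_top y
        rw [Subgroup.mem_centralizer_iff] at h3
        exact (h3 g rfl).symm
      obtain ⟨Q, hQ⟩ := hsub _ hKtop
      haveI := Sylow.unique_of_normal Q hQ
      obtain ⟨P', hP'⟩ := (Q.isPGroup'.map (Subgroup.centralizer ({g} : Set G)).subtype).exists_le_sylow
      have key : ∀ c : G, Subgroup.centralizer ({g} : Set G) ⊓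
          (P : Subgroup G).map (MulAut.conj c).toMonoidHom ≠ ⊥ → P' = c • P := by
        intro c hc
        rw [map_conj_eq_smul] at hc
        obtain ⟨u, hu, hu1⟩ : ∃ u, u ∈ Subgroup.centralizer ({g} : Set G) ⊓
            ((c • P : Sylow p G) : Subgroup G) ∧ u ≠ 1 := by
          by_contra h
          push Not at h
          apply hc
          rw [eq_bot_iff]
          intro y hy
          rw [Subgroup.mem_bot]
          exact h y hy
        have huQ : (⟨u, hu.1⟩ : Subgroup.centralizer ({g} : Set G)) ∈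
            (Q : Subgroup (Subgroup.centralizer ({g} : Set G))) := by
          obtain ⟨Q', hQ'⟩ := ((c • P : Sylow p G).isPGroup'.comap_subtype
            (K := Subgroup.centralizer ({g} : Set G))).exists_le_sylow
          have h3 : Q' = Q := Subsingleton.elim _ _
          rw [← h3]
          apply hQ'
          rw [Subgroup.mem_comap]
          exact hu.2
        have huP' : u ∈ (P' : Subgroup G) := hP' ⟨⟨u, hu.1⟩, huQ, rfl⟩
        by_contra hne
        have hucen := hcen P' (c • P) hne u huP' hu.2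
        have h3 : c⁻¹ * u * c ∈ (P : Subgroup G) := (mem_smul_sylow p c P u).1 hu.2
        have h4 : c⁻¹ * u * c = u := by
          have h5 := Subgroup.mem_center_iff.1 hucen c
          calc c⁻¹ * u * c = c⁻¹ * (u * c) := by group
            _ = c⁻¹ * (c * u) := by rw [h5]
            _ = u := by group
        rw [h4] at h3
        have h6 : u ∈ (P : Subgroup G) ⊓ Subgroup.center G := ⟨h3, hucen⟩
        rw [hZ, Subgroup.mem_bot] at h6
        exact hu1 h6
      rw [map_conj_eq_smul, map_conj_eq_smul, ← key a h1, ← key b h2]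
    have hexχ : ∃ χ : IrrCharacter G, mm χ ≠ 0 ∧ charDegree (χ : G → ℂ) ≠ 1 ∧
        ∃ h ∈ (P : Subgroup G), (χ : G → ℂ) h ≠ (χ : G → ℂ) 1 := by
      by_contra hno
      push Not at hno
      have hlin : ∀ χ : IrrCharacter G, mm χ ≠ 0 → charDegree (χ : G → ℂ) = 1 := by
        intro χ hχ
        by_contra hd
        obtain ⟨N, hNn, hN⟩ :=
          Cfsg.Agent.Lib.CT.Kernel.exists_normal_ker (isCharacter_of_irr χ.2)
        have hPN : (P : Subgroup G) ≤ N := fun h hh => (hN h).2 (hno χ hχ hd h hh)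
        have hNtop := hnorm N hNn hPN
        have hall : ∀ g, (χ : G → ℂ) g = (χ : G → ℂ) 1 := fun g =>
          (hN g).1 (hNtop ▸ Subgroup.mem_top g)
        apply hd
        apply charDegree_of_apply_one
        exact Cfsg.Agent.Lib.Helper3.MGroup.apply_one_eq_one_of_comm χ.2 (fun a b => hall _)
      have hcomm := fun x => hcentral x (fun χ hχ g =>
        apply_eq_one_of_mem_commutator χ (hlin χ hχ) (conj_mul_inv_mem_commutator x g))
      apply hcon P
      constructor
      intro x hx g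
      have e : g * x * g⁻¹ = x := by
        rw [← hcomm x g]
        group
      rw [e]
      exact hx
    obtain ⟨χ, hχm, hχd, hχk⟩ := hexχ
    have key := Cfsg.Agent.S0898.result (P : Subgroup G) (hab P) hZ hone (χ : G → ℂ) χ.2 hχk
    have hχ1 : (χ : G → ℂ) 1 = (charDegree (χ : G → ℂ) : ℂ) :=
      apply_one_eq_charDegree (isCharacter_of_irr χ.2)
    have hχ1ne : (χ : G → ℂ) 1 ≠ 1 := by
      rw [hχ1]
      intro h
      apply hχd
      exact_mod_cast h
    have h2 := key.2 hχ1ne hnorm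
    rw [hχ1] at h2
    simp only [Complex.natCast_re] at h2
    have hcard : Nat.card (P : Subgroup G) = p ^ (Nat.card G).factorization p :=
      P.card_eq_multiplicity
    have h3 : (Nat.card (P : Subgroup G) : ℝ) < (((1 + charDegree (χ : G → ℂ)) ^ 2 : ℕ) : ℝ) := by
      push_cast
      linarith
    have h4 : Nat.card (P : Subgroup G) < (1 + charDegree (χ : G → ℂ)) ^ 2 := by exact_mod_cast h3
    have h5 : (1 + charDegree (χ : G → ℂ)) ^ 2 ≤ (n + 1) ^ 2 :=
      Nat.pow_le_pow_left (by have := hdn χ hχm; omega) 2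
    omega
  · -- the central case: transfer, then the Glauberman correspondence
    obtain ⟨z, hzP, hzc, hz1⟩ : ∃ z, z ∈ (P : Subgroup G) ∧ z ∈ Subgroup.center G ∧ z ≠ 1 := by
      by_contra h
      push Not at h
      apply hZ
      rw [eq_bot_iff]
      intro y hy
      rw [Subgroup.mem_bot]
      exact h y hy.1 hy.2
    obtain ⟨M, hMn, hMpow, hMker⟩ := exists_transfer_kernel p P (hab P)
    haveI := hMn
    have hMtop : M ≠ ⊤ := by
      intro h
      exact hz1 (hMker z hzP hzc (h ▸ Subgroup.mem_top z))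
    obtain ⟨Q, hQ⟩ := hsub M hMtop
    haveI hQc : (Q : Subgroup M).Characteristic := Sylow.characteristic_of_normal Q hQ
    have hQ'n : ((Q : Subgroup M).map M.subtype).Normal :=
      ConjAct.normal_of_characteristic_of_normal
    obtain ⟨P', hP'⟩ := (Q.isPGroup'.map M.subtype).exists_le_sylow
    have hQle : ∀ P₁ : Sylow p G, (Q : Subgroup M).map M.subtype ≤ (P₁ : Subgroup G) := by
      intro P₁ y hy
      obtain ⟨g, hg⟩ := MulAction.exists_smul_eq G P' P₁
      rw [← hg, mem_smul_sylow]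
      apply hP'
      have h1 := hQ'n.conj_mem y hy g⁻¹
      rw [inv_inv] at h1
      exact h1
    have hQbot : (Q : Subgroup M) = ⊥ := by
      rw [eq_bot_iff]
      intro q hq
      rw [Subgroup.mem_bot]
      have hq' : (q : G) ∈ (Q : Subgroup M).map M.subtype := ⟨q, hq, rfl⟩
      have h1 := hMker (q : G) (hQle P hq') (hcen P P₂ hP₂.symm _ (hQle P hq') (hQle P₂ hq')) q.2
      exact Subtype.ext h1
    have hpM : ¬ p ∣ Nat.card M := fun h => Sylow.ne_bot_of_dvd_card Q h hQbot
    have hcardP : Nat.card (P : Subgroup G) = p ^ (Nat.card G).factorization p :=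
      P.card_eq_multiplicity
    have hpG : IsPGroup p (G ⧸ M) := by
      intro q
      obtain ⟨g, rfl⟩ := QuotientGroup.mk_surjective q
      refine ⟨(Nat.card G).factorization p, ?_⟩
      rw [← QuotientGroup.mk_pow, ← hcardP]
      exact (QuotientGroup.eq_one_iff _).2 (hMpow g)
    obtain ⟨k, hk⟩ := IsPGroup.iff_card.1 hpG
    have hidx : M.index = p ^ k := by rw [Subgroup.index_eq_card, hk]
    have hPcen : ∀ x ∈ (P : Subgroup G), ∀ g : G, x * g = g * x := by
      intro x hx
      apply hcentral x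
      intro χ hχ g
      have hx' : x ^ p ^ (Nat.card G).factorization p = 1 := by
        have h4 : ((⟨x, hx⟩ : (P : Subgroup G)) ^ Nat.card (P : Subgroup G) : (P : Subgroup G)) = 1 :=
          pow_card_eq_one'
        rw [hcardP] at h4
        exact congrArg Subtype.val h4
      exact central_of_small_degree p M hpM k hidx (χ : G → ℂ) χ.2
        (by have := hdn χ hχ; omega) x _ hx' g
    apply hcon P
    constructor
    intro x hx g
    have e : g * x * g⁻¹ = x := by
      rw [← hPcen x hx g]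
      group
    rw [e]
    exact hx

end Cfsg.Agent.Lib.Helper3.FTBmain
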