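import Mathlib
import Cfsg.Agent.Lib.Helper3.FTBmain
import Cfsg.Agent.Lib.Helper76.PSolv

/-!
Ito's theorem on `p`-solvable linear groups of small degree: the general tools.

* `ito_normal`: a `p`-solvable group with a faithful character of degree less than `p`, all of whose
  irreducible constituents have degree less than `p - 1`, has a normal Sylow `p`-subgroup.
* `prime_pow_of_not_normal`: in the boundary case `n = p - 1` with a non-normal Sylow
  `p`-subgroup, `n` is a prime power.
-/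

set_option autoImplicit false

namespace Cfsg.Agent.Lib.Helper3.ItoPS

open Cfsg Cfsg.Agent.Lib.Helper80.Integrality Cfsg.Agent.Lib.Helper80.Restrict
open Cfsg.Agent.Lib.CT.Wedderburn Cfsg.Agent.Lib.CT.Orth
open Cfsg.Agent.Lib.Helper3.FTBmain Cfsg.Agent.Lib.Helper3.FTBpn
open Cfsg.Agent.Lib.Helper76.PSolv

universe u
variable {G : Type u} [Group G]

/-- A constituent of a character has at most its degree. -/
theorem degree_le_of_constituent [Fintype G] {Φ : G → ℂ} (hΦ : IsCharacter G Φ)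
    (ψ : IrrCharacter G) (hψ : classInner Φ ψ.1 ≠ 0) : charDegree ψ.1 ≤ charDegree Φ := by
  classical
  haveI := finite_irrCharacter G
  haveI := Fintype.ofFinite (IrrCharacter G)
  obtain ⟨mm, hmm1, -, hmm3, -⟩ := exists_mult hΦ
  have h0 : mm ψ ≠ 0 := by
    intro h
    apply hψ
    rw [hmm1 ψ, h]
    simp
  rw [hmm3]
  calc charDegree ψ.1 ≤ mm ψ * charDegree ψ.1 := Nat.le_mul_of_pos_left _ (Nat.pos_of_ne_zero h0)
    _ ≤ ∑ φ' : IrrCharacter G, mm φ' * charDegree φ'.1 :=
      Finset.single_le_sum (f := fun φ' : IrrCharacter G => mm φ' * charDegree φ'.1)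
        (fun _ _ => Nat.zero_le _) (Finset.mem_univ ψ)

/-- Degrees of the constituents of a restriction are bounded by the degrees of the constituents. -/
theorem constituent_restrict_le [Fintype G] {Φ : G → ℂ} (hΦ : IsCharacter G Φ) (d : ℕ)
    (hd : ∀ χ : IrrCharacter G, classInner Φ χ.1 ≠ 0 → charDegree χ.1 ≤ d)
    (H : Subgroup G) [Fintype H] (ψ : IrrCharacter H)
    (hψ : classInner (fun h : H => Φ h) ψ.1 ≠ 0) : charDegree ψ.1 ≤ d := by
  classical
  haveI := finite_irrCharacter G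
  haveI := Fintype.ofFinite (IrrCharacter G)
  obtain ⟨mm, hmm1, hmm2, -, -⟩ := exists_mult hΦ
  have h1 : (fun h : H => Φ h) =
      ∑ χ : IrrCharacter G, (mm χ : ℂ) • (fun h : H => χ.1 h) := by
    funext h
    rw [Finset.sum_apply, hmm2]
    refine Finset.sum_congr rfl fun χ _ => ?_
    rfl
  rw [h1, classInner_sum_left] at hψ
  obtain ⟨χ, -, hχ⟩ := Finset.exists_ne_zero_of_sum_ne_zero hψ
  rw [classInner_smul_left] at hχ
  have hχ1 : mm χ ≠ 0 := by
    intro h
    apply hχ
    rw [h]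
    simp
  have hχ2 : classInner (fun h : H => χ.1 h) ψ.1 ≠ 0 := by
    intro h
    apply hχ
    rw [h, mul_zero]
  have h2 := degree_le_of_constituent
    (Cfsg.Agent.Lib.CT.Ops.isCharacter_restrict H (isCharacter_of_irr χ.2)) ψ hχ2
  have h3 : charDegree (fun h : H => χ.1 h) = charDegree χ.1 := rfl
  have h4 := hd χ (by
    rw [hmm1 χ]
    exact_mod_cast hχ1)
  omega

/-- If all the constituents of a faithful character kill the commutators with `x`, then `x` is
central. -/
theorem comm_of_constituents [Fintype G] {Φ : G → ℂ} (hΦ : IsCharacter G Φ)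
    (hfaith : ∀ g, Φ g = Φ 1 → g = 1) (x g : G)
    (h : ∀ χ : IrrCharacter G, classInner Φ χ.1 ≠ 0 → χ.1 (x * g * x⁻¹ * g⁻¹) = χ.1 1) :
    x * g = g * x := by
  classical
  haveI := finite_irrCharacter G
  haveI := Fintype.ofFinite (IrrCharacter G)
  obtain ⟨mm, hmm1, hmm2, -, -⟩ := exists_mult hΦ
  have h1 : Φ (x * g * x⁻¹ * g⁻¹) = Φ 1 := by
    rw [hmm2, hmm2 1]
    refine Finset.sum_congr rfl fun χ _ => ?_
    by_cases hχ : mm χ = 0
    · rw [hχ]
      simp
    · rw [h χ (by
        rw [hmm1 χ]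
        exact_mod_cast hχ)]
  have h2 := hfaith _ h1
  calc x * g = (x * g * x⁻¹ * g⁻¹) * (g * x) := by group
    _ = g * x := by rw [h2, one_mul]

/-- In a `p`-solvable group with abelian Sylow `p`-subgroup `P`, `O_{p'}(G) P` is normal. -/
theorem sup_normal_of_psolvable [Finite G] (p : ℕ) [Fact p.Prime] (hsolv : IsPSolvable p G)
    (P : Sylow p G) (hab : ∀ a ∈ (P : Subgroup G), ∀ b ∈ (P : Subgroup G), a * b = b * a) :
    (pPrimeCore p G ⊔ (P : Subgroup G)).Normal := by
  have hsq := isPSolvable_quotient p (pPrimeCore p G) hsolv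
  have hcore := pPrimeCore_quotient (G := G) p
  have hHH := centralizer_pCore_le p hsq hcore
  let Pb : Sylow p (G ⧸ pPrimeCore p G) :=
    Sylow.mapSurjective (QuotientGroup.mk'_surjective (pPrimeCore p G)) P
  have hPb : (Pb : Subgroup (G ⧸ pPrimeCore p G)) =
      (P : Subgroup G).map (QuotientGroup.mk' (pPrimeCore p G)) := Sylow.coe_mapSurjective _ _
  have h1 : pCore p (G ⧸ pPrimeCore p G) ≤ Pb := pCore_le_sylow Pb
  have h2 : (Pb : Subgroup (G ⧸ pPrimeCore p G)) ≤
      Subgroup.centralizer (pCore p (G ⧸ pPrimeCore p G) : Set (G ⧸ pPrimeCore p G)) := by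
    intro y hy
    rw [Subgroup.mem_centralizer_iff]
    intro z hz
    have hz' := h1 hz
    rw [hPb] at hy hz'
    obtain ⟨a, ha, rfl⟩ := hy
    obtain ⟨b, hb, rfl⟩ := hz'
    rw [← map_mul, ← map_mul, hab b hb a ha]
  have h3 : (Pb : Subgroup (G ⧸ pPrimeCore p G)) = pCore p (G ⧸ pPrimeCore p G) :=
    le_antisymm (h2.trans hHH) h1
  have h4 : ((P : Subgroup G).map (QuotientGroup.mk' (pPrimeCore p G))).Normal := by
    rw [← hPb, h3]
    infer_instance
  have h5 : pPrimeCore p G ⊔ (P : Subgroup G) =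
      ((P : Subgroup G).map (QuotientGroup.mk' (pPrimeCore p G))).comap
        (QuotientGroup.mk' (pPrimeCore p G)) := by
    rw [Subgroup.comap_map_eq, QuotientGroup.ker_mk', sup_comm]
  rw [h5]
  exact h4.comap _

/-- If `K P` is normal and `P` centralizes `K`, then the Sylow subgroup `P` is normal. -/
theorem normal_of_centralizes [Finite G] (p : ℕ) [Fact p.Prime] (K : Subgroup G) (P : Sylow p G)
    (hN : (K ⊔ (P : Subgroup G)).Normal)
    (hcen : ∀ x ∈ (P : Subgroup G), ∀ k ∈ K, x * k = k * x) : (P : Subgroup G).Normal := by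
  have hPN : (P : Subgroup G) ≤ K ⊔ (P : Subgroup G) := le_sup_right
  have hPnorm : ((P.subtype hPN : Sylow p (K ⊔ (P : Subgroup G) : Subgroup G)) :
      Subgroup (K ⊔ (P : Subgroup G) : Subgroup G)).Normal := by
    rw [Sylow.coe_subtype, Subgroup.normal_subgroupOf_iff_le_normalizer hPN]
    apply sup_le
    · intro k hk
      rw [Subgroup.mem_normalizer_iff]
      intro y
      constructor
      · intro hy
        have e : k * y * k⁻¹ = y := by
          rw [← hcen y hy k hk]
          group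
        rw [e]
        exact hy
      · intro hy
        have h1 := hcen _ hy k hk
        have e : y = k * y * k⁻¹ := by
          calc y = k⁻¹ * ((k * y * k⁻¹) * k) := by group
            _ = k⁻¹ * (k * (k * y * k⁻¹)) := by rw [h1]
            _ = k * y * k⁻¹ := by group
        rw [e]
        exact hy
    · exact Subgroup.le_normalizer
  haveI := Sylow.unique_of_normal _ hPnorm
  rw [← Subgroup.normalizer_eq_top_iff, Subgroup.eq_top_iff']
  intro g
  apply Sylow.smul_eq_iff_mem_normalizer.1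
  have hgP : ((g • P : Sylow p G) : Subgroup G) ≤ K ⊔ (P : Subgroup G) := by
    intro y hy
    have h1 := (mem_smul_sylow p g P y).1 hy
    have h2 := hN.conj_mem _ (hPN h1) g
    have e : g * (g⁻¹ * y * g) * g⁻¹ = y := by group
    rw [e] at h2
    exact h2
  exact Sylow.subtype_injective (Subsingleton.elim ((g • P).subtype hgP) (P.subtype hPN))

/-- Ito's theorem for `p`-solvable groups (small constituents): the Sylow `p`-subgroup is
normal. -/
theorem ito_normal [Fintype G] (p : ℕ) [Fact p.Prime] (hsolv : IsPSolvable p G)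
    (Φ : G → ℂ) (hΦ : IsCharacter G Φ) (hfaith : ∀ g, Φ g = Φ 1 → g = 1)
    (hdeg : charDegree Φ < p)
    (hsmall : ∀ χ : IrrCharacter G, classInner Φ χ.1 ≠ 0 → charDegree χ.1 + 1 < p)
    (P : Sylow p G) : (P : Subgroup G).Normal := by
  classical
  have hp : p.Prime := Fact.out
  have hab := sylow_comm p Φ hΦ hfaith hdeg P
  have hNn := sup_normal_of_psolvable p hsolv P hab
  apply normal_of_centralizes p (pPrimeCore p G) P hNn
  intro x hx k hk
  set N : Subgroup G := pPrimeCore p G ⊔ (P : Subgroup G) with hN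
  have hKN : pPrimeCore p G ≤ N := le_sup_left
  have hPN : (P : Subgroup G) ≤ N := le_sup_right
  haveI : Fintype N := Fintype.ofFinite N
  set M : Subgroup N := (pPrimeCore p G).subgroupOf N with hM
  haveI hMn : M.Normal := (inferInstance : (pPrimeCore p G).Normal).subgroupOf N
  have hpM : ¬ p ∣ Nat.card M := by
    rw [Nat.card_congr (Subgroup.subgroupOfEquivOfLe hKN).toEquiv]
    exact (Nat.Prime.coprime_iff_not_dvd hp).1 (pPrimeCore_coprime (G := G) p).symm
  have hcardP : Nat.card (P : Subgroup G) = p ^ (Nat.card G).factorization p :=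
    P.card_eq_multiplicity
  have hPpow : ∀ y ∈ (P : Subgroup G), y ^ p ^ (Nat.card G).factorization p = 1 := by
    intro y hy
    have h4 : ((⟨y, hy⟩ : (P : Subgroup G)) ^ Nat.card (P : Subgroup G) : (P : Subgroup G)) = 1 :=
      pow_card_eq_one'
    rw [hcardP] at h4
    exact congrArg Subtype.val h4
  have hpQ : IsPGroup p (N ⧸ M) := by
    intro q
    obtain ⟨ν, rfl⟩ := QuotientGroup.mk_surjective q
    refine ⟨(Nat.card G).factorization p, ?_⟩
    have hν : (ν : G) ∈ ((pPrimeCore p G ⊔ (P : Subgroup G) : Subgroup G) : Set G) := ν.2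
    rw [Subgroup.normal_mul] at hν
    obtain ⟨k', hk', y, hy, hky⟩ := Set.mem_mul.1 hν
    have e1 : ν = (⟨k', hKN hk'⟩ : N) * ⟨y, hPN hy⟩ := Subtype.ext hky.symm
    have e2 : ((⟨k', hKN hk'⟩ : N) : N ⧸ M) = 1 := (QuotientGroup.eq_one_iff _).2 (by
      rw [hM, Subgroup.mem_subgroupOf]
      exact hk')
    rw [e1, QuotientGroup.mk_mul, e2, one_mul, ← QuotientGroup.mk_pow]
    have e3 : (⟨y, hPN hy⟩ : N) ^ p ^ (Nat.card G).factorization p = 1 :=
      Subtype.ext (hPpow y hy)
    rw [e3]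
    rfl
  obtain ⟨j, hj⟩ := IsPGroup.iff_card.1 hpQ
  have hidx : M.index = p ^ j := by rw [Subgroup.index_eq_card, hj]
  have hΦN : IsCharacter N (fun ν : N => Φ ν) := Cfsg.Agent.Lib.CT.Ops.isCharacter_restrict N hΦ
  have hfaithN : ∀ ν : N, (fun ν : N => Φ ν) ν = (fun ν : N => Φ ν) 1 → ν = 1 :=
    fun ν hν => Subtype.ext (hfaith _ hν)
  have hres : ∀ ψ : IrrCharacter N, classInner (fun ν : N => Φ ν) ψ.1 ≠ 0 →
      charDegree ψ.1 ≤ p - 2 :=
    fun ψ hψ => constituent_restrict_le hΦ (p - 2)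
      (fun χ hχ => by have := hsmall χ hχ; omega) N ψ hψ
  have h1 := comm_of_constituents hΦN hfaithN (⟨x, hPN hx⟩ : N) ⟨k, hKN hk⟩ (fun ψ hψ =>
    central_of_small_degree p M hpM j hidx ψ.1 ψ.2
      (by have := hres ψ hψ; have := hp.two_le; omega) _ _ (Subtype.ext (hPpow x hx)) _)
  exact congrArg Subtype.val h1

/-- The boundary case of Ito's theorem: if the Sylow `p`-subgroup of the `p`-solvable group `G`
is not normal and `G` has a faithful character of degree `n = p - 1`, then `n` is a prime power. -/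
theorem prime_pow_of_not_normal [Fintype G] (p : ℕ) [Fact p.Prime] (hsolv : IsPSolvable p G)
    (Φ : G → ℂ) (hΦ : IsCharacter G Φ) (hfaith : ∀ g, Φ g = Φ 1 → g = 1)
    (n : ℕ) (hdeg : charDegree Φ = n) (hnp : n + 1 = p)
    (P : Sylow p G) (hP : ¬ (P : Subgroup G).Normal) : ∃ q j : ℕ, q.Prime ∧ n = q ^ j := by
  classical
  have hp : p.Prime := Fact.out
  have hab := sylow_comm p Φ hΦ hfaith (by omega) P
  have hNn := sup_normal_of_psolvable p hsolv P hab
  obtain ⟨x, hx, k, hk, hxk⟩ : ∃ x ∈ (P : Subgroup G), ∃ k ∈ pPrimeCore p G, x * k ≠ k * x := by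
    by_contra h
    push Not at h
    exact hP (normal_of_centralizes p (pPrimeCore p G) P hNn h)
  have hcardP : Nat.card (P : Subgroup G) = p ^ (Nat.card G).factorization p :=
    P.card_eq_multiplicity
  have hxpow : x ^ p ^ (Nat.card G).factorization p = 1 := by
    have h4 : ((⟨x, hx⟩ : (P : Subgroup G)) ^ Nat.card (P : Subgroup G) : (P : Subgroup G)) = 1 :=
      pow_card_eq_one'
    rw [hcardP] at h4
    exact congrArg Subtype.val h4
  have hKcop : ¬ p ∣ Nat.card (pPrimeCore p G) :=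
    (Nat.Prime.coprime_iff_not_dvd hp).1 (pPrimeCore_coprime (G := G) p).symm
  -- the automorphism of `K = O_{p'}(G)` induced by `x`
  set a : MulAut (pPrimeCore p G) := MulAut.conjNormal x with ha
  have hA : IsPGroup p (Subgroup.zpowers a) :=
    Cfsg.Agent.Lib.Helper80.TISylow.isPGroup_zpowers p a _ (by rw [ha, ← map_pow, hxpow, map_one])
  set C : Subgroup (pPrimeCore p G) :=
    (Subgroup.centralizer ({x} : Set G)).subgroupOf (pPrimeCore p G) with hC
  have hCtop : C ≠ ⊤ := by
    intro h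
    have h1 : (⟨k, hk⟩ : pPrimeCore p G) ∈ C := h ▸ Subgroup.mem_top _
    rw [hC, Subgroup.mem_subgroupOf, Subgroup.mem_centralizer_iff] at h1
    exact hxk (h1 x rfl)
  have hCidx : C.index ≠ 1 := fun h => hCtop (Subgroup.index_eq_one.1 h)
  obtain ⟨q, hq, hqC⟩ := Nat.exists_prime_and_dvd hCidx
  haveI : Fact q.Prime := ⟨hq⟩
  have hqK : q ∣ Nat.card (pPrimeCore p G) := hqC.trans (Subgroup.index_dvd_card C)
  have hqp : q ≠ p := fun h => hKcop (h ▸ hqK)
  have hnd : ¬ p ∣ Nat.card (Sylow q (pPrimeCore p G)) := by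
    obtain ⟨S₀⟩ : Nonempty (Sylow q (pPrimeCore p G)) := inferInstance
    intro h
    exact hKcop ((h.trans (Sylow.card_dvd_index S₀)).trans (Subgroup.index_dvd_card _))
  obtain ⟨S, hS⟩ := hA.nonempty_fixed_point_of_prime_not_dvd_card (Sylow q (pPrimeCore p G)) hnd
  have haS : a • S = S := hS ⟨a, Subgroup.mem_zpowers a⟩
  have haS' : a⁻¹ • S = S := by rw [inv_smul_eq_iff, haS]
  obtain ⟨u, hu, hxu⟩ : ∃ u : pPrimeCore p G, u ∈ (S : Subgroup (pPrimeCore p G)) ∧
      x * (u : G) ≠ (u : G) * x := by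
    by_contra h
    push Not at h
    have hSC : (S : Subgroup (pPrimeCore p G)) ≤ C := by
      intro u hu
      rw [hC, Subgroup.mem_subgroupOf, Subgroup.mem_centralizer_iff]
      intro y hy
      rw [Set.mem_singleton_iff] at hy
      rw [hy]
      exact h u hu
    exact S.not_dvd_index (hqC.trans (Subgroup.index_dvd_of_le hSC))
  -- the `x`-invariant `q`-subgroup `Q` and the group `H = Q ⟨x⟩`
  set Q : Subgroup G := (S : Subgroup (pPrimeCore p G)).map (pPrimeCore p G).subtype with hQ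
  have hQx : ∀ w ∈ Q, x * w * x⁻¹ ∈ Q ∧ x⁻¹ * w * x ∈ Q := by
    rintro w ⟨s, hs, rfl⟩
    constructor
    · refine ⟨a s, ?_, rfl⟩
      have h1 := Subgroup.smul_mem_pointwise_smul s a (S : Subgroup (pPrimeCore p G)) hs
      rw [← Sylow.pointwise_smul_def, haS] at h1
      exact h1
    · refine ⟨a⁻¹ s, ?_, ?_⟩
      · have h1 := Subgroup.smul_mem_pointwise_smul s a⁻¹ (S : Subgroup (pPrimeCore p G)) hs
        rw [← Sylow.pointwise_smul_def, haS'] at h1
        exact h1
      · have h2 : a⁻¹ = MulAut.conjNormal x⁻¹ := by rw [ha, map_inv]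
        rw [h2]
        show x⁻¹ * (s : G) * x⁻¹⁻¹ = x⁻¹ * (s : G) * x
        rw [inv_inv]
  set H : Subgroup G := Q ⊔ Subgroup.zpowers x with hH
  have hQH : Q ≤ H := le_sup_left
  have hZH : Subgroup.zpowers x ≤ H := le_sup_right
  have hxH : x ∈ H := hZH (Subgroup.mem_zpowers x)
  have hxnorm : x ∈ Subgroup.normalizer (Q : Set G) := by
    rw [Subgroup.mem_normalizer_iff]
    intro h
    constructor
    · intro hh
      exact (hQx h hh).1
    · intro hh
      have h1 := (hQx _ hh).2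
      have e : x⁻¹ * (x * h * x⁻¹) * x = h := by group
      rw [e] at h1
      exact h1
  haveI : Fintype H := Fintype.ofFinite H
  set Q' : Subgroup H := Q.subgroupOf H with hQ'
  haveI hQ'n : Q'.Normal := (Subgroup.normal_subgroupOf_iff_le_normalizer hQH).2
    (sup_le Subgroup.le_normalizer (Subgroup.zpowers_le.2 hxnorm))
  have hcardQ' : Nat.card Q' = q ^ (Nat.card (pPrimeCore p G)).factorization q := by
    rw [Nat.card_congr (Subgroup.subgroupOfEquivOfLe hQH).toEquiv, hQ,
      ← Nat.card_congr ((S : Subgroup (pPrimeCore p G)).equivMapOfInjective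
        (pPrimeCore p G).subtype (pPrimeCore p G).subtype_injective).toEquiv]
    exact S.card_eq_multiplicity
  have hpQ' : ¬ p ∣ Nat.card Q' := by
    rw [hcardQ']
    intro h
    exact hqp ((Nat.prime_dvd_prime_iff_eq hp hq).1 (hp.dvd_of_dvd_pow h)).symm
  have hpQ : IsPGroup p (H ⧸ Q') := by
    intro y
    obtain ⟨h, rfl⟩ := QuotientGroup.mk_surjective y
    refine ⟨(Nat.card G).factorization p, ?_⟩
    have htop : Q' ⊔ (Subgroup.zpowers x).subgroupOf H = ⊤ := by
      rw [hQ', ← Subgroup.subgroupOf_sup hQH hZH]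
      exact Subgroup.subgroupOf_self H
    have hh : h ∈ ((Q' ⊔ (Subgroup.zpowers x).subgroupOf H : Subgroup H) : Set H) := by
      rw [htop]
      trivial
    rw [Subgroup.normal_mul] at hh
    obtain ⟨w, hw, z, hz, hwz⟩ := Set.mem_mul.1 hh
    have e2 : ((w : H) : H ⧸ Q') = 1 := (QuotientGroup.eq_one_iff _).2 hw
    rw [← hwz, QuotientGroup.mk_mul, e2, one_mul, ← QuotientGroup.mk_pow]
    have e3 : z ^ p ^ (Nat.card G).factorization p = 1 := by
      have hz' : (z : G) ∈ Subgroup.zpowers x := Subgroup.mem_subgroupOf.1 (SetLike.mem_coe.1 hz)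
      obtain ⟨i, hi⟩ := Subgroup.mem_zpowers_iff.1 hz'
      apply Subtype.ext
      rw [Subgroup.coe_pow, ← hi, ← zpow_natCast, ← zpow_mul, mul_comm, zpow_mul, zpow_natCast,
        hxpow, one_zpow]
      rfl
    rw [e3]
    rfl
  obtain ⟨i, hi⟩ := IsPGroup.iff_card.1 hpQ
  have hidx : Q'.index = p ^ i := by rw [Subgroup.index_eq_card, hi]
  have hΦH : IsCharacter H (fun h : H => Φ h) := Cfsg.Agent.Lib.CT.Ops.isCharacter_restrict H hΦ
  have hfaithH : ∀ h : H, (fun h : H => Φ h) h = (fun h : H => Φ h) 1 → h = 1 :=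
    fun h hh => Subtype.ext (hfaith _ hh)
  obtain ⟨ψ, hψ, hψp⟩ : ∃ ψ : IrrCharacter H, classInner (fun h : H => Φ h) ψ.1 ≠ 0 ∧
      p ≤ charDegree ψ.1 + 1 := by
    by_contra hno
    push Not at hno
    have h1 := comm_of_constituents hΦH hfaithH (⟨x, hxH⟩ : H)
      ⟨(u : G), hQH ⟨u, hu, rfl⟩⟩ (fun ψ hψ =>
        central_of_small_degree p Q' hpQ' i hidx ψ.1 ψ.2 (hno ψ hψ) _ _
          (Subtype.ext hxpow) _)
    exact hxu (congrArg Subtype.val h1)
  have hψn : charDegree ψ.1 ≤ n := by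
    have h1 := degree_le_of_constituent hΦH ψ hψ
    have h2 : charDegree (fun h : H => Φ h) = charDegree Φ := rfl
    omega
  have hψeq : charDegree ψ.1 = n := by omega
  have hdvd : n ∣ Nat.card H := hψeq ▸ charDegree_dvd_card ψ
  have hcardH : Nat.card H = q ^ (Nat.card (pPrimeCore p G)).factorization q * p ^ i := by
    rw [← Q'.card_mul_index, hcardQ', hidx]
  rw [hcardH] at hdvd
  have hnpos : 0 < n := hψeq ▸ charDegree_pos ψ
  have hcop : n.Coprime (p ^ i) := by
    apply Nat.Coprime.pow_right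
    apply Nat.Coprime.symm
    rw [Nat.Prime.coprime_iff_not_dvd hp]
    intro h
    have h1 := Nat.le_of_dvd hnpos h
    omega
  obtain ⟨j, -, hj⟩ := (Nat.dvd_prime_pow hq).1 (hcop.dvd_of_dvd_mul_right hdvd)
  exact ⟨q, j, hq, hj⟩

end Cfsg.Agent.Lib.Helper3.ItoPS
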