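import Mathlib
import Cfsg.Agent.Lib.Helper3.ItoPS
import Cfsg.Agent.Lib.Helper80.Core

/-!
Groups with character degrees `1` and `p`: general tools.

* `eq_of_constituent_of_degree_le`: a character containing an irreducible character of at least
  its own degree is that irreducible character.
* `not_irr_restrict`: an irreducible character vanishing off a proper subgroup restricts
  reducibly.
* `norm_eq_of_commutators`: an element all of whose commutators lie in the kernel lies in the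
  centre of an irreducible character.
* `exists_extension`: when the degrees of `G` are `1` and `p`, the nonlinear irreducible
  characters of a normal subgroup extend to `G`.
* `eq_one_of_nonlinear`: in a nonabelian group, the kernels of the nonlinear irreducible
  characters intersect trivially.
* `center_le_center`: when the degrees are `1` and `p`, the centre of a nonabelian normal subgroup
  is central.
* `comm_apply_of_vanish`: an irreducible character of degree `p` vanishing off a proper normal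
  subgroup `N` contains `[N, N]` in its kernel.
-/

set_option autoImplicit false

namespace Cfsg.Agent.Lib.Helper3.CdPa

open Cfsg Cfsg.Agent.Lib.Helper80.Integrality Cfsg.Agent.Lib.Helper80.Restrict
open Cfsg.Agent.Lib.CT.Wedderburn Cfsg.Agent.Lib.CT.Orth
open Cfsg.Agent.Lib.Helper3
open scoped ComplexConjugate

universe u
variable {G : Type u} [Group G]

/-- A character with an irreducible constituent of at least its own degree is irreducible. -/
theorem eq_of_constituent_of_degree_le [Fintype G] {Φ : G → ℂ} (hΦ : IsCharacter G Φ)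
    (ψ : IrrCharacter G) (hψ : classInner Φ ψ.1 ≠ 0) (hdeg : charDegree Φ ≤ charDegree ψ.1) :
    Φ = ψ.1 := by
  classical
  haveI := finite_irrCharacter G
  haveI := Fintype.ofFinite (IrrCharacter G)
  obtain ⟨mm, hmm1, hmm2, hmm3, -⟩ := exists_mult hΦ
  have hnpos := charDegree_pos ψ
  have hm0 : mm ψ ≠ 0 := by
    intro h
    apply hψ
    rw [hmm1 ψ, h]
    simp
  have hsplit := Finset.add_sum_erase Finset.univ
    (fun φ : IrrCharacter G => mm φ * charDegree φ.1) (Finset.mem_univ ψ)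
  have h1 : mm ψ * charDegree ψ.1 + ∑ φ ∈ Finset.univ.erase ψ, mm φ * charDegree φ.1
      ≤ charDegree ψ.1 := by
    rw [hsplit, ← hmm3]
    exact hdeg
  have hm1 : mm ψ = 1 := by
    have h3 : 1 ≤ mm ψ := Nat.pos_of_ne_zero hm0
    by_contra h
    have h2 : 2 ≤ mm ψ := by omega
    have h4 : 2 * charDegree ψ.1 ≤ mm ψ * charDegree ψ.1 := Nat.mul_le_mul_right _ h2
    omega
  have hrest : ∑ φ ∈ Finset.univ.erase ψ, mm φ * charDegree φ.1 = 0 := by
    rw [hm1] at h1
    omega
  have hm2 : ∀ φ : IrrCharacter G, φ ≠ ψ → mm φ = 0 := by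
    intro φ hφ
    have h2 := (Finset.sum_eq_zero_iff.1 hrest) φ (Finset.mem_erase.2 ⟨hφ, Finset.mem_univ φ⟩)
    have h3 := charDegree_pos φ
    rcases Nat.mul_eq_zero.1 h2 with h | h
    · exact h
    · omega
  funext g
  rw [hmm2 g, Finset.sum_eq_single ψ]
  · rw [hm1]
    simp
  · intro φ _ hφ
    rw [hm2 φ hφ]
    simp
  · intro h
    exact absurd (Finset.mem_univ ψ) h

/-- If all irreducible constituents of a character take their degree at `c`, so does the
character. -/
theorem apply_eq_of_constituents [Fintype G] {Φ : G → ℂ} (hΦ : IsCharacter G Φ) (c : G)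
    (h : ∀ ψ : IrrCharacter G, classInner Φ ψ.1 ≠ 0 → ψ.1 c = ψ.1 1) : Φ c = Φ 1 := by
  classical
  haveI := finite_irrCharacter G
  haveI := Fintype.ofFinite (IrrCharacter G)
  obtain ⟨mm, hmm1, hmm2, -, -⟩ := exists_mult hΦ
  rw [hmm2 c, hmm2 1]
  refine Finset.sum_congr rfl fun ψ _ => ?_
  by_cases h0 : mm ψ = 0
  · rw [h0]
    simp
  · rw [h ψ (by rw [hmm1 ψ]; exact_mod_cast h0)]

/-- Summing over a subgroup a function vanishing off it. -/
theorem sum_subgroup_eq [Fintype G] (M : Subgroup G) [Fintype M] (F : G → ℝ)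
    (hF : ∀ g, g ∉ M → F g = 0) : ∑ m : M, F m = ∑ g : G, F g := by
  classical
  rw [← Finset.sum_subtype (Finset.univ.filter (fun g : G => g ∈ M)) (by simp) F]
  exact Finset.sum_filter_of_ne (fun g _ hg => by_contra fun h => hg (hF g h))

/-- An irreducible character vanishing off a proper subgroup restricts reducibly to it. -/
theorem not_irr_restrict [Finite G] (N : Subgroup G) (hN : N ≠ ⊤) (ψ : IrrCharacter G)
    (hvan : ∀ g, g ∉ N → ψ.1 g = 0) : ¬ IsIrrCharacter N (fun n : N => ψ.1 n) := by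
  classical
  intro hirr
  haveI := Fintype.ofFinite G
  haveI := Fintype.ofFinite N
  have h1 := Cfsg.Agent.Lib.Helper80.Core.sum_normSq_eq_card ψ
  have h2 := Cfsg.Agent.Lib.Helper80.Core.sum_normSq_eq_card
    (⟨fun n : N => ψ.1 n, hirr⟩ : IrrCharacter N)
  have h3 := sum_subgroup_eq N (fun g => Complex.normSq (ψ.1 g))
    (fun g hg => by rw [hvan g hg]; simp)
  have h4 : (Nat.card N : ℝ) = Nat.card G := by
    rw [← h2, ← h1]
    exact h3
  have h5 : Nat.card N = Nat.card G := by exact_mod_cast h4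
  exact hN ((Subgroup.card_eq_iff_eq_top N).1 h5)

/-- An element whose commutators all lie in the kernel of an irreducible character lies in the
centre of that character. -/
theorem norm_eq_of_commutators [Finite G] {χ : G → ℂ} (hχ : IsIrrCharacter G χ) (g : G)
    (h : ∀ x : G, χ (g * x * g⁻¹ * x⁻¹) = χ 1) : ‖χ g‖ = (χ 1).re := by
  obtain ⟨n, ρ, hirr, rfl⟩ := hχ
  rw [Cfsg.Agent.Lib.CT.Kernel.rep_norm_char_eq_iff]
  haveI := hirr
  refine Cfsg.Agent.Lib.Helper80.Schur.schur_scalar ρ (ρ g) ?_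
  intro x
  have h1 := (Cfsg.Agent.Lib.CT.Kernel.rep_char_eq_iff ρ _).1 (h x)
  have h2 : ρ g * ρ x = ρ (g * x * g⁻¹ * x⁻¹) * (ρ x * ρ g) := by
    rw [← map_mul, ← map_mul, ← map_mul]
    congr 1
    group
  rw [h2, h1, one_mul]

/-- The degrees of a normal subgroup of a group with degrees `1` and `p`. -/
theorem degree_of_normal [Finite G] (p : ℕ) (hp : p.Prime)
    (hcd : ∀ χ : IrrCharacter G, charDegree χ.1 = 1 ∨ charDegree χ.1 = p)
    (M : Subgroup G) [M.Normal] (ψ : IrrCharacter M) :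
    charDegree ψ.1 = 1 ∨ charDegree ψ.1 = p := by
  haveI := Fintype.ofFinite M
  obtain ⟨θ, -, hdvd, -⟩ := TDBasic.exists_over M ψ
  rcases hcd θ with h | h
  · left
    rw [h] at hdvd
    exact Nat.dvd_one.1 hdvd
  · rw [h] at hdvd
    exact (Nat.dvd_prime hp).1 hdvd

/-- A nonlinear irreducible character of a normal subgroup extends to the group. -/
theorem exists_extension [Finite G] (p : ℕ) (hp : p.Prime)
    (hcd : ∀ χ : IrrCharacter G, charDegree χ.1 = 1 ∨ charDegree χ.1 = p)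
    (M : Subgroup G) [M.Normal] (ψ : IrrCharacter M) (hψ : charDegree ψ.1 ≠ 1) :
    ∃ θ : IrrCharacter G, ∀ m : M, θ.1 m = ψ.1 m := by
  classical
  haveI := Fintype.ofFinite G
  haveI := Fintype.ofFinite M
  obtain ⟨θ, hθ, hdvd, -⟩ := TDBasic.exists_over M ψ
  have hψp : charDegree ψ.1 = p := (degree_of_normal p hp hcd M ψ).resolve_left hψ
  have hθp : charDegree θ.1 = p := by
    rcases hcd θ with h | h
    · rw [h, hψp] at hdvd
      exact absurd (Nat.dvd_one.1 hdvd) hp.one_lt.ne'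
    · exact h
  have hres : IsCharacter M (fun m : M => θ.1 m) :=
    Cfsg.Agent.Lib.CT.Ops.isCharacter_restrict M (isCharacter_of_irr θ.2)
  have h1 := eq_of_constituent_of_degree_le hres ψ hθ (by
    have h2 : charDegree (fun m : M => θ.1 m) = charDegree θ.1 := rfl
    rw [h2, hθp, hψp])
  exact ⟨θ, fun m => congrFun h1 m⟩

/-- In a nonabelian group the kernels of the nonlinear irreducible characters meet trivially. -/
theorem eq_one_of_nonlinear [Finite G] (hnab : ∃ ψ : IrrCharacter G, charDegree ψ.1 ≠ 1) (d : G)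
    (hd : ∀ ψ : IrrCharacter G, charDegree ψ.1 ≠ 1 → ψ.1 d = ψ.1 1) : d = 1 := by
  classical
  by_contra hd1
  haveI := Fintype.ofFinite G
  haveI := finite_irrCharacter G
  haveI := Fintype.ofFinite (IrrCharacter G)
  have h0 := sum_apply_one_mul_of_ne_sum d hd1
  rw [← Finset.sum_filter_add_sum_filter_not Finset.univ
    (fun ψ : IrrCharacter G => charDegree ψ.1 = 1)] at h0
  set L := Finset.univ.filter (fun ψ : IrrCharacter G => charDegree ψ.1 = 1) with hL
  set NL := Finset.univ.filter (fun ψ : IrrCharacter G => ¬ charDegree ψ.1 = 1) with hNL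
  have hlin : ∑ ψ ∈ L, ψ.1 1 * ψ.1 d = ∑ ψ ∈ L, ψ.1 d := by
    refine Finset.sum_congr rfl fun ψ hψ => ?_
    rw [apply_one_eq_charDegree (isCharacter_of_irr ψ.2), (Finset.mem_filter.1 hψ).2]
    simp
  have hnl : ∑ ψ ∈ NL, ψ.1 1 * ψ.1 d = ((∑ ψ ∈ NL, charDegree ψ.1 ^ 2 : ℕ) : ℂ) := by
    rw [Nat.cast_sum]
    refine Finset.sum_congr rfl fun ψ hψ => ?_
    rw [hd ψ (Finset.mem_filter.1 hψ).2, apply_one_eq_charDegree (isCharacter_of_irr ψ.2)]
    push_cast
    ring
  rw [hlin, hnl] at h0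
  obtain ⟨ψ₀, hψ₀⟩ := hnab
  have hB : 0 < ∑ ψ ∈ NL, charDegree ψ.1 ^ 2 := by
    apply Finset.sum_pos' (fun _ _ => Nat.zero_le _)
    refine ⟨ψ₀, Finset.mem_filter.2 ⟨Finset.mem_univ _, hψ₀⟩, ?_⟩
    have := charDegree_pos ψ₀
    positivity
  have htrans : ∀ l₀ ∈ L, (∑ ψ ∈ L, ψ.1 d) * l₀.1 d = ∑ ψ ∈ L, ψ.1 d := by
    intro l₀ hl₀
    have hl₀1 : l₀.1 1 = 1 := by
      rw [apply_one_eq_charDegree (isCharacter_of_irr l₀.2), (Finset.mem_filter.1 hl₀).2]
      simp
    let τ : IrrCharacter G → IrrCharacter G := fun ψ =>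
      ⟨ψ.1 * l₀.1, Cfsg.Agent.Lib.CT.LinChar.isIrrCharacter_mul_linear ψ.2
        (isCharacter_of_irr l₀.2) hl₀1⟩
    have hτinj : Function.Injective τ := by
      intro a b hab
      apply Subtype.ext
      funext g
      have h1 := congrFun (congrArg Subtype.val hab) g
      simp only [τ, Pi.mul_apply] at h1
      exact mul_right_cancel₀
        (Cfsg.Agent.Lib.CT.LinChar.linear_ne_zero (isCharacter_of_irr l₀.2) hl₀1 g) h1
    have hτL : L.image τ = L := by
      apply Finset.eq_of_subset_of_card_le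
      · intro φ hφ
        obtain ⟨ψ, hψ, rfl⟩ := Finset.mem_image.1 hφ
        refine Finset.mem_filter.2 ⟨Finset.mem_univ _, ?_⟩
        have h1 : (ψ.1 * l₀.1) 1 = 1 := by
          rw [Pi.mul_apply, hl₀1, mul_one, apply_one_eq_charDegree (isCharacter_of_irr ψ.2),
            (Finset.mem_filter.1 hψ).2]
          simp
        exact TDFrob.charDegree_of_apply_one h1
      · rw [Finset.card_image_of_injective _ hτinj]
    calc (∑ ψ ∈ L, ψ.1 d) * l₀.1 d = ∑ ψ ∈ L, (τ ψ).1 d := by
          rw [Finset.sum_mul]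
          rfl
      _ = ∑ φ ∈ L.image τ, φ.1 d :=
          (Finset.sum_image (f := fun φ : IrrCharacter G => φ.1 d)
            (fun a _ b _ h => hτinj h)).symm
      _ = ∑ ψ ∈ L, ψ.1 d := by rw [hτL]
  have hS : ∑ ψ ∈ L, ψ.1 d = -((∑ ψ ∈ NL, charDegree ψ.1 ^ 2 : ℕ) : ℂ) := by
    linear_combination h0
  have hSne : ∑ ψ ∈ L, ψ.1 d ≠ 0 := by
    rw [hS, neg_ne_zero]
    exact_mod_cast hB.ne'
  have hall : ∀ l₀ ∈ L, l₀.1 d = 1 := by
    intro l₀ hl₀
    have h1 := htrans l₀ hl₀
    exact mul_left_cancel₀ hSne (by rw [h1, mul_one])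
  have hS2 : ∑ ψ ∈ L, ψ.1 d = (L.card : ℂ) := by
    rw [Finset.sum_congr rfl hall]
    simp
  rw [hS2] at hS
  have h5 : ((L.card + ∑ ψ ∈ NL, charDegree ψ.1 ^ 2 : ℕ) : ℂ) = 0 := by
    rw [Nat.cast_add]
    linear_combination hS
  have h6 : L.card + ∑ ψ ∈ NL, charDegree ψ.1 ^ 2 = 0 := by exact_mod_cast h5
  omega

/-- When the degrees of `G` are `1` and `p`, the centre of a nonabelian normal subgroup is
central in `G`. -/
theorem center_le_center [Finite G] (p : ℕ) (hp : p.Prime)
    (hcd : ∀ χ : IrrCharacter G, charDegree χ.1 = 1 ∨ charDegree χ.1 = p)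
    (M : Subgroup G) [hM : M.Normal] (hMnab : ∃ a ∈ M, ∃ b ∈ M, a * b ≠ b * a) (z : G)
    (hz : z ∈ M) (hzc : ∀ m ∈ M, m * z = z * m) : z ∈ Subgroup.center G := by
  rw [Subgroup.mem_center_iff]
  intro g
  by_contra hne
  have hgz : g * z * g⁻¹ ∈ M := hM.conj_mem z hz g
  obtain ⟨d, hdef⟩ : ∃ d : M, d = ⟨g * z * g⁻¹, hgz⟩ * (⟨z, hz⟩ : M)⁻¹ := ⟨_, rfl⟩
  have hnabM : ∃ ψ : IrrCharacter M, charDegree ψ.1 ≠ 1 := by
    by_contra hall
    push Not at hall
    obtain ⟨a, ha, b, hb, hab⟩ := hMnab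
    have h1 := TDBasic.comm_of_forall_degree_one hall ⟨a, ha⟩ ⟨b, hb⟩
    exact hab (congrArg Subtype.val h1)
  have hd : ∀ ψ : IrrCharacter M, charDegree ψ.1 ≠ 1 → ψ.1 d = ψ.1 1 := by
    intro ψ hψ
    obtain ⟨θ, hθ⟩ := exists_extension p hp hcd M ψ hψ
    have h1 : ψ.1 ⟨g * z * g⁻¹, hgz⟩ = ψ.1 ⟨z, hz⟩ := by
      rw [← hθ, ← hθ]
      exact irr_isClassFunction θ z g
    have hzcen : (⟨z, hz⟩ : M) ∈ Subgroup.center M := by
      rw [Subgroup.mem_center_iff]
      intro m
      exact Subtype.ext (hzc m m.2)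
    have hnorm := Cfsg.Agent.Lib.CT.Kernel.norm_eq_of_mem_center ψ.2 hzcen
    obtain ⟨ω, -, hω2, hω3⟩ :=
      Cfsg.Agent.Lib.CT.Kernel.exists_scalar_of_norm_eq (isCharacter_of_irr ψ.2) hnorm
    have h2 : d * ⟨z, hz⟩ = ⟨g * z * g⁻¹, hgz⟩ := by
      rw [hdef, inv_mul_cancel_right]
    have h3 := hω2 d
    rw [h2, h1, hω3] at h3
    have hω0 : ω ≠ 0 := by
      rintro rfl
      rw [zero_mul] at hω3
      rw [hω3, norm_zero, apply_one_eq_charDegree (isCharacter_of_irr ψ.2)] at hnorm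
      have h4 := charDegree_pos ψ
      simp only [Complex.natCast_re] at hnorm
      have h5 : (charDegree ψ.1 : ℝ) = 0 := hnorm.symm
      have h6 : charDegree ψ.1 = 0 := by exact_mod_cast h5
      omega
    exact (mul_left_cancel₀ hω0 h3).symm
  have hd1 := eq_one_of_nonlinear hnabM d hd
  apply hne
  have h4 : g * z * g⁻¹ = z := by
    have h5 := congrArg Subtype.val hd1
    rw [hdef] at h5
    simp only [Subgroup.coe_mul, Subgroup.coe_inv, Subgroup.coe_one] at h5
    exact mul_inv_eq_one.1 h5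
  calc g * z = (g * z * g⁻¹) * g := by group
    _ = z * g := by rw [h4]

/-- An irreducible character of prime degree vanishing off a proper normal subgroup `N` is
trivial on the commutators of `N`. -/
theorem comm_apply_of_vanish [Finite G] (p : ℕ) (hp : p.Prime) (N : Subgroup G) [N.Normal]
    (hN : N ≠ ⊤) (ψ : IrrCharacter G) (hψ : charDegree ψ.1 = p)
    (hvan : ∀ g, g ∉ N → ψ.1 g = 0) (a b : G) (ha : a ∈ N) (hb : b ∈ N) :
    ψ.1 (a * b * a⁻¹ * b⁻¹) = ψ.1 1 := by
  classical
  haveI := Fintype.ofFinite G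
  haveI := Fintype.ofFinite N
  have hres : IsCharacter N (fun n : N => ψ.1 n) :=
    Cfsg.Agent.Lib.CT.Ops.isCharacter_restrict N (isCharacter_of_irr ψ.2)
  have key := apply_eq_of_constituents hres
    ((⟨a, ha⟩ : N) * ⟨b, hb⟩ * (⟨a, ha⟩ : N)⁻¹ * (⟨b, hb⟩ : N)⁻¹) ?_
  · exact key
  · intro μ hμ
    have hdvd := (TDBasic.deg_of_constituent N μ ψ hμ).1
    rw [hψ] at hdvd
    rcases (Nat.dvd_prime hp).1 hdvd with h1 | h1
    · exact TDTak.apply_eq_one_of_mem_commutator μ h1 (TDUniq.conj_mul_inv_mem_commutator _ _)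
    · exfalso
      have h2 := eq_of_constituent_of_degree_le hres μ hμ (by
        have h3 : charDegree (fun n : N => ψ.1 n) = charDegree ψ.1 := rfl
        rw [h3, hψ, h1])
      exact not_irr_restrict N hN ψ hvan (h2 ▸ μ.2)

end Cfsg.Agent.Lib.Helper3.CdPa
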