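import Mathlib
import Cfsg.Agent.Lib.Helper57.FTStmt
import Cfsg.Agent.Lib.Helper3.FTSOLV15

set_option autoImplicit false

/-! S3999 (helper57 call) piece CYC15: a group of order 15 has an element of order 15. -/

namespace Cfsg.Agent.Lib.Helper3.FTCYC15

universe u

open Cfsg.Agent.Lib.Helper57.FTStmt

theorem main : Cyc15.{u} := by
  intro H _ hH
  have : Finite H := Nat.finite_of_card_ne_zero (by rw [hH]; norm_num)
  exact Cfsg.Agent.Lib.Helper3.FTSOLV15.exists_orderOf_15 hH

end Cfsg.Agent.Lib.Helper3.FTCYC15
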