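import Mathlib
import Cfsg.Agent.Lib.Helper57.FTStmt
import Cfsg.Agent.Lib.Helper91.Hall

set_option autoImplicit false

/-! S3999 (helper57 call) piece EL15: a solvable group with `15 ∣ |Y|`, `9 ∤ |Y|`, `25 ∤ |Y|` has
an element of order `15` (Hall `{3,5}`-subgroup of order 15, from `Cyc15`). -/

namespace Cfsg.Agent.Lib.Helper3.FTEL15

universe u

open Cfsg.Agent.Lib.Helper57.FTStmt

theorem main (h : Cyc15.{u}) : El15.{u} := by
  intro Y _ _ hsolv h15 h9 h25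
  have := hsolv
  have p3 : Nat.Prime 3 := by norm_num
  have p5 : Nat.Prime 5 := by norm_num
  obtain ⟨n, hn⟩ := h15
  have hc3 : Nat.Coprime 3 n := by
    rw [p3.coprime_iff_not_dvd]
    rintro ⟨m, rfl⟩
    exact h9 ⟨5 * m, by rw [hn]; ring⟩
  have hc5 : Nat.Coprime 5 n := by
    rw [p5.coprime_iff_not_dvd]
    rintro ⟨m, rfl⟩
    exact h25 ⟨3 * m, by rw [hn]; ring⟩
  have hcop : Nat.Coprime 15 n := Nat.Coprime.mul_left hc3 hc5
  obtain ⟨H, hH⟩ := Cfsg.Agent.Lib.Helper91.Hall.hall_exists 15 n hn hcop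
  obtain ⟨d, hd⟩ := h H hH
  exact ⟨(d : Y), by rw [Subgroup.orderOf_coe]; exact hd⟩

end Cfsg.Agent.Lib.Helper3.FTEL15
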