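import Mathlib
import Cfsg.Agent.Lib.Helper87.FUSHStmt

set_option autoImplicit false

/-! S1438 piece FUSH, STEP A (helper87's sub-split): Frattini argument in `S`. -/

namespace Cfsg.Agent.Lib.Helper3.FUSHA

universe u

open Cfsg.Agent.Lib.Helper23.HNStmt Cfsg.Agent.Lib.Helper87.FUSHStmt

theorem main (hC : HallConj.{u}) : StepA.{u} := by
  intro X _ _ S H hSsolv hSn hHS hHall x hx m hm
  have hBS : H.map (MulAut.conj m).toMonoidHom ≤ S := by
    rintro _ ⟨h, hh, rfl⟩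
    exact hSn.conj_mem h (hHS hh) m
  have hcard : Nat.card H = Nat.card (H.map (MulAut.conj m).toMonoidHom) :=
    (Subgroup.card_map_of_injective (MulAut.conj m).injective).symm
  obtain ⟨s, hs, hsm⟩ := hC S H (H.map (MulAut.conj m).toMonoidHom) hSsolv hHS hBS hcard hHall
  have key1 : ∀ h ∈ H, s⁻¹ * m * h * (s⁻¹ * m)⁻¹ ∈ H := by
    intro h hh
    have h1 : m * h * m⁻¹ ∈ H.map (MulAut.conj m).toMonoidHom := ⟨h, hh, rfl⟩
    rw [hsm] at h1
    obtain ⟨h', hh', e⟩ := h1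
    have e' : s * h' * s⁻¹ = m * h * m⁻¹ := e
    have h2 : s⁻¹ * m * h * (s⁻¹ * m)⁻¹ = h' := by
      have h3 : s⁻¹ * m * h * (s⁻¹ * m)⁻¹ = s⁻¹ * (m * h * m⁻¹) * s := by group
      rw [h3, ← e']
      group
    rw [h2]
    exact hh'
  have key2 : ∀ h : X, s⁻¹ * m * h * (s⁻¹ * m)⁻¹ ∈ H → h ∈ H := by
    intro h hh
    have h1 : s * (s⁻¹ * m * h * (s⁻¹ * m)⁻¹) * s⁻¹ ∈ H.map (MulAut.conj s).toMonoidHom :=
      ⟨_, hh, rfl⟩
    rw [← hsm] at h1
    obtain ⟨h'', hh'', e⟩ := h1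
    have e' : m * h'' * m⁻¹ = s * (s⁻¹ * m * h * (s⁻¹ * m)⁻¹) * s⁻¹ := e
    have h2 : h'' = h := by
      have e2 : m * h'' * m⁻¹ = m * h * m⁻¹ := by
        rw [e']
        group
      exact mul_left_cancel (mul_right_cancel e2)
    rw [← h2]
    exact hh''
  refine ⟨s⁻¹ * m, ?_, s, hs, key1 x hx, by group⟩
  rw [Subgroup.mem_normalizer_iff]
  intro h
  exact ⟨key1 h, key2 h⟩

end Cfsg.Agent.Lib.Helper3.FUSHA
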