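import Mathlib
import Cfsg.Agent.Lib.Helper40.GFStmt

/-!
# S5886, piece ALG2 (helper3, second seat)
-/

set_option autoImplicit false

namespace Cfsg.Agent.Lib.Helper3.GFALG2

universe u

open Cfsg.Agent.Lib.Helper40.GFStmt

theorem key {F L : Type u} [Field F] [Field L] [Algebra F L] (e' : L) (b : L →ₗ[F] F)
    (he' : e' ≠ 0) (hbe' : b e' = 0) (d c' : L)
    (h : nu b e' d 1 = LinearMap.mulLeft F c') :
    (b (d * (d * e')) - b (d * e') ^ 2) • e' = (2 * b (d * e')) • (d * e') := by
  have h1 := LinearMap.congr_fun h e'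
  have h2 := LinearMap.congr_fun h (d * e')
  rw [nu_apply, LinearMap.mulLeft_apply] at h1 h2
  rw [one_mul, hbe', zero_smul, sub_zero] at h1
  have hc' : c' = d + algebraMap F L (b (d * e')) := by
    apply mul_right_cancel₀ he'
    rw [← h1, add_mul, Algebra.smul_def]
  rw [one_mul] at h2
  have hx : b (d * (d * e' - b (d * e') • e'))
      = b (d * (d * e')) - b (d * e') * b (d * e') := by
    rw [mul_sub, mul_smul_comm, map_sub, map_smul, smul_eq_mul]
  rw [hx, hc'] at h2
  simp only [Algebra.smul_def, map_sub, map_mul, map_pow, map_ofNat] at h2 ⊢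
  linear_combination h2

theorem main : Alg2.{u} := by
  intro F L _ _ _ _ hr h2 e b he hb hbe
  classical
  obtain ⟨y, hy⟩ : ∃ y, b y ≠ 0 := by
    by_contra hcon
    push Not at hcon
    exact hb (LinearMap.ext fun x => by rw [hcon x, LinearMap.zero_apply])
  obtain ⟨d, hd⟩ : ∃ d : L, d * e = y :=
    ⟨y * e⁻¹, by rw [mul_assoc, inv_mul_cancel₀ he, mul_one]⟩
  have hβ : b (d * e) ≠ 0 := by
    rw [hd]
    exact hy
  by_cases h20 : (2 : F) = 0
  · have hF : 2 < Nat.card F := by
      rcases h2 with h | h
      · exact absurd h20 h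
      · exact h
    have hfin : Finite F := Nat.finite_of_card_ne_zero (by omega)
    obtain ⟨f, hf0, hft⟩ : ∃ f : F, f ≠ 0 ∧ f ≠ b (d * (d * e)) / b (d * e) ^ 2 := by
      by_contra hcon
      push Not at hcon
      haveI := Fintype.ofFinite F
      have hsub : (Finset.univ : Finset F) ⊆ {0, b (d * (d * e)) / b (d * e) ^ 2} := by
        intro f _
        by_cases hf : f = 0
        · simp [hf]
        · simp [hcon f hf]
      have hle := Finset.card_le_card hsub
      have h2' := Finset.card_le_two (a := (0 : F)) (b := b (d * (d * e)) / b (d * e) ^ 2)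
      rw [Finset.card_univ, ← Nat.card_eq_fintype_card] at hle
      omega
    refine ⟨f, d, fun c' h => ?_⟩
    have hfe : f • e ≠ 0 := smul_ne_zero hf0 he
    have hbfe : b (f • e) = 0 := by rw [map_smul, hbe, smul_zero]
    have hk := key (f • e) b hfe hbfe d c' h
    rw [h20, zero_mul, zero_smul] at hk
    rcases smul_eq_zero.mp hk with h0 | h0
    · simp only [mul_smul_comm, map_smul, smul_eq_mul] at h0
      apply hft
      rw [eq_div_iff (pow_ne_zero 2 hβ)]
      have h5 : f * (b (d * (d * e)) - f * b (d * e) ^ 2) = 0 := by linear_combination h0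
      rcases mul_eq_zero.mp h5 with hf | hB
      · exact absurd hf hf0
      · linear_combination (-1 : F) * hB
    · exact hfe h0
  · refine ⟨1, d, fun c' h => ?_⟩
    rw [one_smul] at h
    have hk := key e b he hbe d c' h
    have h2β : (2 * b (d * e)) ≠ 0 := mul_ne_zero h20 hβ
    have h3 : d * e = ((2 * b (d * e))⁻¹ * (b (d * (d * e)) - b (d * e) ^ 2)) • e := by
      rw [mul_smul, hk, ← mul_smul, inv_mul_cancel₀ h2β, one_smul]
    have h4 := congrArg b h3
    rw [map_smul, hbe, smul_zero] at h4
    exact hβ h4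

end Cfsg.Agent.Lib.Helper3.GFALG2
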