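import Mathlib
import Cfsg.Agent.Lib.CT.FrobRec

/-!
Induced functions on a regular wreath product `A ≀ᵣ Q` from product subgroups of the base group
and from wreath subgroups `H₀ ≀ᵣ Q`.
-/

set_option autoImplicit false

namespace Cfsg.Agent.Lib.Helper3.WrInd

open Cfsg Cfsg.Agent.Lib.CT.FrobRec
open scoped ComplexConjugate

universe u v
variable {A : Type u} [Group A] {Q : Type v} [Group Q]

theorem conj_right (x w : A ≀ᵣ Q) : (x⁻¹ * w * x).right = x.right⁻¹ * w.right * x.right := rfl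

theorem conj_left (x w : A ≀ᵣ Q) (hw : w.right = 1) (q : Q) :
    (x⁻¹ * w * x).left q =
      (x.left (x.right * q))⁻¹ * w.left (x.right * q) * x.left (x.right * q) := by
  simp [hw]

/-- The product subgroup `∏ H q` of the base group. -/
def prodSub (H : Q → Subgroup A) : Subgroup (A ≀ᵣ Q) where
  carrier := {w | w.right = 1 ∧ ∀ q, w.left q ∈ H q}
  mul_mem' := by
    rintro a b ⟨ha1, ha2⟩ ⟨hb1, hb2⟩
    refine ⟨by simp [ha1, hb1], fun q => ?_⟩
    simp only [RegularWreathProduct.mul_left, Pi.mul_apply, ha1, inv_one, one_mul]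
    exact (H q).mul_mem (ha2 q) (hb2 q)
  one_mem' := ⟨rfl, fun q => (H q).one_mem⟩
  inv_mem' := by
    rintro a ⟨ha1, ha2⟩
    refine ⟨by simp [ha1], fun q => ?_⟩
    simp only [RegularWreathProduct.inv_left, ha1, one_mul, Pi.inv_apply]
    exact (H q).inv_mem (ha2 q)

theorem mem_prodSub (H : Q → Subgroup A) (w : A ≀ᵣ Q) :
    w ∈ prodSub H ↔ w.right = 1 ∧ ∀ q, w.left q ∈ H q := Iff.rfl

/-- The wreath subgroup `H₀ ≀ᵣ Q`. -/
def wrSub (H₀ : Subgroup A) : Subgroup (A ≀ᵣ Q) where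
  carrier := {w | ∀ q, w.left q ∈ H₀}
  mul_mem' := by
    intro a b ha hb q
    simp only [RegularWreathProduct.mul_left, Pi.mul_apply]
    exact H₀.mul_mem (ha q) (hb _)
  one_mem' := fun q => H₀.one_mem
  inv_mem' := by
    intro a ha q
    simp only [RegularWreathProduct.inv_left, Pi.inv_apply]
    exact H₀.inv_mem (ha _)

theorem mem_wrSub (H₀ : Subgroup A) (w : A ≀ᵣ Q) :
    w ∈ wrSub (Q := Q) H₀ ↔ ∀ q, w.left q ∈ H₀ := Iff.rfl

theorem card_prodSub [Finite Q] (H : Q → Subgroup A) :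
    Nat.card (prodSub H) = ∏ᶠ q, Nat.card (H q) := by
  classical
  haveI := Fintype.ofFinite Q
  have e : prodSub H ≃ (∀ q, H q) :=
    { toFun := fun w q => ⟨w.1.left q, ((mem_prodSub H w.1).1 w.2).2 q⟩
      invFun := fun g => ⟨⟨fun q => (g q : A), 1⟩, rfl, fun q => (g q).2⟩
      left_inv := fun w => by
        apply Subtype.ext
        ext
        · rfl
        · exact w.2.1.symm
      right_inv := fun g => rfl }
  rw [Nat.card_congr e, Nat.card_pi, finprod_eq_prod_of_fintype]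

theorem card_wrSub [Finite Q] (H₀ : Subgroup A) :
    Nat.card (wrSub (Q := Q) H₀) = Nat.card H₀ ^ Nat.card Q * Nat.card Q := by
  have e : wrSub (Q := Q) H₀ ≃ (Q → H₀) × Q :=
    { toFun := fun w => (fun q => ⟨w.1.left q, (mem_wrSub H₀ w.1).1 w.2 q⟩, w.1.right)
      invFun := fun g => ⟨⟨fun q => (g.1 q : A), g.2⟩, fun q => (g.1 q).2⟩
      left_inv := fun w => rfl
      right_inv := fun g => rfl }
  rw [Nat.card_congr e, Nat.card_prod, Nat.card_fun]

theorem sum_wr [Fintype A] [Fintype Q] [DecidableEq Q] [Fintype (A ≀ᵣ Q)] (F : A ≀ᵣ Q → ℂ) :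
    ∑ x, F x = ∑ r : Q, ∑ g : Q → A, F ⟨g, r⟩ := by
  calc ∑ x, F x = ∑ y : (Q → A) × Q, F ⟨y.1, y.2⟩ :=
        Fintype.sum_equiv (RegularWreathProduct.equivProd A Q) _ _ (fun x => rfl)
    _ = ∑ g : Q → A, ∑ r : Q, F ⟨g, r⟩ := Fintype.sum_prod_type _
    _ = ∑ r : Q, ∑ g : Q → A, F ⟨g, r⟩ := Finset.sum_comm

theorem sum_prod_conj [Fintype A] [Fintype Q] [DecidableEq Q] (κ : Q → A → ℂ) (f : Q → A) (r : Q) :
    ∑ g : Q → A, ∏ q, κ q ((g (r * q))⁻¹ * f (r * q) * g (r * q)) =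
      ∏ q, ∑ a : A, κ q (a⁻¹ * f (r * q) * a) := by
  have h1 : ∑ g : Q → A, ∏ q, κ q ((g (r * q))⁻¹ * f (r * q) * g (r * q)) =
      ∑ g : Q → A, ∏ q, κ q ((g q)⁻¹ * f (r * q) * g q) :=
    Fintype.sum_equiv ((Equiv.mulLeft r).symm.arrowCongr (Equiv.refl A)) _ _ (fun g => rfl)
  have h2 := Finset.prod_univ_sum (fun _ : Q => (Finset.univ : Finset A))
    (fun (q : Q) (a : A) => κ q (a⁻¹ * f (r * q) * a))
  rw [Fintype.piFinset_univ] at h2
  rw [h1, h2]

theorem extendByZero_prodSub (H : Q → Subgroup A) [Fintype Q] (lam : ∀ q, H q → ℂ)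
    (y : A ≀ᵣ Q) (hy : y.right = 1) :
    extendByZero (prodSub H) (fun w => ∏ q, lam q ⟨w.1.left q, ((mem_prodSub H w.1).1 w.2).2 q⟩) y =
      ∏ q, extendByZero (H q) (lam q) (y.left q) := by
  by_cases h : ∀ q, y.left q ∈ H q
  · rw [extendByZero_apply_of_mem _ _ (show y ∈ prodSub H from ⟨hy, h⟩)]
    exact Finset.prod_congr rfl fun q _ => (extendByZero_apply_of_mem (H q) (lam q) (h q)).symm
  · push Not at h
    obtain ⟨q₀, hq₀⟩ := h
    rw [extendByZero_apply_of_not_mem _ _ (fun hm : y ∈ prodSub H => hq₀ (hm.2 q₀))]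
    symm
    exact Finset.prod_eq_zero (Finset.mem_univ q₀) (extendByZero_apply_of_not_mem _ _ hq₀)

theorem extendByZero_wrSub (H₀ : Subgroup A) [Fintype Q] (lam : H₀ → ℂ) (y : A ≀ᵣ Q) :
    extendByZero (wrSub (Q := Q) H₀) (fun w => ∏ q, lam ⟨w.1.left q, (mem_wrSub H₀ w.1).1 w.2 q⟩) y =
      ∏ q, extendByZero H₀ lam (y.left q) := by
  by_cases h : ∀ q, y.left q ∈ H₀
  · rw [extendByZero_apply_of_mem _ _ (show y ∈ wrSub (Q := Q) H₀ from h)]
    exact Finset.prod_congr rfl fun q _ => (extendByZero_apply_of_mem H₀ lam (h q)).symm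
  · push Not at h
    obtain ⟨q₀, hq₀⟩ := h
    rw [extendByZero_apply_of_not_mem _ _ (fun hm : y ∈ wrSub (Q := Q) H₀ => hq₀ (hm q₀))]
    symm
    exact Finset.prod_eq_zero (Finset.mem_univ q₀) (extendByZero_apply_of_not_mem _ _ hq₀)

/-- The function induced from a product function on a product subgroup of the base group. -/
theorem indFun_prodSub [Fintype A] [Fintype Q] [DecidableEq Q] [Fintype (A ≀ᵣ Q)]
    (H : Q → Subgroup A)
    (lam : ∀ q, H q → ℂ) (w : A ≀ᵣ Q) :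
    indFun (prodSub H) (fun w => ∏ q, lam q ⟨w.1.left q, ((mem_prodSub H w.1).1 w.2).2 q⟩) w =
      if w.right = 1 then ∑ r : Q, ∏ q, indFun (H q) (lam q) (w.left (r * q)) else 0 := by
  rw [indFun_apply]
  by_cases hw : w.right = 1
  · rw [if_pos hw, sum_wr]
    have h1 : ∀ (r : Q) (g : Q → A),
        extendByZero (prodSub H) (fun w => ∏ q, lam q ⟨w.1.left q, ((mem_prodSub H w.1).1 w.2).2 q⟩)
          ((⟨g, r⟩ : A ≀ᵣ Q)⁻¹ * w * ⟨g, r⟩) =
        ∏ q, extendByZero (H q) (lam q) ((g (r * q))⁻¹ * w.left (r * q) * g (r * q)) := by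
      intro r g
      rw [extendByZero_prodSub H lam _ (by rw [conj_right, hw]; simp)]
      exact Finset.prod_congr rfl fun q _ => by rw [conj_left _ _ hw]
    rw [Finset.sum_congr rfl fun r _ => Finset.sum_congr rfl fun g _ => h1 r g,
      Finset.sum_congr rfl fun r _ =>
        sum_prod_conj (fun q => extendByZero (H q) (lam q)) w.left r, Finset.mul_sum]
    refine Finset.sum_congr rfl fun r _ => ?_
    simp only [indFun_apply]
    rw [Finset.prod_mul_distrib, card_prodSub, finprod_eq_prod_of_fintype]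
    push_cast
    rw [Finset.prod_inv_distrib]
  · rw [if_neg hw]
    have h1 : ∀ x : A ≀ᵣ Q,
        extendByZero (prodSub H) (fun w => ∏ q, lam q ⟨w.1.left q, ((mem_prodSub H w.1).1 w.2).2 q⟩) (x⁻¹ * w * x) = 0 := by
      intro x
      apply extendByZero_apply_of_not_mem
      intro hm
      apply hw
      have h2 := hm.1
      rw [conj_right] at h2
      have h3 : w.right = x.right * (x.right⁻¹ * w.right * x.right) * x.right⁻¹ := by group
      rw [h3, h2]
      group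
    rw [Finset.sum_congr rfl fun x _ => h1 x]
    simp

/-- The function induced from a product function on a wreath subgroup, on the base group. -/
theorem indFun_wrSub [Fintype A] [Fintype Q] [Fintype (A ≀ᵣ Q)] (H₀ : Subgroup A)
    (lam : H₀ → ℂ) (w : A ≀ᵣ Q) (hw : w.right = 1) :
    indFun (wrSub (Q := Q) H₀) (fun w => ∏ q, lam ⟨w.1.left q, (mem_wrSub H₀ w.1).1 w.2 q⟩) w =
      ∏ q, indFun H₀ lam (w.left q) := by
  classical
  rw [indFun_apply, sum_wr]
  have h1 : ∀ (r : Q) (g : Q → A),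
      extendByZero (wrSub (Q := Q) H₀) (fun w => ∏ q, lam ⟨w.1.left q, (mem_wrSub H₀ w.1).1 w.2 q⟩)
        ((⟨g, r⟩ : A ≀ᵣ Q)⁻¹ * w * ⟨g, r⟩) =
      ∏ q, extendByZero H₀ lam ((g (r * q))⁻¹ * w.left (r * q) * g (r * q)) := by
    intro r g
    rw [extendByZero_wrSub H₀ lam _]
    exact Finset.prod_congr rfl fun q _ => by rw [conj_left _ _ hw]
  have h2 : ∀ r : Q, ∏ q, ∑ a : A, extendByZero H₀ lam (a⁻¹ * w.left (r * q) * a) =
      ∏ q, ∑ a : A, extendByZero H₀ lam (a⁻¹ * w.left q * a) := fun r =>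
    Fintype.prod_equiv (Equiv.mulLeft r) _ _ (fun q => rfl)
  rw [Finset.sum_congr rfl fun r _ => Finset.sum_congr rfl fun g _ => h1 r g,
    Finset.sum_congr rfl fun r _ =>
      sum_prod_conj (fun _ => extendByZero H₀ lam) w.left r,
    Finset.sum_congr rfl fun r _ => h2 r, Finset.sum_const, Finset.card_univ, nsmul_eq_mul]
  simp only [indFun_apply]
  rw [Finset.prod_mul_distrib, card_wrSub, Finset.prod_const, Finset.card_univ,
    Nat.card_eq_fintype_card (α := Q)]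
  have hQ : (Fintype.card Q : ℂ) ≠ 0 := Nat.cast_ne_zero.2 Fintype.card_ne_zero
  have hH : (Nat.card H₀ : ℂ) ≠ 0 := Nat.cast_ne_zero.2 Nat.card_pos.ne'
  push_cast
  field_simp
  rw [one_div, inv_pow, mul_comm (_ ^ _) (∏ q, _), mul_assoc,
    mul_inv_cancel₀ (pow_ne_zero _ hH), mul_one]

/-- The linear character of a product subgroup given by linear characters of the factors. -/
noncomputable def prodHom [Fintype Q] (H : Q → Subgroup A) (lam : ∀ q, H q →* ℂˣ) :
    prodSub H →* ℂˣ where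
  toFun w := ∏ q, lam q ⟨w.1.left q, ((mem_prodSub H w.1).1 w.2).2 q⟩
  map_one' := Finset.prod_eq_one fun q _ => (lam q).map_one
  map_mul' a b := by
    rw [← Finset.prod_mul_distrib]
    refine Finset.prod_congr rfl fun q _ => ?_
    rw [← (lam q).map_mul]
    congr 1
    apply Subtype.ext
    simp [a.2.1]

theorem prodHom_apply [Fintype Q] (H : Q → Subgroup A) (lam : ∀ q, H q →* ℂˣ) (w : prodSub H) :
    ((prodHom H lam w : ℂˣ) : ℂ) = ∏ q, ((lam q ⟨w.1.left q, ((mem_prodSub H w.1).1 w.2).2 q⟩ : ℂˣ) : ℂ) := by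
  show ((∏ q, lam q ⟨w.1.left q, ((mem_prodSub H w.1).1 w.2).2 q⟩ : ℂˣ) : ℂ) = _
  rw [Units.coe_prod]

/-- The linear character of a wreath subgroup given by a linear character of `H₀`. -/
noncomputable def wrHom [Fintype Q] (H₀ : Subgroup A) (lam : H₀ →* ℂˣ) :
    wrSub (Q := Q) H₀ →* ℂˣ where
  toFun w := ∏ q, lam ⟨w.1.left q, (mem_wrSub H₀ w.1).1 w.2 q⟩
  map_one' := Finset.prod_eq_one fun q _ => lam.map_one
  map_mul' a b := by
    have h1 : ∏ q, lam ⟨b.1.left q, (mem_wrSub H₀ b.1).1 b.2 q⟩ =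
        ∏ q, lam ⟨b.1.left (a.1.right⁻¹ * q), (mem_wrSub H₀ b.1).1 b.2 _⟩ :=
      (Fintype.prod_equiv (Equiv.mulLeft a.1.right⁻¹) _ _ (fun q => rfl)).symm
    rw [h1, ← Finset.prod_mul_distrib]
    refine Finset.prod_congr rfl fun q _ => ?_
    rw [← lam.map_mul]
    rfl

theorem wrHom_apply [Fintype Q] (H₀ : Subgroup A) (lam : H₀ →* ℂˣ) (w : wrSub (Q := Q) H₀) :
    ((wrHom H₀ lam w : ℂˣ) : ℂ) = ∏ q, ((lam ⟨w.1.left q, (mem_wrSub H₀ w.1).1 w.2 q⟩ : ℂˣ) : ℂ) := by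
  show ((∏ q, lam ⟨w.1.left q, (mem_wrSub H₀ w.1).1 w.2 q⟩ : ℂˣ) : ℂ) = _
  rw [Units.coe_prod]

end Cfsg.Agent.Lib.Helper3.WrInd
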