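import Mathlib
import Cfsg.Agent.Lib.CT.NormOne
import Cfsg.Agent.Lib.CT.Ops
import Cfsg.Agent.Lib.CT.Orth
import Cfsg.Agent.Lib.Helper80.Integrality

/-!
Irreducible characters of a finite power `ι → A` of a finite group: they are exactly the
products `f ↦ ∏ i, φ i (f i)` of irreducible characters of `A`, and the family `φ` is unique.
-/

set_option autoImplicit false

namespace Cfsg.Agent.Lib.Helper3.WrPi

open Cfsg Cfsg.Agent.Lib.CT.Wedderburn Cfsg.Agent.Lib.CT.Orth Cfsg.Agent.Lib.CT.NormOne
open Cfsg.Agent.Lib.Helper80.Integrality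
open scoped ComplexConjugate

universe u v
variable {ι : Type v} [Fintype ι] {A : Type u} [Group A]

/-- The product of a family of functions on `A`, as a function on `ι → A`. -/
noncomputable def piChar (φ : ι → A → ℂ) : (ι → A) → ℂ := fun f => ∏ i, φ i (f i)

theorem piChar_apply (φ : ι → A → ℂ) (f : ι → A) : piChar φ f = ∏ i, φ i (f i) := rfl

theorem isCharacter_piChar (φ : ι → A → ℂ) (h : ∀ i, IsCharacter A (φ i)) :
    IsCharacter (ι → A) (piChar φ) := by
  classical
  have key : ∀ s : Finset ι, IsCharacter (ι → A) (fun f => ∏ i ∈ s, φ i (f i)) := by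
    intro s
    induction s using Finset.induction_on with
    | empty =>
      simp only [Finset.prod_empty]
      exact Cfsg.Agent.Lib.CT.Ops.isCharacter_one
    | insert a s ha ih =>
      have h1 : IsCharacter (ι → A) (fun f => φ a (f a)) :=
        Cfsg.Agent.Lib.CT.Ops.isCharacter_comp_hom (Pi.evalMonoidHom (fun _ : ι => A) a) (h a)
      have h2 := Cfsg.Agent.Lib.CT.Ops.isCharacter_mul h1 ih
      have h3 : ((fun f : ι → A => φ a (f a)) * fun f => ∏ i ∈ s, φ i (f i)) =
          fun f => ∏ i ∈ insert a s, φ i (f i) := by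
        funext f
        rw [Finset.prod_insert ha]
        rfl
      rw [← h3]
      exact h2
  exact key Finset.univ

theorem classInner_piChar [Fintype A] [Fintype (ι → A)] (φ φ' : ι → A → ℂ) :
    classInner (piChar φ) (piChar φ') = ∏ i, classInner (φ i) (φ' i) := by
  classical
  unfold classInner
  have h1 : ∏ i, ((Nat.card A : ℂ)⁻¹ * ∑ a : A, φ i a * conj (φ' i a)) =
      ((Nat.card A : ℂ)⁻¹) ^ (Fintype.card ι) * ∏ i, ∑ a : A, φ i a * conj (φ' i a) := by
    rw [Finset.prod_mul_distrib, Finset.prod_const, Finset.card_univ]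
  have h2 : ∏ i, ∑ a : A, φ i a * conj (φ' i a) =
      ∑ f ∈ Fintype.piFinset (fun _ : ι => (Finset.univ : Finset A)),
        ∏ i, (φ i (f i) * conj (φ' i (f i))) := Finset.prod_univ_sum _ _
  have h3 : ∑ f : ι → A, piChar φ f * conj (piChar φ' f) =
      ∑ f ∈ Fintype.piFinset (fun _ : ι => (Finset.univ : Finset A)),
        ∏ i, (φ i (f i) * conj (φ' i (f i))) := by
    apply Finset.sum_congr
    · ext f
      simp
    · intro f _
      rw [piChar_apply, piChar_apply, map_prod, ← Finset.prod_mul_distrib]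
  have h4 : (Nat.card (ι → A) : ℂ) = (Nat.card A : ℂ) ^ (Fintype.card ι) := by
    rw [Nat.card_pi, Finset.prod_const, Finset.card_univ]
    push_cast
    rfl
  rw [h1, h2, h3, h4, inv_pow]

theorem isIrrCharacter_piChar [Finite A] (φ : ι → IrrCharacter A) :
    IsIrrCharacter (ι → A) (piChar fun i => (φ i).1) := by
  classical
  haveI := Fintype.ofFinite A
  apply irr_of_inner_self_eq_one (isCharacter_piChar _ fun i => isCharacter_of_irr (φ i).2)
  rw [classInner_piChar]
  exact Finset.prod_eq_one fun i _ => inner_self_eq_one_of_irr (φ i).2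

theorem piChar_injective [Finite A] (φ φ' : ι → IrrCharacter A)
    (h : piChar (fun i => (φ i).1) = piChar fun i => (φ' i).1) : φ = φ' := by
  classical
  haveI := Fintype.ofFinite A
  by_contra hne
  obtain ⟨i, hi⟩ : ∃ i, φ i ≠ φ' i := by
    by_contra hall
    push Not at hall
    exact hne (funext hall)
  have h1 : classInner (piChar fun i => (φ i).1) (piChar fun i => (φ' i).1) = 0 := by
    rw [classInner_piChar]
    apply Finset.prod_eq_zero (Finset.mem_univ i)
    rw [irr_orthonormal (φ i) (φ' i), if_neg hi]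
  have h2 := inner_self_eq_one_of_irr (isIrrCharacter_piChar φ)
  rw [h] at h2
  rw [h] at h1
  rw [h1] at h2
  exact zero_ne_one h2

theorem charDegree_piChar [Finite A] (φ : ι → IrrCharacter A) :
    charDegree (piChar fun i => (φ i).1) = ∏ i, charDegree (φ i).1 := by
  have h1 := apply_one_eq_charDegree (isCharacter_of_irr (isIrrCharacter_piChar φ))
  have h2 : piChar (fun i => (φ i).1) 1 = ((∏ i, charDegree (φ i).1 : ℕ) : ℂ) := by
    rw [piChar_apply]
    push_cast
    exact Finset.prod_congr rfl fun i _ => apply_one_eq_charDegree (isCharacter_of_irr (φ i).2)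
  rw [h2] at h1
  exact_mod_cast h1.symm

/-- Every irreducible character of `ι → A` is a product of irreducible characters of `A`. -/
theorem exists_piChar [Finite A] (θ : (ι → A) → ℂ) (hθ : IsIrrCharacter (ι → A) θ) :
    ∃ φ : ι → IrrCharacter A, θ = piChar fun i => (φ i).1 := by
  classical
  haveI := Fintype.ofFinite A
  haveI := finite_irrCharacter A
  haveI := Fintype.ofFinite (IrrCharacter A)
  haveI := finite_irrCharacter (ι → A)
  haveI := Fintype.ofFinite (IrrCharacter (ι → A))
  obtain ⟨Ψ, hΨ⟩ : ∃ Ψ : (ι → IrrCharacter A) → IrrCharacter (ι → A),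
      ∀ φ, (Ψ φ).1 = piChar fun i => (φ i).1 :=
    ⟨fun φ => ⟨_, isIrrCharacter_piChar φ⟩, fun φ => rfl⟩
  have hinj : Function.Injective Ψ := by
    intro φ φ' h
    apply piChar_injective
    rw [← hΨ φ, ← hΨ φ', h]
  by_contra hnot
  push Not at hnot
  have hmem : (⟨θ, hθ⟩ : IrrCharacter (ι → A)) ∉ Finset.univ.image Ψ := by
    intro h
    obtain ⟨φ, -, hφ⟩ := Finset.mem_image.1 h
    apply hnot φ
    rw [← hΨ φ, hφ]
  have hsum1 : ∑ χ ∈ Finset.univ.image Ψ, charDegree χ.1 ^ 2 = Nat.card (ι → A) := by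
    rw [Finset.sum_image (fun x _ y _ h => hinj h)]
    have h1 : ∀ φ : ι → IrrCharacter A, charDegree (Ψ φ).1 ^ 2 =
        ∏ i, charDegree (φ i).1 ^ 2 := by
      intro φ
      rw [hΨ φ, charDegree_piChar, Finset.prod_pow]
    rw [Finset.sum_congr rfl fun φ _ => h1 φ]
    have h2 := Finset.prod_univ_sum (fun _ : ι => (Finset.univ : Finset (IrrCharacter A)))
      (fun (_ : ι) (χ : IrrCharacter A) => charDegree χ.1 ^ 2)
    rw [Fintype.piFinset_univ] at h2
    rw [← h2, Nat.card_pi]
    exact Finset.prod_congr rfl fun i _ => sum_charDegree_sq_sum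
  have hsum2 := sum_charDegree_sq_sum (G := ι → A)
  have h3 : ∑ χ ∈ insert (⟨θ, hθ⟩ : IrrCharacter (ι → A)) (Finset.univ.image Ψ),
      charDegree χ.1 ^ 2 ≤ ∑ χ : IrrCharacter (ι → A), charDegree χ.1 ^ 2 :=
    Finset.sum_le_sum_of_subset (Finset.subset_univ _)
  rw [Finset.sum_insert hmem, hsum1, hsum2] at h3
  have h4 : 0 < charDegree θ := charDegree_pos (⟨θ, hθ⟩ : IrrCharacter (ι → A))
  have h5 : 0 < charDegree θ ^ 2 := pow_pos h4 2
  have h6 : charDegree (⟨θ, hθ⟩ : IrrCharacter (ι → A)).1 ^ 2 = charDegree θ ^ 2 := rfl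
  rw [h6] at h3
  omega

end Cfsg.Agent.Lib.Helper3.WrPi
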