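import Mathlib
import Cfsg.Agent.Lib.Helper3.WrPi
import Cfsg.Agent.Lib.Helper3.WrInd
import Cfsg.Agent.Lib.Helper3.MGroup
import Cfsg.Agent.Lib.Helper3.CdPa
import Cfsg.Agent.Lib.Helper74.IndexP

/-!
The regular wreath product of an M-group with a group of prime order is an M-group.
-/

set_option autoImplicit false

namespace Cfsg.Agent.Lib.Helper3.WrM

open Cfsg Cfsg.Agent.Lib.CT.FrobRec Cfsg.Agent.Lib.CT.Wedderburn Cfsg.Agent.Lib.CT.Orth
open Cfsg.Agent.Lib.CT.NormOne Cfsg.Agent.Lib.Helper80.Integrality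
open Cfsg.Agent.Lib.Helper80.Restrict
open Cfsg.Agent.Lib.Helper3 Cfsg.Agent.Lib.Helper3.WrPi Cfsg.Agent.Lib.Helper3.WrInd
open Cfsg.Agent.Lib.Helper3.CdPa
open scoped ComplexConjugate

universe u
variable (A : Type u) [Group A] (Q : Type u) [Group Q]

/-- The base group of the regular wreath product. -/
abbrev base : Subgroup (A ≀ᵣ Q) := prodSub (fun _ : Q => (⊤ : Subgroup A))

variable {A Q}

theorem mem_base (w : A ≀ᵣ Q) : w ∈ base A Q ↔ w.right = 1 :=
  ⟨fun h => h.1, fun h => ⟨h, fun _ => Subgroup.mem_top _⟩⟩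

theorem base_normal : (base A Q).Normal :=
  ⟨fun w hw x => by
    rw [mem_base] at hw ⊢
    simp [hw]⟩

theorem base_index [Finite Q] : (base A Q).index = Nat.card Q := by
  have h1 : base A Q = (RegularWreathProduct.rightHom : A ≀ᵣ Q →* Q).ker := by
    ext w
    rw [mem_base, MonoidHom.mem_ker]
    rfl
  have hsurj : Function.Surjective (RegularWreathProduct.rightHom : A ≀ᵣ Q →* Q) :=
    fun q => ⟨RegularWreathProduct.inl q, rfl⟩
  rw [h1, Subgroup.index_ker, MonoidHom.range_eq_top.2 hsurj, Subgroup.card_top]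

/-- The base group is the power `Q → A`. -/
def baseEquiv : (Q → A) ≃* base A Q where
  toFun f := ⟨⟨f, 1⟩, rfl, fun _ => Subgroup.mem_top _⟩
  invFun b := b.1.left
  left_inv f := rfl
  right_inv b := by
    apply Subtype.ext
    ext
    · rfl
    · exact b.2.1.symm
  map_mul' f f' := by
    apply Subtype.ext
    ext <;> simp

theorem baseEquiv_left (b : base A Q) : baseEquiv (b.1.left) = b := baseEquiv.right_inv b

/-- Irreducible characters of the base group are products. -/
theorem exists_tuple [Finite A] [Fintype Q] (θ : IrrCharacter (base A Q)) :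
    ∃ φ : Q → IrrCharacter A, ∀ b : base A Q, θ.1 b = ∏ q, (φ q).1 (b.1.left q) := by
  obtain ⟨φ, hφ⟩ := exists_piChar (fun f : Q → A => θ.1 (baseEquiv f))
    (Cfsg.Agent.Lib.CT.Ops.isIrrCharacter_comp_mulEquiv baseEquiv θ.2)
  refine ⟨φ, fun b => ?_⟩
  have h1 : θ.1 (baseEquiv b.1.left) = piChar (fun i => (φ i).1) b.1.left := congrFun hφ b.1.left
  rw [baseEquiv_left] at h1
  rw [h1]
  rfl

theorem tuple_unique [Finite A] [Fintype Q] (φ φ' : Q → IrrCharacter A)
    (h : ∀ b : base A Q, ∏ q, (φ q).1 (b.1.left q) = ∏ q, (φ' q).1 (b.1.left q)) : φ = φ' := by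
  apply piChar_injective
  funext f
  exact h (baseEquiv f)

theorem conj_inl_left (r : Q) (w : A ≀ᵣ Q) (q : Q) :
    (RegularWreathProduct.inl r * w * (RegularWreathProduct.inl r)⁻¹).left q =
      w.left (r⁻¹ * q) := by
  simp

/-- The regular wreath product of an M-group with a group of prime order is an M-group. -/
theorem wreath_mgroup {A : Type u} [Group A] [Fintype A] {Q : Type u} [Group Q] [Finite Q]
    (p : ℕ) (hp : p.Prime) (hQ : Nat.card Q = p) [Fintype (A ≀ᵣ Q)]
    (hA : ∀ φ : A → ℂ, IsIrrCharacter A φ →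
      ∃ (H : Subgroup A) (lam : H →* ℂˣ), φ = indFun H (fun h => ((lam h : ℂˣ) : ℂ)))
    (χ : A ≀ᵣ Q → ℂ) (hχ : IsIrrCharacter (A ≀ᵣ Q) χ) :
    ∃ (K : Subgroup (A ≀ᵣ Q)) (mu : K →* ℂˣ), χ = indFun K (fun k => ((mu k : ℂˣ) : ℂ)) := by
  classical
  haveI := Fintype.ofFinite Q
  haveI hBn : (base A Q).Normal := base_normal
  haveI : Fintype (base A Q) := Fintype.ofFinite _
  haveI := finite_irrCharacter (A ≀ᵣ Q)
  haveI := Fintype.ofFinite (IrrCharacter (A ≀ᵣ Q))
  have hidx : (base A Q).index = p := by rw [base_index, hQ]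
  have hχc := isCharacter_of_irr hχ
  have hχcf : IsClassFunction (A ≀ᵣ Q) χ := fun g h => irr_isClassFunction ⟨χ, hχ⟩ g h
  obtain ⟨θ, hθ⟩ := Cfsg.Agent.Lib.Helper16.Cover.exists_constituent (base A Q) ⟨χ, hχ⟩
  have hθ' : classInner θ.1 (fun b : base A Q => χ b) ≠ 0 := by
    rw [Cfsg.Agent.Lib.CT.Clifford.classInner_conj_symm]
    intro h
    apply hθ
    have h2 := congrArg conj h
    rw [Complex.conj_conj, map_zero] at h2
    exact h2
  obtain ⟨φ, hφ⟩ := exists_tuple θ
  have hφM : ∀ q, ∃ (H : Subgroup A) (lam : H →* ℂˣ),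
      (φ q).1 = indFun H (fun h => ((lam h : ℂˣ) : ℂ)) := fun q => hA _ (φ q).2
  choose H lam hlam using hφM
  by_cases hinv : ∀ r q : Q, φ (r * q) = φ q
  · -- the invariant case
    have hconst : ∀ q, φ q = φ 1 := fun q => by
      have h1 := hinv q 1
      rwa [mul_one] at h1
    obtain ⟨ψ, hψdef⟩ : ∃ ψ : A ≀ᵣ Q → ℂ, ψ = indFun (wrSub (Q := Q) (H 1))
        (fun w => ((wrHom (H 1) (lam 1) w : ℂˣ) : ℂ)) := ⟨_, rfl⟩
    have hψc : IsCharacter (A ≀ᵣ Q) ψ := by
      rw [hψdef]
      exact Cfsg.Agent.Lib.CT.IndChar.isCharacter_indFun _ _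
        (Cfsg.Agent.Lib.CT.LinChar.isCharacter_of_hom _)
    have hψB : ∀ b : base A Q, ψ b = θ.1 b := by
      intro b
      rw [hψdef, hφ b]
      have h1 : (fun w : wrSub (Q := Q) (H 1) => ((wrHom (H 1) (lam 1) w : ℂˣ) : ℂ)) =
          fun w => ∏ q, (fun h : H 1 => ((lam 1 h : ℂˣ) : ℂ))
            ⟨w.1.left q, (mem_wrSub (H 1) w.1).1 w.2 q⟩ :=
        funext fun w => wrHom_apply _ _ w
      rw [h1]
      refine (indFun_wrSub (H 1) (fun h : H 1 => ((lam 1 h : ℂˣ) : ℂ)) b.1
        ((mem_base b.1).1 b.2)).trans ?_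
      refine Finset.prod_congr rfl fun q _ => ?_
      rw [hconst q, hlam 1]
    obtain ⟨mm, hmm1, hmm2, -, -⟩ := Cfsg.Agent.Lib.Helper80.Restrict.exists_mult hψc
    have key : ∃ ν : IrrCharacter (A ≀ᵣ Q), mm ν ≠ 0 ∧
        classInner (fun b : base A Q => ν.1 b) θ.1 ≠ 0 := by
      by_contra hno
      push Not at hno
      have h1 : θ.1 = ∑ ν : IrrCharacter (A ≀ᵣ Q),
          (mm ν : ℂ) • (fun b : base A Q => ν.1 b) := by
        funext b
        rw [← hψB b, hmm2 b, Finset.sum_apply]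
        rfl
      have h2 := inner_self_eq_one_of_irr θ.2
      have h3 : classInner (∑ ν : IrrCharacter (A ≀ᵣ Q),
          (mm ν : ℂ) • (fun b : base A Q => ν.1 b)) θ.1 = 1 := by
        rw [← h1]
        exact h2
      rw [classInner_sum_left] at h3
      have h4 : ∀ ν : IrrCharacter (A ≀ᵣ Q),
          classInner ((mm ν : ℂ) • (fun b : base A Q => ν.1 b)) θ.1 = 0 := by
        intro ν
        rw [classInner_smul_left]
        by_cases h0 : mm ν = 0
        · rw [h0]
          simp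
        · rw [hno ν h0, mul_zero]
      rw [Finset.sum_congr rfl fun ν _ => h4 ν, Finset.sum_const_zero] at h3
      exact zero_ne_one h3
    obtain ⟨ν, hν0, hνθ⟩ := key
    have hdvd := (TDBasic.deg_of_constituent (base A Q) θ ν hνθ).1
    have hle : charDegree θ.1 ≤ charDegree ν.1 := Nat.le_of_dvd (charDegree_pos ν) hdvd
    have hdegψ : charDegree ψ = charDegree θ.1 := by
      have h1 : ψ 1 = θ.1 1 := hψB 1
      unfold charDegree
      rw [h1]
    have hψν : ψ = ν.1 := eq_of_constituent_of_degree_le hψc ν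
      (by rw [hmm1 ν]; exact_mod_cast hν0) (by rw [hdegψ]; exact hle)
    have hψirr : IsIrrCharacter (A ≀ᵣ Q) ψ := hψν ▸ ν.2
    have hne : classInner (fun m : base A Q => ψ m) (fun m : base A Q => χ m) ≠ 0 := by
      have h1 : (fun m : base A Q => ψ m) = θ.1 := funext hψB
      rw [h1]
      exact hθ'
    obtain ⟨β, -, hβ⟩ := Cfsg.Agent.Lib.Helper74.IndexP.gallagher_top (base A Q)
      (Cfsg.Agent.Lib.Helper74.IndexP.comm_mem_of_index_prime (base A Q) hp hidx) ψ χ hψirr hχ hne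
    have hβcf : IsClassFunction (A ≀ᵣ Q) (fun g => ((β g : ℂˣ) : ℂ)) := by
      intro g h
      show ((β (h * g * h⁻¹) : ℂˣ) : ℂ) = β g
      rw [map_mul, map_mul, map_inv, mul_comm (β h), mul_assoc, mul_inv_cancel, mul_one]
    obtain ⟨mu, hmu⟩ : ∃ mu : wrSub (Q := Q) (H 1) →* ℂˣ,
        mu = wrHom (H 1) (lam 1) * (β.comp (wrSub (Q := Q) (H 1)).subtype) := ⟨_, rfl⟩
    refine ⟨wrSub (Q := Q) (H 1), mu, ?_⟩
    have h1 := indFun_mul_classFunction (wrSub (Q := Q) (H 1))
      (fun w => ((wrHom (H 1) (lam 1) w : ℂˣ) : ℂ)) (fun g => ((β g : ℂˣ) : ℂ)) hβcf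
    have h2 : (fun k : wrSub (Q := Q) (H 1) => ((mu k : ℂˣ) : ℂ)) =
        fun k => ((wrHom (H 1) (lam 1) k : ℂˣ) : ℂ) * ((β k : ℂˣ) : ℂ) := by
      funext k
      rw [hmu, MonoidHom.mul_apply, Units.val_mul]
      rfl
    rw [h2, h1, ← hψdef, hβ]
    funext g
    rw [Pi.mul_apply, mul_comm]
  · -- the non-invariant case
    push Not at hinv
    obtain ⟨r, q₀, hr⟩ := hinv
    have hres : IsCharacter (base A Q) (fun b : base A Q => χ b) :=
      Cfsg.Agent.Lib.CT.Ops.isCharacter_restrict (base A Q) hχc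
    have hneq : (fun b : base A Q => χ b) ≠ θ.1 := by
      intro heq
      apply hr
      have h1 : (fun q => φ (r * q)) = φ := by
        apply tuple_unique
        intro b
        have hmem : RegularWreathProduct.inl r * (b : A ≀ᵣ Q) * (RegularWreathProduct.inl r)⁻¹ ∈
            base A Q := hBn.conj_mem b b.2 _
        have h2 : χ (RegularWreathProduct.inl r * (b : A ≀ᵣ Q) * (RegularWreathProduct.inl r)⁻¹) =
            ∏ q, (φ q).1 ((RegularWreathProduct.inl r * (b : A ≀ᵣ Q) *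
              (RegularWreathProduct.inl r)⁻¹).left q) :=
          (congrFun heq ⟨_, hmem⟩).trans (hφ ⟨_, hmem⟩)
        have h3 : χ b = ∏ q, (φ q).1 (b.1.left q) := (congrFun heq b).trans (hφ b)
        rw [hχcf] at h2
        calc ∏ q, (φ (r * q)).1 (b.1.left q) = ∏ q, (φ q).1 (b.1.left (r⁻¹ * q)) :=
              Fintype.prod_equiv (Equiv.mulLeft r) _ _ (fun q => by simp)
          _ = ∏ q, (φ q).1 ((RegularWreathProduct.inl r * (b : A ≀ᵣ Q) *
                (RegularWreathProduct.inl r)⁻¹).left q) :=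
              Finset.prod_congr rfl fun q _ => by rw [conj_inl_left]
          _ = χ b := h2.symm
          _ = ∏ q, (φ q).1 (b.1.left q) := h3
      exact congrFun h1 q₀
    obtain ⟨hd1, hd2⟩ := TDBasic.deg_of_constituent (base A Q) θ ⟨χ, hχ⟩ hθ
    rw [hidx] at hd2
    have hdeg : charDegree χ = p * charDegree θ.1 := by
      rcases (Nat.dvd_prime hp).1 hd2 with h | h
      · exfalso
        have h3 : charDegree χ = charDegree θ.1 := by
          have h4 := Nat.div_mul_cancel hd1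
          rw [h, one_mul] at h4
          exact h4.symm
        have h4 : charDegree (fun b : base A Q => χ b) = charDegree χ := rfl
        exact hneq (eq_of_constituent_of_degree_le hres θ hθ (by rw [h4, h3]))
      · have h4 := Nat.div_mul_cancel hd1
        rw [h] at h4
        exact h4.symm
    obtain ⟨Ψ, hΨdef⟩ : ∃ Ψ : A ≀ᵣ Q → ℂ, Ψ = indFun (base A Q) θ.1 := ⟨_, rfl⟩
    have hΨc : IsCharacter (A ≀ᵣ Q) Ψ := by
      rw [hΨdef]
      exact Cfsg.Agent.Lib.CT.IndChar.isCharacter_indFun _ _ (isCharacter_of_irr θ.2)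
    have hΨdeg : charDegree Ψ = p * charDegree θ.1 := by
      have h1 := apply_one_eq_charDegree hΨc
      have h2 : Ψ 1 = ((p * charDegree θ.1 : ℕ) : ℂ) := by
        rw [hΨdef, indFun_one, hidx, apply_one_eq_charDegree (isCharacter_of_irr θ.2)]
        push_cast
        rfl
      rw [h2] at h1
      exact_mod_cast h1.symm
    have hΨχ : classInner Ψ χ ≠ 0 := by
      rw [hΨdef, frobenius_reciprocity (base A Q) θ.1 χ hχcf]
      exact hθ'
    have hΨeq : Ψ = χ := eq_of_constituent_of_degree_le hΨc ⟨χ, hχ⟩ hΨχ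
      (by rw [hΨdeg]; exact hdeg.ge)
    refine ⟨prodSub H, prodHom H lam, ?_⟩
    rw [← hΨeq, hΨdef]
    have h1 : θ.1 = fun w : base A Q => ∏ q, (φ q).1 (w.1.left q) := funext hφ
    have h2 : (fun k : prodSub H => ((prodHom H lam k : ℂˣ) : ℂ)) = fun w : prodSub H =>
        ∏ q, (fun h : H q => ((lam q h : ℂˣ) : ℂ))
          ⟨w.1.left q, ((mem_prodSub H w.1).1 w.2).2 q⟩ :=
      funext fun w => prodHom_apply H lam w
    funext w
    have g1 : indFun (base A Q) θ.1 w =
        if w.right = 1 then ∑ s : Q, ∏ q, (φ q).1 (w.left (s * q)) else 0 := by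
      rw [h1]
      refine (indFun_prodSub (fun _ : Q => (⊤ : Subgroup A))
        (fun q (t : (⊤ : Subgroup A)) => (φ q).1 t) w).trans ?_
      by_cases hw : w.right = 1
      · rw [if_pos hw, if_pos hw]
        refine Finset.sum_congr rfl fun s _ => Finset.prod_congr rfl fun q _ => ?_
        rw [MGroup.indFun_top (fun g h => irr_isClassFunction (φ q) g h)]
      · rw [if_neg hw, if_neg hw]
    have g2 : indFun (prodSub H) (fun k : prodSub H => ((prodHom H lam k : ℂˣ) : ℂ)) w =
        if w.right = 1 then ∑ s : Q, ∏ q, (φ q).1 (w.left (s * q)) else 0 := by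
      rw [h2]
      refine (indFun_prodSub H (fun q (h : H q) => ((lam q h : ℂˣ) : ℂ)) w).trans ?_
      by_cases hw : w.right = 1
      · rw [if_pos hw, if_pos hw]
        refine Finset.sum_congr rfl fun s _ => Finset.prod_congr rfl fun q _ => ?_
        rw [← hlam q]
      · rw [if_neg hw, if_neg hw]
    rw [g1, g2]

end Cfsg.Agent.Lib.Helper3.WrM
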