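import Mathlib
import Cfsg.Prelude.Def_Characters
import Cfsg.Agent.Lib.Helper3.GagChar
import Cfsg.Agent.Lib.CT.Kernel
import Cfsg.Agent.Lib.Helper80.Integrality
import Cfsg.Agent.Lib.Helper80.Core
import Cfsg.Agent.S4573

/-!
# The induction step for Gagola's embedding theorem

Let `χ₀` be a faithful irreducible character of `A` vanishing off the centre of `A`.  Then
`chiFun χ₀` is an irreducible character of `Hs A p` vanishing off its centre (as a character),
and if `N ⊴ G` has index `p` and embeds in `A ⧸ Z(A)`, then `G` embeds in the central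
quotient of `Hs A p ⧸ ker (chiFun χ₀)`.
-/

set_option autoImplicit false

namespace Cfsg.Agent.Lib.Helper3.GagStep

open Cfsg Cfsg.Agent.Lib.Helper3.GagGrp Cfsg.Agent.Lib.Helper3.GagChar
open scoped ComplexConjugate

universe u

theorem exists_deg {A : Type u} [Group A] {χ₀ : A → ℂ} (hirr : IsIrrCharacter A χ₀) :
    ∃ d : ℕ, 0 < d ∧ χ₀ 1 = (d : ℂ) :=
  ⟨charDegree χ₀, Cfsg.Agent.Lib.Helper80.Integrality.charDegree_pos ⟨χ₀, hirr⟩,
    Cfsg.Agent.Lib.Helper80.Integrality.apply_one_eq_charDegree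
      (Cfsg.Agent.Lib.CT.Ops.IsIrrCharacter.isCharacter hirr)⟩

section values

variable {A : Type u} [Group A] [Fintype A] {p : ℕ} [Fact p.Prime] [Fintype (Hs A p)]

theorem chi_one {χ₀ : A → ℂ} (hcl : IsClassFunction A χ₀) :
    chiFun χ₀ (1 : Hs A p) = (p : ℂ) * (χ₀ 1) ^ p := by
  rw [chiFun_apply hcl, if_pos ⟨rfl, rfl⟩]
  simp only [one_c, one_f, AddChar.map_zero_eq_one, mul_one, Finset.prod_const, Finset.card_univ,
    ZMod.card]

theorem chi_one_re {χ₀ : A → ℂ} (hcl : IsClassFunction A χ₀) {d : ℕ} (hd : χ₀ 1 = (d : ℂ)) :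
    (chiFun χ₀ (1 : Hs A p)).re = (p : ℝ) * (d : ℝ) ^ p := by
  rw [chi_one hcl, hd]
  have : ((p : ℂ) * (d : ℂ) ^ p) = (((p : ℝ) * (d : ℝ) ^ p : ℝ) : ℂ) := by push_cast; ring
  rw [this, Complex.ofReal_re]

theorem norm_chi {χ₀ : A → ℂ} (hcl : IsClassFunction A χ₀) (g : Hs A p) (ha : g.a = 0)
    (hb : g.b = 0) : ‖chiFun χ₀ g‖ = (p : ℝ) * ∏ i, ‖χ₀ (g.f i)‖ := by
  haveI : NeZero p := ⟨(Fact.out : p.Prime).ne_zero⟩
  rw [chiFun_apply hcl, if_pos ⟨ha, hb⟩, norm_mul, norm_mul, Complex.norm_natCast,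
    AddChar.norm_apply, mul_one, norm_prod]

/-- The centre of the character `chiFun χ₀`. -/
theorem norm_chi_eq_iff {χ₀ : A → ℂ} (hirr : IsIrrCharacter A χ₀)
    (hFR : ∀ h : A, χ₀ h = 0 ∨ ‖χ₀ h‖ = (χ₀ 1).re) (g : Hs A p) :
    ‖chiFun χ₀ g‖ = (chiFun χ₀ (1 : Hs A p)).re ↔
      g.a = 0 ∧ g.b = 0 ∧ ∀ i, ‖χ₀ (g.f i)‖ = (χ₀ 1).re := by
  have hcl := Cfsg.Agent.Lib.CT.Wedderburn.char_isClassFunction
    (Cfsg.Agent.Lib.CT.Ops.IsIrrCharacter.isCharacter hirr)
  obtain ⟨d, hd0, hd⟩ := exists_deg hirr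
  have hdre : (χ₀ 1).re = (d : ℝ) := by rw [hd, Complex.natCast_re]
  have hp0 : (0 : ℝ) < p := Nat.cast_pos.mpr (Fact.out : p.Prime).pos
  have hdpos : (0 : ℝ) < d := Nat.cast_pos.mpr hd0
  rw [chi_one_re hcl hd, hdre]
  constructor
  · intro h
    by_cases hab : g.a = 0 ∧ g.b = 0
    · refine ⟨hab.1, hab.2, ?_⟩
      rw [norm_chi hcl g hab.1 hab.2] at h
      have h2 : ∏ i, ‖χ₀ (g.f i)‖ = (d : ℝ) ^ p := by
        have := mul_left_cancel₀ hp0.ne' h
        exact this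
      intro i
      rcases hFR (g.f i) with h0 | h1
      · exfalso
        have h3 : ∏ i, ‖χ₀ (g.f i)‖ = 0 :=
          Finset.prod_eq_zero (Finset.mem_univ i) (by rw [h0, norm_zero])
        rw [h3] at h2
        exact (pow_pos hdpos p).ne h2
      · rw [h1, hdre]
    · exfalso
      rw [chiFun_apply hcl, if_neg hab, norm_zero] at h
      have : (0 : ℝ) < (p : ℝ) * (d : ℝ) ^ p := mul_pos hp0 (pow_pos hdpos p)
      linarith
  · rintro ⟨ha, hb, hf⟩
    rw [norm_chi hcl g ha hb]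
    congr 1
    rw [Finset.prod_congr rfl (fun i _ => hf i), Finset.prod_const, Finset.card_univ, ZMod.card]

/-- `chiFun χ₀` vanishes off its centre. -/
theorem chi_fr {χ₀ : A → ℂ} (hirr : IsIrrCharacter A χ₀)
    (hFR : ∀ h : A, χ₀ h = 0 ∨ ‖χ₀ h‖ = (χ₀ 1).re) (g : Hs A p) :
    chiFun χ₀ g = 0 ∨ ‖chiFun χ₀ g‖ = (chiFun χ₀ (1 : Hs A p)).re := by
  have hcl := Cfsg.Agent.Lib.CT.Wedderburn.char_isClassFunction
    (Cfsg.Agent.Lib.CT.Ops.IsIrrCharacter.isCharacter hirr)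
  by_cases hab : g.a = 0 ∧ g.b = 0
  · by_cases hz : ∃ i, χ₀ (g.f i) = 0
    · obtain ⟨i, hi⟩ := hz
      left
      rw [chiFun_apply hcl, if_pos hab, Finset.prod_eq_zero (Finset.mem_univ i) hi, mul_zero]
    · right
      rw [norm_chi_eq_iff hirr hFR]
      refine ⟨hab.1, hab.2, fun i => ?_⟩
      rcases hFR (g.f i) with h0 | h1
      · exact absurd ⟨i, h0⟩ hz
      · exact h1
  · left
    rw [chiFun_apply hcl, if_neg hab]

/-- The kernel of `chiFun χ₀` meets the first coordinate trivially. -/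
theorem chi_single {χ₀ : A → ℂ} (hirr : IsIrrCharacter A χ₀)
    (hfaith : ∀ h : A, χ₀ h = χ₀ 1 → h = 1) (z : A)
    (h : chiFun χ₀ (⟨Pi.mulSingle 0 z, 0, 0, 0⟩ : Hs A p) = chiFun χ₀ (1 : Hs A p)) : z = 1 := by
  classical
  have hcl := Cfsg.Agent.Lib.CT.Wedderburn.char_isClassFunction
    (Cfsg.Agent.Lib.CT.Ops.IsIrrCharacter.isCharacter hirr)
  obtain ⟨d, hd0, hd⟩ := exists_deg hirr
  have hp0 : (p : ℂ) ≠ 0 := Nat.cast_ne_zero.mpr (Fact.out : p.Prime).ne_zero
  have hd1 : χ₀ 1 ≠ 0 := by rw [hd]; exact Nat.cast_ne_zero.mpr hd0.ne'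
  rw [chiFun_apply hcl, chiFun_apply hcl, if_pos ⟨rfl, rfl⟩, if_pos ⟨rfl, rfl⟩] at h
  simp only [one_c, one_f, AddChar.map_zero_eq_one, mul_one] at h
  have h1 := mul_left_cancel₀ hp0 h
  rw [← Finset.mul_prod_erase Finset.univ _ (Finset.mem_univ (0 : ZMod p)),
    ← Finset.mul_prod_erase Finset.univ (fun _ : ZMod p => χ₀ 1) (Finset.mem_univ (0 : ZMod p))]
    at h1
  have h2 : ∏ x ∈ Finset.univ.erase (0 : ZMod p), χ₀ ((Pi.mulSingle 0 z : ZMod p → A) x) =
      ∏ x ∈ Finset.univ.erase (0 : ZMod p), χ₀ 1 := by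
    apply Finset.prod_congr rfl
    intro x hx
    rw [Pi.mulSingle_eq_of_ne (Finset.ne_of_mem_erase hx)]
  rw [h2, Pi.mulSingle_eq_same] at h1
  have h3 : ∏ x ∈ Finset.univ.erase (0 : ZMod p), χ₀ 1 ≠ 0 :=
    Finset.prod_ne_zero_iff.mpr (fun _ _ => hd1)
  exact hfaith z (mul_right_cancel₀ h3 h1)

/-- The kernel of `chiFun χ₀` meets the central coordinate trivially. -/
theorem chi_central {χ₀ : A → ℂ} (hirr : IsIrrCharacter A χ₀) (c : ZMod p)
    (h : chiFun χ₀ (⟨fun _ => 1, 0, 0, c⟩ : Hs A p) = chiFun χ₀ (1 : Hs A p)) : c = 0 := by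
  haveI : NeZero p := ⟨(Fact.out : p.Prime).ne_zero⟩
  have hcl := Cfsg.Agent.Lib.CT.Wedderburn.char_isClassFunction
    (Cfsg.Agent.Lib.CT.Ops.IsIrrCharacter.isCharacter hirr)
  obtain ⟨d, hd0, hd⟩ := exists_deg hirr
  have hp0 : (p : ℂ) ≠ 0 := Nat.cast_ne_zero.mpr (Fact.out : p.Prime).ne_zero
  have hd1 : χ₀ 1 ≠ 0 := by rw [hd]; exact Nat.cast_ne_zero.mpr hd0.ne'
  rw [chiFun_apply hcl, chiFun_apply hcl, if_pos ⟨rfl, rfl⟩, if_pos ⟨rfl, rfl⟩] at h
  simp only [one_c, one_f, AddChar.map_zero_eq_one, mul_one] at h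
  have h3 : ∏ _x : ZMod p, χ₀ 1 ≠ 0 := Finset.prod_ne_zero_iff.mpr (fun _ _ => hd1)
  have h4 : ZMod.stdAddChar (N := p) c = 1 := by
    have h5 : (p : ℂ) * ZMod.stdAddChar (N := p) c * ∏ _x : ZMod p, χ₀ 1 =
        (p : ℂ) * 1 * ∏ _x : ZMod p, χ₀ 1 := by rw [h]; ring
    exact mul_left_cancel₀ hp0 (mul_right_cancel₀ h3 h5)
  have h6 : ZMod.stdAddChar (N := p) c = ZMod.stdAddChar (N := p) 0 := by
    rw [h4, AddChar.map_zero_eq_one]
  exact ZMod.injective_stdAddChar h6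

end values

/-- The centre of a group with a faithful irreducible character is cyclic. -/
theorem center_cyclic {H : Type u} [Group H] [Finite H] {χ : H → ℂ} (hirr : IsIrrCharacter H χ)
    (hfaith : ∀ h : H, χ h = χ 1 → h = 1) : IsCyclic (Subgroup.center H) := by
  have hc := Cfsg.Agent.Lib.CT.Ops.IsIrrCharacter.isCharacter hirr
  obtain ⟨d, hd0, hd⟩ := exists_deg hirr
  have hd1 : χ 1 ≠ 0 := by rw [hd]; exact Nat.cast_ne_zero.mpr hd0.ne'
  have key : ∀ z ∈ Subgroup.center H, ∀ g, χ (z * g) = (χ z / χ 1) * χ g := by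
    intro z hz g
    obtain ⟨ω, h1, _, h3⟩ := Cfsg.Agent.Lib.CT.Kernel.exists_scalar_of_norm_eq hc
      (Cfsg.Agent.Lib.CT.Kernel.norm_eq_of_mem_center hirr hz)
    rw [h1, h3]
    field_simp
  let f : Subgroup.center H →* ℂ :=
    { toFun := fun z => χ (z : H) / χ 1
      map_one' := div_self hd1
      map_mul' := fun z w => by
        show χ ((z : H) * (w : H)) / χ 1 = χ (z : H) / χ 1 * (χ (w : H) / χ 1)
        rw [key z z.2]
        ring }
  apply isCyclic_of_injective_ringHom f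
  intro z w hzw
  have h1 : f (z * w⁻¹) = 1 := by
    rw [map_mul, hzw, ← map_mul, mul_inv_cancel, map_one]
  have h2 : χ ((z * w⁻¹ : Subgroup.center H) : H) = χ 1 := by
    have h3 : χ ((z * w⁻¹ : Subgroup.center H) : H) / χ 1 = 1 := h1
    field_simp at h3
    exact h3
  have h4 := hfaith _ h2
  have h5 : z * w⁻¹ = 1 := Subtype.ext h4
  exact mul_inv_eq_one.1 h5

/-- A faithful irreducible character vanishing off the centre has degree squared equal to the
index of the centre. -/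
theorem index_of_fr {H : Type u} [Group H] [Finite H] {χ : H → ℂ} (hirr : IsIrrCharacter H χ)
    (hfaith : ∀ h : H, χ h = χ 1 → h = 1) (hFR : ∀ h : H, χ h = 0 ∨ ‖χ h‖ = (χ 1).re) :
    charDegree χ ^ 2 = (Subgroup.center H).index := by
  classical
  letI : Fintype H := Fintype.ofFinite H
  have hc := Cfsg.Agent.Lib.CT.Ops.IsIrrCharacter.isCharacter hirr
  have h1 := Cfsg.Agent.Lib.Helper80.Core.sum_normSq_eq_card (⟨χ, hirr⟩ : IrrCharacter H)
  have hd : χ 1 = (charDegree χ : ℂ) :=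
    Cfsg.Agent.Lib.Helper80.Integrality.apply_one_eq_charDegree hc
  have hre : (χ 1).re = (charDegree χ : ℝ) := by rw [hd, Complex.natCast_re]
  have h2 : ∀ g : H, Complex.normSq (χ g) =
      if g ∈ Subgroup.center H then (charDegree χ : ℝ) ^ 2 else 0 := by
    intro g
    by_cases hg : g ∈ Subgroup.center H
    · rw [if_pos hg, Complex.normSq_eq_norm_sq,
        Cfsg.Agent.Lib.CT.Kernel.norm_eq_of_mem_center hirr hg, hre]
    · rw [if_neg hg]
      rcases hFR g with h0 | h1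
      · rw [h0, map_zero]
      · exact absurd ((Cfsg.Agent.Lib.CT.Kernel.norm_eq_iff_mem_center hirr hfaith g).1 h1) hg
  simp only [h2] at h1
  rw [Finset.sum_ite, Finset.sum_const_zero, add_zero, Finset.sum_const, nsmul_eq_mul] at h1
  have h3 : (Finset.univ.filter (fun g : H => g ∈ Subgroup.center H)).card =
      Nat.card (Subgroup.center H) := by
    rw [Nat.card_eq_fintype_card, Fintype.card_subtype]
  rw [h3] at h1
  have h4 : Nat.card (Subgroup.center H) * charDegree χ ^ 2 = Nat.card H := by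
    exact_mod_cast h1
  have h5 := (Subgroup.center H).card_mul_index
  exact Nat.eq_of_mul_eq_mul_left Nat.card_pos (h4.trans h5.symm)

/-- The homomorphism from `Z(A)^p × C_p` to `Hs A p`. -/
def cenHom (A : Type u) [Group A] (p : ℕ) :
    (ZMod p → Subgroup.center A) × Multiplicative (ZMod p) →* Hs A p where
  toFun u := ⟨fun i => (u.1 i : A), 0, 0, Multiplicative.toAdd u.2⟩
  map_one' := rfl
  map_mul' u v := by
    apply Hs.ext
    · funext i
      simp
    · simp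
    · simp
    · simp

theorem cenHom_f {A : Type u} [Group A] {p : ℕ}
    (u : (ZMod p → Subgroup.center A) × Multiplicative (ZMod p)) (i : ZMod p) :
    (cenHom A p u).f i = (u.1 i : A) := rfl

theorem cenHom_a {A : Type u} [Group A] {p : ℕ}
    (u : (ZMod p → Subgroup.center A) × Multiplicative (ZMod p)) : (cenHom A p u).a = 0 := rfl

theorem cenHom_b {A : Type u} [Group A] {p : ℕ}
    (u : (ZMod p → Subgroup.center A) × Multiplicative (ZMod p)) : (cenHom A p u).b = 0 := rfl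

theorem cenHom_c {A : Type u} [Group A] {p : ℕ}
    (u : (ZMod p → Subgroup.center A) × Multiplicative (ZMod p)) :
    (cenHom A p u).c = Multiplicative.toAdd u.2 := rfl

/-- The induction step. -/
theorem step {A : Type u} [Group A] [Finite A] {p : ℕ} [Fact p.Prime] {χ₀ : A → ℂ}
    (hirr : IsIrrCharacter A χ₀) (hfaith : ∀ h : A, χ₀ h = χ₀ 1 → h = 1)
    (hFR : ∀ h : A, χ₀ h = 0 ∨ ‖χ₀ h‖ = (χ₀ 1).re)
    (hsq : Squarefree (Nat.card (Subgroup.center A)))
    {G : Type u} [Group G] [Finite G] (N : Subgroup G) [N.Normal] (hidx : N.index = p)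
    (f₀ : N →* A ⧸ Subgroup.center A) (hf₀ : Function.Injective f₀)
    (hpr : ∀ q : ℕ, q.Prime → ((q ∣ Nat.card A ↔ q ∣ Nat.card N) ∧
      (q ∣ Nat.card (Subgroup.center A) ↔ q ∣ Nat.card N))) :
    ∃ (H : Type u) (_ : Group H) (_ : Finite H) (χ : H → ℂ), IsIrrCharacter H χ ∧
      (∀ h : H, χ h = χ 1 → h = 1) ∧
      (∀ h : H, χ h = 0 ∨ ‖χ h‖ = (χ 1).re) ∧
      (∃ f : G →* H ⧸ Subgroup.center H, Function.Injective f) ∧
      (∀ q : ℕ, q.Prime → ((q ∣ Nat.card H ↔ q ∣ Nat.card G) ∧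
        (q ∣ Nat.card (Subgroup.center H) ↔ q ∣ Nat.card G))) ∧
      Squarefree (Nat.card (Subgroup.center H)) := by
  classical
  letI instFA : Fintype A := Fintype.ofFinite A
  haveI hne : NeZero p := ⟨(Fact.out : p.Prime).ne_zero⟩
  letI instFH : Fintype (Hs A p) := Fintype.ofFinite _
  have hp : p.Prime := Fact.out
  have hirrT : IsIrrCharacter (Hs A p) (chiFun (p := p) χ₀) := isIrrCharacter_chiFun hirr
  have hcT := Cfsg.Agent.Lib.CT.Ops.IsIrrCharacter.isCharacter hirrT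
  obtain ⟨K, hKn, hK⟩ := Cfsg.Agent.Lib.CT.Kernel.exists_normal_ker hcT
  haveI := hKn
  obtain ⟨χ, hχirr, hχ⟩ := Cfsg.Agent.Lib.CT.Kernel.exists_quotient_irr K hirrT
    (fun n hn => (hK n).1 hn)
  have hχ1 : χ 1 = chiFun χ₀ (1 : Hs A p) := by
    have := hχ 1
    rwa [QuotientGroup.mk_one] at this
  have hfaithH : ∀ h : Hs A p ⧸ K, χ h = χ 1 → h = 1 := by
    intro h
    obtain ⟨g, rfl⟩ := QuotientGroup.mk_surjective h
    intro hg
    rw [hχ, hχ1] at hg
    exact (QuotientGroup.eq_one_iff g).2 ((hK g).2 hg)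
  have hFRH : ∀ h : Hs A p ⧸ K, χ h = 0 ∨ ‖χ h‖ = (χ 1).re := by
    intro h
    obtain ⟨g, rfl⟩ := QuotientGroup.mk_surjective h
    rw [hχ, hχ1]
    exact chi_fr hirr hFR g
  have hcen : ∀ g : Hs A p, (g : Hs A p ⧸ K) ∈ Subgroup.center (Hs A p ⧸ K) ↔
      g.a = 0 ∧ g.b = 0 ∧ ∀ i, g.f i ∈ Subgroup.center A := by
    intro g
    rw [← Cfsg.Agent.Lib.CT.Kernel.norm_eq_iff_mem_center hχirr hfaithH, hχ, hχ1,
      norm_chi_eq_iff hirr hFR]
    simp only [Cfsg.Agent.Lib.CT.Kernel.norm_eq_iff_mem_center hirr hfaith]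
  -- the map from `Z(A)^p × C_p` onto the centre
  obtain ⟨ψ, hψdef⟩ : ∃ ψ : (ZMod p → Subgroup.center A) × Multiplicative (ZMod p) →*
      Hs A p ⧸ K, ψ = (QuotientGroup.mk' K).comp (cenHom A p) := ⟨_, rfl⟩
  have hψapp : ∀ u, ψ u = ((cenHom A p u : Hs A p) : Hs A p ⧸ K) := by
    intro u
    rw [hψdef]
    rfl
  have hψmem : ∀ u, ψ u ∈ Subgroup.center (Hs A p ⧸ K) := by
    intro u
    rw [hψapp, hcen]
    exact ⟨rfl, rfl, fun i => (u.1 i).2⟩
  have hψsurj : ∀ z ∈ Subgroup.center (Hs A p ⧸ K), ∃ u, ψ u = z := by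
    intro z hz
    obtain ⟨g, rfl⟩ := QuotientGroup.mk_surjective z
    obtain ⟨ha, hb, hf⟩ := (hcen g).1 hz
    refine ⟨(fun i => ⟨g.f i, hf i⟩, Multiplicative.ofAdd g.c), ?_⟩
    rw [hψapp]
    congr 1
    apply Hs.ext
    · rfl
    · exact ha.symm
    · exact hb.symm
    · rfl
  have hψker1 : ∀ z : Subgroup.center A, ψ (Pi.mulSingle 0 z, 1) = 1 → z = 1 := by
    intro z hz
    rw [hψapp] at hz
    have h1 : cenHom A p (Pi.mulSingle 0 z, 1) ∈ K := (QuotientGroup.eq_one_iff _).1 hz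
    have h2 := (hK _).1 h1
    have h3 : cenHom A p (Pi.mulSingle 0 z, 1) =
        ⟨(Pi.mulSingle 0 (z : A) : ZMod p → A), 0, 0, 0⟩ := by
      apply Hs.ext
      · funext i
        show ((Pi.mulSingle 0 z : ZMod p → Subgroup.center A) i : A) =
          (Pi.mulSingle 0 (z : A) : ZMod p → A) i
        by_cases hi : i = 0
        · subst hi
          rw [Pi.mulSingle_eq_same, Pi.mulSingle_eq_same]
        · rw [Pi.mulSingle_eq_of_ne hi, Pi.mulSingle_eq_of_ne hi]
          rfl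
      · rfl
      · rfl
      · rfl
    rw [h3] at h2
    exact Subtype.ext (chi_single hirr hfaith _ h2)
  have hψker2 : ∀ c : Multiplicative (ZMod p), ψ (1, c) = 1 → c = 1 := by
    intro c hc
    rw [hψapp] at hc
    have h1 : cenHom A p (1, c) ∈ K := (QuotientGroup.eq_one_iff _).1 hc
    have h2 := (hK _).1 h1
    have h3 : cenHom A p (1, c) = ⟨fun _ => 1, 0, 0, Multiplicative.toAdd c⟩ := rfl
    rw [h3] at h2
    have h4 := chi_central hirr _ h2
    exact h4
  have hZ : Nat.card (Multiplicative (ZMod p)) = p := Nat.card_zmod p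
  have hdvdA : Nat.card (Subgroup.center A) ∣ Nat.card (Subgroup.center (Hs A p ⧸ K)) := by
    apply Subgroup.card_dvd_of_injective ((ψ.codRestrict _ hψmem).comp
      ((MonoidHom.inl _ _).comp (MonoidHom.mulSingle (fun _ : ZMod p => Subgroup.center A) 0)))
    rw [injective_iff_map_eq_one]
    intro z hz
    apply hψker1
    exact congrArg Subtype.val hz
  have hdvdp : p ∣ Nat.card (Subgroup.center (Hs A p ⧸ K)) := by
    have h1 : Nat.card (Multiplicative (ZMod p)) ∣ Nat.card (Subgroup.center (Hs A p ⧸ K)) := by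
      apply Subgroup.card_dvd_of_injective ((ψ.codRestrict _ hψmem).comp (MonoidHom.inr _ _))
      rw [injective_iff_map_eq_one]
      intro c hc
      apply hψker2
      exact congrArg Subtype.val hc
    rwa [hZ] at h1
  refine ⟨Hs A p ⧸ K, inferInstance, inferInstance, χ, hχirr, hfaithH, hFRH, ?_, ?_, ?_⟩
  · -- the embedding
    have hQ : Nat.card (G ⧸ N) = p := by
      rw [← hidx]
      exact (Subgroup.index_eq_card N).symm
    obtain ⟨e⟩ : Nonempty (G ⧸ N ≃* Multiplicative (ZMod p)) := ⟨mulEquivOfPrimeCardEq hQ hZ⟩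
    obtain ⟨κ, hκ⟩ : ∃ κ : G → ZMod p, κ = fun g : G => Multiplicative.toAdd (e (g : G ⧸ N)) :=
      ⟨_, rfl⟩
    obtain ⟨nn, hnn⟩ : ∃ nn : G → ZMod p → N, nn = fun (g : G) (i : ZMod p) =>
        (Cfsg.Agent.S4573.kk N g).left (e.symm (Multiplicative.ofAdd i)) := ⟨_, rfl⟩
    obtain ⟨s, hs⟩ : ∃ s : G → Hs A p, s = fun g : G =>
        ⟨fun i => Quotient.out (f₀ (nn g i)), κ g, 0, 0⟩ := ⟨_, rfl⟩
    obtain ⟨π, hπdef⟩ : ∃ π : Hs A p →* (Hs A p ⧸ K) ⧸ Subgroup.center (Hs A p ⧸ K),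
        π = (QuotientGroup.mk' _).comp (QuotientGroup.mk' K) := ⟨_, rfl⟩
    have hπ : ∀ x y : Hs A p, π x = π y ↔
        (x.a = y.a ∧ x.b = y.b ∧ ∀ i, (x.f i)⁻¹ * y.f i ∈ Subgroup.center A) := by
      intro x y
      rw [hπdef]
      show (((x : Hs A p ⧸ K) : (Hs A p ⧸ K) ⧸ Subgroup.center (Hs A p ⧸ K))) =
        ((y : Hs A p ⧸ K) : (Hs A p ⧸ K) ⧸ Subgroup.center (Hs A p ⧸ K)) ↔ _
      rw [QuotientGroup.eq, ← QuotientGroup.mk_inv, ← QuotientGroup.mk_mul, hcen]
      simp only [mul_a, inv_a, mul_b, inv_b, mul_f, inv_f, sub_neg_eq_add]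
      constructor
      · rintro ⟨h1, h2, h3⟩
        refine ⟨(neg_add_eq_zero.1 h1), (neg_add_eq_zero.1 h2), fun i => ?_⟩
        have := h3 (i - x.a)
        rwa [sub_add_cancel] at this
      · rintro ⟨h1, h2, h3⟩
        exact ⟨neg_add_eq_zero.2 h1, neg_add_eq_zero.2 h2, fun i => h3 _⟩
    have hκmul : ∀ g₁ g₂ : G, κ (g₁ * g₂) = κ g₁ + κ g₂ := by
      intro g₁ g₂
      rw [hκ]
      show Multiplicative.toAdd (e ((g₁ * g₂ : G) : G ⧸ N)) = _
      rw [QuotientGroup.mk_mul, map_mul, toAdd_mul]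
    have hnnmul : ∀ (g₁ g₂ : G) (i : ZMod p),
        nn (g₁ * g₂) i = nn g₁ i * nn g₂ (i - κ g₁) := by
      intro g₁ g₂ i
      rw [hnn, hκ]
      simp only
      rw [map_mul, RegularWreathProduct.mul_left, Pi.mul_apply]
      congr 2
      apply e.injective
      have h1 : (Cfsg.Agent.S4573.kk N g₁).right = (g₁ : G ⧸ N) := rfl
      rw [h1, map_mul, map_inv, MulEquiv.apply_symm_apply, MulEquiv.apply_symm_apply,
        sub_eq_add_neg, ofAdd_add, ofAdd_neg, ofAdd_toAdd, mul_comm]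
    have hs_mul : ∀ g₁ g₂ : G, π (s (g₁ * g₂)) = π (s g₁) * π (s g₂) := by
      intro g₁ g₂
      rw [← map_mul, hπ]
      rw [hs]
      refine ⟨?_, ?_, ?_⟩
      · show κ (g₁ * g₂) = κ g₁ + κ g₂
        exact hκmul g₁ g₂
      · show (0 : ZMod p) = 0 + 0
        rw [add_zero]
      · intro i
        show (Quotient.out (f₀ (nn (g₁ * g₂) i)))⁻¹ *
          (Quotient.out (f₀ (nn g₁ i)) * Quotient.out (f₀ (nn g₂ (i - κ g₁)))) ∈
            Subgroup.center A
        rw [← QuotientGroup.eq, QuotientGroup.mk_mul, QuotientGroup.out_eq',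
          QuotientGroup.out_eq', QuotientGroup.out_eq', ← map_mul, hnnmul]
    refine ⟨MonoidHom.mk' (fun g => π (s g)) hs_mul, ?_⟩
    rw [injective_iff_map_eq_one]
    intro g hg
    have hg1 : π (s g) = π 1 := by
      rw [map_one]
      exact hg
    rw [hπ] at hg1
    obtain ⟨h1, -, h3⟩ := hg1
    have hgN : (g : G ⧸ N) = 1 := by
      have h4 : κ g = 0 := by
        rw [hs] at h1
        exact h1
      rw [hκ] at h4
      have h5 : e (g : G ⧸ N) = 1 := h4
      exact e.injective (by rw [h5, map_one])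
    have hn1 : ∀ i, nn g i = 1 := by
      intro i
      have h4 := h3 i
      rw [hs] at h4
      have h5 : (Quotient.out (f₀ (nn g i)))⁻¹ * 1 ∈ Subgroup.center A := h4
      rw [mul_one, inv_mem_iff] at h5
      have h6 : f₀ (nn g i) = 1 := by
        rw [← QuotientGroup.out_eq' (f₀ (nn g i))]
        exact (QuotientGroup.eq_one_iff _).2 h5
      exact hf₀ (by rw [h6, map_one])
    apply Cfsg.Agent.S4573.kk_injective N
    rw [map_one]
    apply RegularWreathProduct.ext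
    · funext q
      have h4 := hn1 (Multiplicative.toAdd (e q))
      rw [hnn] at h4
      simp only [ofAdd_toAdd, MulEquiv.symm_apply_apply] at h4
      exact h4
    · exact hgN
  · -- the primes
    intro q hq
    have hG : Nat.card G = Nat.card N * p := by
      rw [← hidx]
      exact (Subgroup.card_mul_index N).symm
    have hHdvd : Nat.card (Hs A p ⧸ K) ∣ Nat.card A ^ p * p ^ 3 := by
      rw [← card_eq]
      exact Subgroup.card_quotient_dvd_card K
    have k1 : q ∣ Nat.card (Hs A p ⧸ K) → q ∣ Nat.card G := by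
      intro h
      rw [hG]
      rcases (hq.dvd_mul).1 (dvd_trans h hHdvd) with h1 | h1
      · exact dvd_mul_of_dvd_left ((hpr q hq).1.1 (hq.dvd_of_dvd_pow h1)) _
      · exact dvd_mul_of_dvd_right (hq.dvd_of_dvd_pow h1) _
    have k2 : q ∣ Nat.card G → q ∣ Nat.card (Subgroup.center (Hs A p ⧸ K)) := by
      intro h
      rw [hG] at h
      rcases (hq.dvd_mul).1 h with h1 | h1
      · exact dvd_trans ((hpr q hq).2.2 h1) hdvdA
      · exact dvd_trans h1 hdvdp
    have k3 : q ∣ Nat.card (Subgroup.center (Hs A p ⧸ K)) → q ∣ Nat.card (Hs A p ⧸ K) :=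
      fun h => dvd_trans h (Subgroup.card_subgroup_dvd_card _)
    exact ⟨⟨k1, fun h => k3 (k2 h)⟩, ⟨fun h => k1 (k3 h), k2⟩⟩
  · -- squarefree
    haveI hcyc : IsCyclic (Subgroup.center (Hs A p ⧸ K)) := center_cyclic hχirr hfaithH
    have hexp : ∀ z : Subgroup.center (Hs A p ⧸ K),
        z ^ (Nat.lcm (Nat.card (Subgroup.center A)) p) = 1 := by
      intro z
      obtain ⟨u, hu⟩ := hψsurj z.1 z.2
      apply Subtype.ext
      rw [Subgroup.coe_pow, ← hu, ← map_pow]
      have h1 : u ^ (Nat.lcm (Nat.card (Subgroup.center A)) p) = 1 := by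
        apply Prod.ext
        · funext i
          show (u.1 i) ^ (Nat.lcm (Nat.card (Subgroup.center A)) p) = 1
          exact orderOf_dvd_iff_pow_eq_one.1
            ((orderOf_dvd_natCard _).trans (Nat.dvd_lcm_left _ _))
        · show u.2 ^ (Nat.lcm (Nat.card (Subgroup.center A)) p) = 1
          refine orderOf_dvd_iff_pow_eq_one.1 ((orderOf_dvd_natCard _).trans ?_)
          rw [hZ]
          exact Nat.dvd_lcm_right _ _
      rw [h1, map_one]
      rfl
    have hcard_dvd : Nat.card (Subgroup.center (Hs A p ⧸ K)) ∣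
        Nat.lcm (Nat.card (Subgroup.center A)) p := by
      rw [← IsCyclic.exponent_eq_card]
      exact Monoid.exponent_dvd_of_forall_pow_eq_one hexp
    have hm : Squarefree (Nat.lcm (Nat.card (Subgroup.center A)) p) := by
      by_cases hpd : p ∣ Nat.card (Subgroup.center A)
      · rw [Nat.lcm_eq_left hpd]
        exact hsq
      · have hcop : Nat.Coprime (Nat.card (Subgroup.center A)) p :=
          ((Nat.Prime.coprime_iff_not_dvd hp).2 hpd).symm
        rw [hcop.lcm_eq_mul, Nat.squarefree_mul_iff]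
        exact ⟨hcop, hsq, hp.prime.squarefree⟩
    exact hm.squarefree_of_dvd hcard_dvd

end Cfsg.Agent.Lib.Helper3.GagStep
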