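import Mathlib
import Cfsg.Agent.Lib.Helper92.M11Stmt
import Cfsg.Agent.Lib.Helper3.Spectral

/-!
# Piece M4 of S0434/S0435: multiplicities on `⟨y⟩` of a character vanishing on `y ^ k * s`

For a character `χ`, an element `y` of order `3` and a subgroup `T` centralizing `y` with
`χ (y ^ k * s) = 0` for `s ∈ T \ {1}`, the three operators
`(1 / (3 |T|)) ∑_k ∑_s ζ ^ (-k) ρ (y ^ k * s)` (`ζ ^ 3 = 1`) are idempotents; their traces are
natural numbers `n0, n1, n2`.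
-/

set_option autoImplicit false

namespace Cfsg.Agent.Lib.Helper3.M11M4

open Cfsg Polynomial

universe u

/-- A primitive cube root of unity. -/
theorem exists_omega : ∃ ω : ℂ, ω ^ 2 + ω + 1 = 0 := by
  have h3 : Real.sqrt 3 * Real.sqrt 3 = 3 := Real.mul_self_sqrt (by norm_num)
  refine ⟨⟨-1 / 2, Real.sqrt 3 / 2⟩, ?_⟩
  apply Complex.ext
  · simp [pow_two]
    nlinarith
  · simp [pow_two]
    ring

/-- The idempotent of `⟨Y⟩`, `Y ^ 3 = 1`, attached to a cube root of unity. -/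
theorem idem_Q {A : Type*} [Ring A] [Algebra ℂ A] (Y : A) (hY : Y ^ 3 = 1) (ζ : ℂ)
    (hζ : ζ ^ 3 = 1) :
    ((1 / 3 : ℂ) • (1 + ζ ^ 2 • Y + ζ • Y ^ 2)) * ((1 / 3 : ℂ) • (1 + ζ ^ 2 • Y + ζ • Y ^ 2))
      = (1 / 3 : ℂ) • (1 + ζ ^ 2 • Y + ζ • Y ^ 2) := by
  have e : (1 / 3 : ℂ) • (1 + ζ ^ 2 • Y + ζ • Y ^ 2)
      = aeval Y (C (1 / 3 : ℂ) * (1 + C ζ ^ 2 * X + C ζ * X ^ 2)) := by
    simp [Algebra.smul_def]
  rw [e, ← map_mul]
  have hC : (C ζ : ℂ[X]) ^ 3 = 1 := by rw [← C_pow, hζ, C_1]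
  have h3 : (C (1 / 3 : ℂ) : ℂ[X]) * 3 = 1 := by
    have h : (3 : ℂ[X]) = C (3 : ℂ) := (map_ofNat C 3).symm
    rw [h, ← C_mul]
    norm_num
  have key : (C (1 / 3 : ℂ) * (1 + C ζ ^ 2 * X + C ζ * X ^ 2))
        * (C (1 / 3 : ℂ) * (1 + C ζ ^ 2 * X + C ζ * X ^ 2))
      = C (1 / 3 : ℂ) * (1 + C ζ ^ 2 * X + C ζ * X ^ 2)
        + (X ^ 3 - 1) * (C (1 / 3 : ℂ) ^ 2 * (C ζ ^ 2 * X + 2)) := by
    linear_combination (C (1 / 3 : ℂ) ^ 2 * (C ζ * X ^ 2 + 2 * X ^ 3)) * hC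
      + (C (1 / 3 : ℂ) * (1 + C ζ ^ 2 * X + C ζ * X ^ 2)) * h3
  rw [key, map_add, map_mul (aeval Y) (X ^ 3 - 1)]
  simp [hY]

/-- The multiplicity attached to a cube root of unity `ζ` is a natural number. -/
theorem key {G : Type u} [Group G] [Finite G] {n : ℕ} (ρ : Representation ℂ G (Fin n → ℂ))
    (y : G) (T : Subgroup G) (hy : y ^ 3 = 1) (hT : ∀ s ∈ T, Commute s y)
    (hvan : ∀ s ∈ T, s ≠ 1 → ∀ k : ℕ, ρ.character (y ^ k * s) = 0) (ζ : ℂ) (hζ : ζ ^ 3 = 1) :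
    ∃ m : ℕ, ρ.character 1 + ζ ^ 2 * ρ.character y + ζ * ρ.character (y ^ 2)
      = 3 * (Nat.card T : ℂ) * m := by
  classical
  haveI : Fintype T := Fintype.ofFinite T
  obtain ⟨Y, hYdef⟩ : ∃ Y : Module.End ℂ (Fin n → ℂ), Y = ρ y := ⟨_, rfl⟩
  have hY3 : Y ^ 3 = 1 := by rw [hYdef, ← map_pow, hy, map_one]
  obtain ⟨S, hSdef⟩ : ∃ S : Module.End ℂ (Fin n → ℂ), S = ∑ s : T, ρ (s : G) := ⟨_, rfl⟩
  have hc0 : (Nat.card T : ℂ) ≠ 0 := by exact_mod_cast (Nat.card_pos (α := T)).ne'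
  have hSS : S * S = (Nat.card T : ℂ) • S := by
    have h1 : ∀ s : T, ρ (s : G) * S = S := by
      intro s
      rw [hSdef, Finset.mul_sum]
      simp_rw [← map_mul]
      exact Fintype.sum_equiv (Equiv.mulLeft s) _ _ (fun s' => by simp)
    conv_lhs => rw [hSdef, Finset.sum_mul]
    rw [← hSdef]
    simp_rw [h1]
    rw [Finset.sum_const, Finset.card_univ, ← Nat.card_eq_fintype_card, Nat.cast_smul_eq_nsmul]
  have hSY : Commute S Y := by
    unfold Commute SemiconjBy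
    rw [hSdef, Finset.sum_mul, Finset.mul_sum]
    refine Finset.sum_congr rfl fun s _ => ?_
    rw [hYdef, ← map_mul, ← map_mul, (hT s s.2).eq]
  obtain ⟨Q, hQdef⟩ : ∃ Q : Module.End ℂ (Fin n → ℂ),
      Q = (1 / 3 : ℂ) • (1 + ζ ^ 2 • Y + ζ • Y ^ 2) := ⟨_, rfl⟩
  have hQQ : Q * Q = Q := by rw [hQdef]; exact idem_Q Y hY3 ζ hζ
  have hSQ : Commute S Q := by
    rw [hQdef]
    apply Commute.smul_right
    apply Commute.add_right
    · apply Commute.add_right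
      · exact Commute.one_right S
      · exact Commute.smul_right hSY _
    · exact Commute.smul_right (hSY.pow_right 2) _
  obtain ⟨P, hPdef⟩ : ∃ P : Module.End ℂ (Fin n → ℂ),
      P = (Nat.card T : ℂ)⁻¹ • (Q * S) := ⟨_, rfl⟩
  have hPP : IsIdempotentElem P := by
    unfold IsIdempotentElem
    have h1 : (Q * S) * (Q * S) = (Nat.card T : ℂ) • (Q * S) := by
      calc (Q * S) * (Q * S) = Q * (S * Q) * S := by simp only [mul_assoc]
        _ = Q * (Q * S) * S := by rw [hSQ.eq]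
        _ = (Q * Q) * (S * S) := by simp only [mul_assoc]
        _ = (Nat.card T : ℂ) • (Q * S) := by rw [hQQ, hSS, mul_smul_comm]
    rw [hPdef, smul_mul_smul_comm, h1, smul_smul]
    congr 1
    field_simp
  have htr := (LinearMap.IsIdempotentElem.isProj_range P hPP).trace
  have htrYS : ∀ k : ℕ, LinearMap.trace ℂ _ (Y ^ k * S) = ρ.character (y ^ k) := by
    intro k
    rw [hSdef, Finset.mul_sum, map_sum]
    rw [Finset.sum_eq_single (1 : T)]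
    · rw [hYdef, ← map_pow, ← map_mul]
      simp only [OneMemClass.coe_one, mul_one]
      rfl
    · intro s _ hs
      have h1 : (s : G) ≠ 1 := fun h => hs (Subtype.ext h)
      have h2 := hvan s s.2 h1 k
      rw [hYdef, ← map_pow, ← map_mul]
      exact h2
    · intro h
      exact absurd (Finset.mem_univ _) h
  have hQS : Q * S = (1 / 3 : ℂ) • (Y ^ 0 * S + ζ ^ 2 • (Y ^ 1 * S) + ζ • (Y ^ 2 * S)) := by
    rw [hQdef]
    simp only [smul_mul_assoc, add_mul, one_mul, pow_zero, pow_one]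
  have htrP : LinearMap.trace ℂ _ P = (Nat.card T : ℂ)⁻¹ * ((1 / 3 : ℂ) *
      (ρ.character 1 + ζ ^ 2 * ρ.character y + ζ * ρ.character (y ^ 2))) := by
    have t0 := htrYS 0
    have t1 := htrYS 1
    have t2 := htrYS 2
    simp only [pow_zero, pow_one] at t0 t1
    rw [hPdef, hQS]
    simp only [map_smul, map_add, smul_eq_mul, pow_zero, pow_one, t0, t1, t2]
  refine ⟨Module.finrank ℂ (LinearMap.range P), ?_⟩
  rw [htr] at htrP
  rw [htrP]
  field_simp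

theorem main : Cfsg.Agent.Lib.Helper92.M11Stmt.Mult4.{u} := by
  intro G _ _ χ hχ y T hy hT hvan
  obtain ⟨n, ρ, hρ⟩ := hχ
  subst hρ
  have hy3 : y ^ 3 = 1 := by rw [← hy]; exact pow_orderOf_eq_one y
  obtain ⟨ω, hω⟩ := exists_omega
  have hω3 : ω ^ 3 = 1 := by linear_combination (ω - 1) * hω
  obtain ⟨n0, e0⟩ := key ρ y T hy3 hT hvan 1 (by norm_num)
  obtain ⟨n1, e1⟩ := key ρ y T hy3 hT hvan ω hω3
  obtain ⟨n2, e2⟩ := key ρ y T hy3 hT hvan (ω ^ 2)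
    (by rw [← pow_mul, mul_comm, pow_mul, hω3, one_pow])
  have hconj : (starRingEnd ℂ) ω = ω ^ 2 := by
    rw [← Cfsg.Agent.Lib.Helper3.Spectral.inv_eq_conj_of_pow_eq_one (by norm_num : 0 < 3) hω3]
    apply inv_eq_of_mul_eq_one_right
    linear_combination hω3
  have h1 : ρ.character 1 = (Nat.card T : ℂ) * ((n0 : ℂ) + n1 + n2) := by
    linear_combination (1 / 3 : ℂ) * (e0 + e1 + e2)
      - (1 / 3 : ℂ) * ((ω ^ 2 - ω + 1) * ρ.character y + ρ.character (y ^ 2)) * hω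
  have hχy : ρ.character y = (Nat.card T : ℂ) * ((n0 : ℂ) + ω * n1 + ω ^ 2 * n2) := by
    linear_combination (1 / 3 : ℂ) * (e0 + ω * e1 + ω ^ 2 * e2)
      - (1 / 3 : ℂ) * (ρ.character 1 + ρ.character y * ((ω - 1) + (ω - 1) * (ω ^ 3 + 1))
        + ρ.character (y ^ 2) * (ω ^ 2 - ω + 1)) * hω
  refine ⟨n0, n1, n2, h1, ?_⟩
  have hN : ((Complex.normSq (ρ.character y) : ℝ) : ℂ) = (((Nat.card T : ℝ) ^ 2 *
      ((n0 : ℝ) ^ 2 + (n1 : ℝ) ^ 2 + (n2 : ℝ) ^ 2 - n0 * n1 - n1 * n2 - n0 * n2) : ℝ) : ℂ) := by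
    rw [← Complex.mul_conj, hχy]
    simp only [map_mul, map_add, Complex.conj_natCast, hconj, map_pow]
    push_cast
    linear_combination ((Nat.card T : ℂ) ^ 2 * ((n1 : ℂ) ^ 2 * (ω - 1)
      + (n2 : ℂ) ^ 2 * (ω - 1) * (ω ^ 3 + 1) + n0 * n1 + n0 * n2 * (ω ^ 2 - ω + 1)
      + n1 * n2 * (ω ^ 3 - ω + 1))) * hω
  exact Complex.ofReal_injective hN

end Cfsg.Agent.Lib.Helper3.M11M4
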