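-- S5006 (M24 has one 2-block): core definitions shared by all pieces.
-- Explicit class representatives, the abstract labelling `lab`, and the kernel evaluator `labE`.
import Cfsg.Agent.Lib.Helper86.TabGrp
import Cfsg.Agent.Lib.Helper35.PermTab

set_option autoImplicit false

namespace Cfsg.Agent.Lib.Helper3.M24Blk

open Cfsg Cfsg.Agent.Lib.Helper7.GolayBase Cfsg.Agent.Lib.Helper7.GolayCode
  Cfsg.Agent.Lib.Helper7.GolayPerm Cfsg.Agent.Lib.Helper86.TabGrp
  Cfsg.Agent.Lib.Helper35.PermTab

/-- The group. -/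
abbrev G24 : Type := ↥Cfsg.M24

/-! ### Elements of `M24` from tables -/

/-- The element of `M24` with table `t` (inverse table `t'`). -/
def mkG (t t' : List Nat) (h1 : invOK t t' = true) (h2 : inM24T t' = true) : G24 :=
  ⟨Cfsg.Agent.Lib.Helper86.TabGrp.ofT t t' h1,
    mem_M24_of_table (Cfsg.Agent.Lib.Helper86.TabGrp.rep_ofT t t' h1)
      (fun i hi => ((invOK_spec h1).2.2 i hi).2.1) h2⟩

theorem rep_mkG (t t' : List Nat) (h1 : invOK t t' = true) (h2 : inM24T t' = true) :
    Rep ((mkG t t' h1 h2 : G24) : Equiv.Perm GolayPt) t :=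
  Cfsg.Agent.Lib.Helper86.TabGrp.rep_ofT t t' h1

theorem tab_mkG (t t' : List Nat) (h1 : invOK t t' = true) (h2 : inM24T t' = true) :
    tab ((mkG t t' h1 h2 : G24) : Equiv.Perm GolayPt) = t :=
  (eq_tab_of_rep (rep_mkG t t' h1 h2)).symm

/-! ### Tables of the class representatives and of elements conjugating them to their squares -/

def r11T : List Nat := [0, 2, 4, 6, 8, 10, 12, 14, 16, 18, 20, 22, 1, 3, 5, 7, 9, 11, 13, 15, 17, 19, 21, 23]
def r11T' : List Nat := [0, 12, 1, 13, 2, 14, 3, 15, 4, 16, 5, 17, 6, 18, 7, 19, 8, 20, 9, 21, 10, 22, 11, 23]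
def r15T : List Nat := [6, 20, 13, 16, 12, 4, 21, 7, 19, 3, 11, 17, 15, 23, 2, 0, 9, 18, 22, 1, 14, 8, 10, 5]
def r15T' : List Nat := [15, 19, 14, 9, 5, 23, 0, 7, 21, 16, 22, 10, 4, 2, 20, 12, 3, 11, 17, 8, 1, 6, 18, 13]
def r21T : List Nat := [1, 14, 4, 5, 11, 7, 13, 12, 16, 23, 0, 6, 22, 8, 20, 10, 15, 3, 9, 2, 21, 17, 19, 18]
def r21T' : List Nat := [10, 0, 19, 17, 2, 3, 11, 5, 13, 18, 15, 4, 7, 6, 1, 16, 8, 21, 23, 22, 14, 20, 12, 9]
def r23T : List Nat := [1, 2, 3, 4, 5, 6, 7, 8, 9, 10, 11, 12, 13, 14, 15, 16, 17, 18, 19, 20, 21, 22, 0, 23]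
def r23T' : List Nat := [22, 0, 1, 2, 3, 4, 5, 6, 7, 8, 9, 10, 11, 12, 13, 14, 15, 16, 17, 18, 19, 20, 21, 23]
def n11T : List Nat := [23, 10, 17, 21, 22, 2, 15, 3, 19, 5, 8, 6, 14, 11, 12, 18, 7, 13, 20, 16, 9, 4, 1, 0]
def n11T' : List Nat := [23, 22, 5, 7, 21, 9, 11, 16, 10, 20, 1, 13, 14, 17, 12, 6, 19, 2, 15, 8, 18, 3, 4, 0]
def n15T : List Nat := [23, 1, 5, 9, 19, 21, 4, 7, 6, 3, 17, 22, 20, 12, 13, 2, 16, 11, 18, 8, 14, 15, 10, 0]
def n15T' : List Nat := [23, 1, 15, 9, 6, 2, 8, 7, 19, 3, 22, 17, 13, 14, 20, 21, 16, 10, 18, 4, 12, 5, 11, 0]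
def n21T : List Nat := [14, 21, 17, 11, 5, 13, 19, 16, 6, 23, 0, 12, 10, 4, 3, 15, 8, 2, 18, 20, 7, 22, 1, 9]
def n21T' : List Nat := [10, 22, 17, 14, 13, 4, 8, 20, 16, 23, 12, 3, 11, 5, 0, 15, 7, 2, 18, 6, 19, 1, 21, 9]

/-- Order 11: `x ↦ 2x`. -/
def r11 : G24 := mkG r11T r11T' (by decide +kernel) (by decide +kernel)
/-- Order 15. -/
def r15 : G24 := mkG r15T r15T' (by decide +kernel) (by decide +kernel)
/-- Order 21. -/
def r21 : G24 := mkG r21T r21T' (by decide +kernel) (by decide +kernel)
/-- Order 23: `x ↦ x + 1`. -/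
def r23 : G24 := mkG r23T r23T' (by decide +kernel) (by decide +kernel)
/-- `n11 * r11 * n11⁻¹ = r11 ^ 2`. -/
def n11 : G24 := mkG n11T n11T' (by decide +kernel) (by decide +kernel)
/-- `n15 * r15 * n15⁻¹ = r15 ^ 2`. -/
def n15 : G24 := mkG n15T n15T' (by decide +kernel) (by decide +kernel)
/-- `n21 * r21 * n21⁻¹ = r21 ^ 2`. -/
def n21 : G24 := mkG n21T n21T' (by decide +kernel) (by decide +kernel)
/-- `n23 * r23 * n23⁻¹ = r23 ^ 2` (`n23 = r11`). -/
def n23 : G24 := r11

/-- The seven class representatives. -/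
def rEl : Fin 7 → G24 := ![r11, r15, r15⁻¹, r21, r21⁻¹, r23, r23⁻¹]

/-- Square roots of the representatives: `sEl i * sEl i = rEl i`. -/
def sEl : Fin 7 → G24 := ![r11 ^ 6, r15 ^ 8, (r15⁻¹) ^ 8, r21 ^ 11, (r21⁻¹) ^ 11, r23 ^ 12, (r23⁻¹) ^ 12]

/-! ### The abstract labelling -/

/-- Offsets of an octad inside the long cycle. -/
def S15f : Finset ℕ := {0, 1, 2, 3, 7, 10, 11, 13}
def S21f : Finset ℕ := {0, 1, 2, 3, 4, 7, 11, 19}
def S23f : Finset ℕ := {0, 1, 2, 3, 4, 7, 10, 12}

/-- Some point `p` has `{g ^ k p : k ∈ S}` a code word support. -/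
def QA (S : Finset ℕ) (g : Equiv.Perm GolayPt) : Prop :=
  ∃ p : GolayPt, S.image (fun k => (g ^ k) p) ∈ supports (golayCode : Set (GolayPt → ZMod 2))

open Classical in
/-- The label of a permutation: order 11 / 15 / 21 / 23 and the octad test. -/
noncomputable def labP (g : Equiv.Perm GolayPt) : Option (Fin 7) :=
  if orderOf g = 11 then some 0
  else if orderOf g = 15 then (if QA S15f g then some 1 else some 2)
  else if orderOf g = 21 then (if QA S21f g then some 3 else some 4)
  else if orderOf g = 23 then (if QA S23f g then some 5 else some 6)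
  else none

/-- The label of an element of `M24`. -/
noncomputable def lab (g : G24) : Option (Fin 7) := labP (g : Equiv.Perm GolayPt)

/-! ### Packed tables and the kernel evaluator -/

/-- Packing a table, five bits per entry. -/
def pk (l : List Nat) : Nat := l.foldr (fun x acc => x + 32 * acc) 0

/-- The packed table of a permutation. -/
def pkP (g : Equiv.Perm GolayPt) : Nat := pk (tab g)

/-- An entry of a packed table. -/
def dg (P i : Nat) : Nat := Nat.land (Nat.shiftRight P (Nat.mul 5 i)) 31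

/-- An entry of the product of two packed tables: `(u * s) x = u (s x)`. -/
def stp (U S x : Nat) : Nat := dg U (dg S x)

/-- Length of the orbit of `x0` (first return time), `0` if the fuel runs out. -/
def olen (U S x0 : Nat) (fuel : Nat) : Nat → Nat → Nat :=
  Nat.rec (motive := fun _ => Nat → Nat → Nat) (fun _ _ => 0)
    (fun _ ih x c => cond (Nat.beq (stp U S x) x0) (Nat.succ c) (ih (stp U S x) (Nat.succ c))) fuel

/-- The orbit `[x, g x, …]` up to the first return to `x0`; ends with `99` if the fuel runs out. -/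
def orb (U S x0 : Nat) (fuel : Nat) : Nat → List Nat :=
  Nat.rec (motive := fun _ => Nat → List Nat) (fun _ => [99])
    (fun _ ih x => cond (Nat.beq (stp U S x) x0) [x] (x :: ih (stp U S x))) fuel

/-- Adding the points of a list to a bit mask. -/
def mskL (l : List Nat) : Nat → Nat :=
  List.rec (motive := fun _ => Nat → Nat) (fun m => m)
    (fun x _ ih m => ih (Nat.lor m (Nat.shiftLeft 1 x))) l

/-- Length of a list of points; `0` if some entry is not `< 24`. -/
def lenV (l : List Nat) : Nat → Nat :=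
  List.rec (motive := fun _ => Nat → Nat) (fun c => c)
    (fun x _ ih c => cond (Nat.blt x 24) (ih (Nat.succ c)) 0) l

/-- A point outside the mask (heuristic; nothing is proved about it). -/
def lowz (m : Nat) : Nat := Nat.log2 (Nat.xor m (Nat.succ m))

/-- Evaluate a number before passing it on (kernel efficiency only). -/
def frc {α : Type} (n : Nat) (k : Nat → α) : α :=
  match n with
  | 0 => k 0
  | Nat.succ m => k (Nat.succ m)

theorem frc_eq {α : Type} (n : Nat) (k : Nat → α) : frc n k = k n := by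
  cases n <;> rfl

/-- One step of `cycs`: record the orbit `O` and continue with the enlarged mask. -/
def cycB (ih : Nat → List (List Nat)) (m : Nat) (O : List Nat) : List (List Nat) :=
  O :: frc (mskL O m) ih

/-- One step of `cycs`: the orbit of the point `x0`. -/
def cycA (U S : Nat) (ih : Nat → List (List Nat)) (m x0 : Nat) : List (List Nat) :=
  cycB ih m (orb U S x0 24 x0)

/-- The orbits, starting from the mask `m` of points already covered; `[[99]]` at the end if the
fuel runs out before the mask is full. -/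
def cycs (U S : Nat) (fuel : Nat) : Nat → List (List Nat) :=
  Nat.rec (motive := fun _ => Nat → List (List Nat)) (fun _ => [[99]])
    (fun _ ih m => cond (Nat.beq m 16777215) [] (cycA U S ih m (lowz m))) fuel

/-- The lcm of the orbit lengths (`0` if an orbit is invalid). -/
def lcmC (cs : List (List Nat)) : Nat → Nat :=
  List.rec (motive := fun _ => Nat → Nat) (fun c => c)
    (fun O _ ih c => ih (Nat.lcm c (lenV O 0))) cs

def S15 : List Nat := [0, 1, 2, 3, 7, 10, 11, 13]
def S21 : List Nat := [0, 1, 2, 3, 4, 7, 11, 19]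
def S23 : List Nat := [0, 1, 2, 3, 4, 7, 10, 12]

/-- The mask of the points of `O` at the positions `S`. -/
def selMask (O S : List Nat) : Nat := mskL (S.map (fun k => O.getD k 99)) 0

/-- The octad test on the unique orbit of length `≥ 8`: `b` yes, `b + 1` no, `9` failure. -/
def qaE (cs : List (List Nat)) (S : List Nat) (b : Nat) : Nat :=
  match cs.filter (fun O => Nat.ble 8 (lenV O 0)) with
  | [O] => cond (inCode (selMask O S)) b (Nat.succ b)
  | _ => 9

/-- Label from the orbits `cs` and the lcm `n` of their lengths: `0..6` labels, `7` none,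
`9` failure. -/
def labG (cs : List (List Nat)) (n : Nat) : Nat :=
  cond (Nat.beq n 11) 0
  (cond (Nat.beq n 15) (qaE cs S15 1)
  (cond (Nat.beq n 21) (qaE cs S21 3)
  (cond (Nat.beq n 23) (qaE cs S23 5)
  (cond (Nat.beq n 0) 9 7))))

/-- Label from the full cycle decomposition. -/
def labFull (U S : Nat) : Nat := labG (cycs U S 24 0) (lcmC (cycs U S 24 0) 1)

/-- Is `l ∈ {1, 3, 5, 7, 11, 15, 21, 23}`? -/
def quick (l : Nat) : Bool := Nat.beq (Nat.land (Nat.shiftRight 10520746 l) 1) 1

/-- The evaluator: the label of `u * s` from the packed tables `U` of `u` and `S` of `s`: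
`0..6` labels, `7` none, `9` failure. -/
def labE (U S : Nat) : Nat :=
  cond (Nat.beq (olen U S 0 24 0 0) 0) 9
    (cond (quick (olen U S 0 24 0 0)) (labFull U S) 7)

/-- Decoding the evaluator's answer. -/
def dec (v : Nat) : Option (Fin 7) := if h : v < 7 then some ⟨v, h⟩ else none

/-- Tally of the evaluator's answers over a list of packed tables: the count of answer `v` sits
in bits `20 v .. 20 v + 19`. -/
def tally (S : Nat) (l : List Nat) : Nat → Nat :=
  List.rec (motive := fun _ => Nat → Nat) (fun c => c)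
    (fun U _ ih c => ih (Nat.add c (Nat.shiftLeft 1 (Nat.mul 20 (labE U S))))) l

/-- Packed tables of the square roots `sEl i`. -/
def sP : Fin 7 → Nat := fun i => pkP (sEl i : Equiv.Perm GolayPt)

end Cfsg.Agent.Lib.Helper3.M24Blk
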