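import Mathlib
import Cfsg.Agent.Lib.Helper47.FrakH
import Cfsg.Agent.Lib.Helper49.AxB

/-!
# Radical `2`-subgroups are self-centralising when involution centralisers are `2`-constrained

If for every involution `t` the centraliser `C_G(t)` normalises a `2`-subgroup `Q` with
`C_G(Q) ≤ Q`, then every nontrivial `2`-subgroup `D` with `O_2(N_G(D)) = D` satisfies
`C_G(D) ≤ D`.  (Thompson's `A × B` lemma.)
-/

set_option autoImplicit false
set_option linter.style.haveILetI false

namespace Cfsg.Agent.Lib.Helper3.RadCent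

open Cfsg Cfsg.Agent.Lib.Helper47.Syl Cfsg.Agent.Lib.Helper47.FrakH

universe u
variable {G : Type u} [Group G] [Finite G]

theorem radical_self_centralizing
    (hinv : ∀ t : G, orderOf t = 2 → ∃ Q : Subgroup G, IsPGroup 2 Q ∧
        Subgroup.centralizer ({t} : Set G) ≤ Subgroup.normalizer (Q : Set G) ∧
        Subgroup.centralizer (Q : Set G) ≤ Q)
    (D : Subgroup G) (hD : IsPGroup 2 D) (hD1 : D ≠ ⊥)
    (hrad : (Cfsg.pCore 2 (Subgroup.normalizer (D : Set G))).map
        (Subgroup.normalizer (D : Set G)).subtype = D) :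
    Subgroup.centralizer (D : Set G) ≤ D := by
  classical
  haveI : Fact (Nat.Prime 2) := ⟨Nat.prime_two⟩
  have hradO : pCoreOf 2 (Subgroup.normalizer (D : Set G)) = D := hrad
  -- an involution in the centre of `D`
  obtain ⟨t, htD, hto, htc⟩ : ∃ t ∈ D, orderOf t = 2 ∧ ∀ d ∈ D, Commute t d := by
    haveI : Nontrivial D := (Subgroup.nontrivial_iff_ne_bot D).mpr hD1
    haveI hZnt : Nontrivial (Subgroup.center D) := hD.center_nontrivial
    have hZ : IsPGroup 2 (Subgroup.center D) := hD.to_subgroup _
    obtain ⟨n, hn⟩ := IsPGroup.iff_card.mp hZ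
    have hn0 : n ≠ 0 := by
      rintro rfl
      rw [pow_zero] at hn
      have h1 : Subsingleton (Subgroup.center D) := (Nat.card_eq_one_iff_unique.mp hn).1
      exact not_nontrivial _ hZnt
    have h2 : 2 ∣ Nat.card (Subgroup.center D) := by rw [hn]; exact dvd_pow_self 2 hn0
    obtain ⟨z, hz⟩ := exists_prime_orderOf_dvd_card' 2 h2
    refine ⟨((z : D) : G), (z : D).2, ?_, ?_⟩
    · rw [← hz, Subgroup.orderOf_coe, Subgroup.orderOf_coe]
    · intro d hd
      have h := Subgroup.mem_center_iff.mp z.2 ⟨d, hd⟩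
      have h' := congrArg (Subtype.val : D → G) h
      exact h'.symm
  obtain ⟨Q, hQ, hCQ, hQself⟩ := hinv t hto
  have hDC : D ≤ Subgroup.centralizer ({t} : Set G) := by
    intro d hd
    rw [Subgroup.mem_centralizer_iff]
    intro x hx
    rw [Set.mem_singleton_iff] at hx
    rw [hx]
    exact (htc d hd).eq
  have hXC : Subgroup.centralizer (D : Set G) ≤ Subgroup.centralizer ({t} : Set G) := by
    apply Subgroup.centralizer_le
    intro x hx
    rw [Set.mem_singleton_iff] at hx
    rw [hx]
    exact htD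
  have hXN : Subgroup.centralizer (D : Set G) ≤ Subgroup.normalizer (D : Set G) :=
    Subgroup.centralizer_le_normalizer _
  have hNX : Subgroup.normalizer (D : Set G)
      ≤ Subgroup.normalizer ((Subgroup.centralizer (D : Set G) : Subgroup G) : Set G) := by
    intro n hn
    have key : ∀ m : G, m ∈ Subgroup.normalizer (D : Set G) →
        ∀ x ∈ Subgroup.centralizer (D : Set G), m * x * m⁻¹ ∈ Subgroup.centralizer (D : Set G) := by
      intro m hm x hx
      rw [Subgroup.mem_centralizer_iff]
      intro d hd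
      have hd' : m⁻¹ * d * m ∈ D := by
        have := (Subgroup.mem_normalizer_iff.mp (Subgroup.inv_mem _ hm) d).mp hd
        simpa using this
      have hc := (Subgroup.mem_centralizer_iff.mp hx) _ hd'
      calc d * (m * x * m⁻¹) = m * ((m⁻¹ * d * m) * x) * m⁻¹ := by group
        _ = m * (x * (m⁻¹ * d * m)) * m⁻¹ := by rw [hc]
        _ = m * x * m⁻¹ * d := by group
    rw [Subgroup.mem_normalizer_iff]
    intro x
    constructor
    · exact key n hn x
    · intro hx
      have := key n⁻¹ (Subgroup.inv_mem _ hn) _ hx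
      have e : n⁻¹ * (n * x * n⁻¹) * n⁻¹⁻¹ = x := by group
      rwa [e] at this
  -- Claim A
  have hA : Subgroup.centralizer (D : Set G) ⊓ Q ≤ D := by
    have h1 : Subgroup.centralizer (D : Set G) ⊓ Q ≤ pCoreOf 2 (Subgroup.centralizer (D : Set G)) := by
      refine le_pCoreOf inf_le_left ?_ (hQ.to_le inf_le_right)
      intro x hx
      have hxQ : x ∈ Subgroup.normalizer (Q : Set G) := hCQ (hXC hx)
      rw [Subgroup.mem_normalizer_iff]
      intro y
      rw [Subgroup.mem_inf, Subgroup.mem_inf]
      constructor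
      · rintro ⟨h1, h2⟩
        exact ⟨Subgroup.mul_mem _ (Subgroup.mul_mem _ hx h1) (Subgroup.inv_mem _ hx),
          (Subgroup.mem_normalizer_iff.mp hxQ y).mp h2⟩
      · rintro ⟨h1, h2⟩
        refine ⟨?_, (Subgroup.mem_normalizer_iff.mp hxQ y).mpr h2⟩
        have := Subgroup.mul_mem _ (Subgroup.mul_mem _ (Subgroup.inv_mem _ hx) h1) hx
        have e : x⁻¹ * (x * y * x⁻¹) * x = y := by group
        rwa [e] at this
    have h2 := pCoreOf_le_pCoreOf_of_normal (p := 2) hXN hNX
    rw [hradO] at h2
    exact h1.trans h2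
  -- Claim B
  have hB : ∀ x ∈ Subgroup.centralizer (D : Set G), Odd (orderOf x) → x = 1 := by
    intro x hx hodd
    have hxNQ : x ∈ Subgroup.normalizer (Q : Set G) := hCQ (hXC hx)
    have hDNQ : D ≤ Subgroup.normalizer (Q : Set G) := hDC.trans hCQ
    haveI : (Q.subgroupOf (Subgroup.normalizer (Q : Set G))).Normal :=
      Subgroup.normal_in_normalizer
    have hcop : Nat.Coprime (orderOf x) 2 := Nat.Coprime.symm (Nat.coprime_two_left.mpr hodd)
    have key := Cfsg.Agent.Lib.Helper49.AxB.thompson_AxB (p := 2)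
      (Q.subgroupOf (Subgroup.normalizer (Q : Set G)))
      (D.subgroupOf (Subgroup.normalizer (Q : Set G)))
      (hQ.comap_subtype) (hD.comap_subtype)
      (⟨x, hxNQ⟩ : Subgroup.normalizer (Q : Set G)) hcop
      (by
        apply Subtype.ext
        simp [pow_orderOf_eq_one])
      (by
        intro q hq
        rw [Subgroup.mem_subgroupOf] at hq
        apply Subtype.ext
        exact ((Subgroup.mem_centralizer_iff.mp hx) _ hq).symm)
      (by
        intro a ha hac
        rw [Subgroup.mem_subgroupOf] at ha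
        have haX : (a : G) ∈ Subgroup.centralizer (D : Set G) := by
          rw [Subgroup.mem_centralizer_iff]
          intro d hd
          have h := hac ⟨d, hDNQ hd⟩ (Subgroup.mem_subgroupOf.mpr hd)
          have h' := congrArg (Subtype.val : Subgroup.normalizer (Q : Set G) → G) h.eq
          exact h'.symm
        have haD : (a : G) ∈ D := hA ⟨haX, ha⟩
        apply Subtype.ext
        exact ((Subgroup.mem_centralizer_iff.mp hx) _ haD).symm)
    have hxQ : x ∈ Subgroup.centralizer (Q : Set G) := by
      rw [Subgroup.mem_centralizer_iff]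
      intro q hq
      have h := key ⟨q, Subgroup.le_normalizer hq⟩ (Subgroup.mem_subgroupOf.mpr hq)
      have h' := congrArg (Subtype.val : Subgroup.normalizer (Q : Set G) → G) h.eq
      exact h'.symm
    have hxQ' : x ∈ Q := hQself hxQ
    obtain ⟨j, hj⟩ := hQ ⟨x, hxQ'⟩
    have hj' : x ^ 2 ^ j = 1 := congrArg (Subtype.val : Q → G) hj
    have h1 : orderOf x ∣ 2 ^ j := orderOf_dvd_of_pow_eq_one hj'
    have h2 : orderOf x = 1 := Nat.Coprime.eq_one_of_dvd (Nat.Coprime.pow_right j hcop) h1
    exact orderOf_eq_one_iff.mp h2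
  -- Claim C
  have hC : IsPGroup 2 (Subgroup.centralizer (D : Set G)) := by
    rintro ⟨x, hx⟩
    obtain ⟨k, m, hm, hkm⟩ := Nat.exists_eq_two_pow_mul_odd (orderOf_pos x).ne'
    refine ⟨k, ?_⟩
    apply Subtype.ext
    show x ^ 2 ^ k = 1
    apply hB _ (Subgroup.pow_mem _ hx _)
    have h1 : orderOf (x ^ 2 ^ k) = m := by
      rw [orderOf_pow' x (by positivity), hkm, Nat.gcd_eq_right (Dvd.intro _ rfl)]
      exact Nat.mul_div_cancel_left m (by positivity)
    rw [h1]
    exact hm
  have hfin := le_pCoreOf (p := 2) hXN hNX hC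
  rw [hradO] at hfin
  exact hfin

end Cfsg.Agent.Lib.Helper3.RadCent
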