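-- S5006 (M24 has one 2-block): assembly of the pieces, modulo the three statements
-- `LSoundStmt`, `P27Stmt`, `Good gB` (taken as hypotheses here).
import Cfsg.Agent.Lib.Helper3.M24BlkH
import Cfsg.Agent.Lib.Helper3.M24TalH0
import Cfsg.Agent.Lib.Helper3.M24TalH1
import Cfsg.Agent.Lib.Helper3.M24TalH2
import Cfsg.Agent.Lib.Helper3.M24TalH3
import Cfsg.Agent.Lib.Helper3.M24TalH4
import Cfsg.Agent.Lib.Helper3.M24TalH5
import Cfsg.Agent.Lib.Helper3.M24TalH6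
import Cfsg.Agent.Lib.Helper3.InvParity
import Cfsg.Agent.Lib.Helper3.RadCent
import Cfsg.Agent.Lib.Helper91.OneBlockLocal
import Cfsg.Agent.Lib.Helper35.M24BlkStmt
import Cfsg.Agent.Lib.Helper86.M24Inv2
import Cfsg.Agent.Lib.Helper72.M24BlkCONJ11
import Cfsg.Agent.Lib.Helper72.M24BlkCONJ23
import Cfsg.Agent.Lib.Helper67.M24BlkCONJ15
import Cfsg.Agent.Lib.Helper67.M24BlkCONJ21
import Cfsg.Agent.Lib.Helper67.M24BlkORD
import Cfsg.Agent.Lib.Helper67.M24BlkINVC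
import Cfsg.Agent.Lib.Helper67.M24BlkHINV
import Cfsg.Agent.Lib.Helper24.M24BlkSYL
import Cfsg.Agent.Lib.Helper24.M24BlkEXP3
import Cfsg.Agent.Lib.Helper26.M24BlkCENTA
import Cfsg.Agent.Lib.Helper86.M24BlkCD5
import Cfsg.Agent.Lib.Helper86.M24BlkCD7
import Cfsg.Agent.Lib.Helper86.M24BlkCD11
import Cfsg.Agent.Lib.Helper86.M24BlkCD23
import Cfsg.Agent.Lib.Helper91.M24QAINV
import Cfsg.Agent.Lib.Helper72.M24EVAL
import Cfsg.Agent.Lib.Helper65.M24TLY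
import Cfsg.Agent.Lib.Helper65.M24DIG
import Cfsg.Agent.Lib.Helper74.M24CNT
import Cfsg.Agent.Lib.Helper74.M24LNODUP
import Cfsg.Agent.Lib.Helper86.M24BlkLCOMPLETE

set_option autoImplicit false

namespace Cfsg.Agent.Lib.Helper3.M24BlkGlue

open Cfsg Cfsg.Agent.Lib.Helper7.GolayBase Cfsg.Agent.Lib.Helper7.GolayPerm
  Cfsg.Agent.Lib.Helper35.PermTab Cfsg.Agent.Lib.Helper35.M24BlkElts
  Cfsg.Agent.Lib.Helper3.M24BlkH Cfsg.Agent.Lib.Helper3.M24BlkStmt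
  Cfsg.Agent.Lib.Helper3.M24InvD Cfsg.Agent.Lib.Helper35.M24BlkStmt
open Cfsg.Agent.Lib.Helper3.M24Blk (G24 QA labP lab pk pkP labE dec tally S15f S21f S23f)

/-- [P27] A Sylow 3-subgroup of exponent 3 all of whose elements commute with an involution. -/
def P27Stmt : Prop :=
  ∃ P : Subgroup (Equiv.Perm GolayPt), P ≤ M24 ∧ Nat.card P = 27 ∧ (∀ x ∈ P, x ^ 3 = 1) ∧
    (∀ x ∈ P, ∃ u ∈ M24, orderOf u = 2 ∧ u * x = x * u)

/-! ### The labelling -/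

theorem labP_cases (g : Equiv.Perm GolayPt) :
    (orderOf g = 11 ∧ labP g = some 0) ∨
    (orderOf g = 15 ∧ QA S15f g ∧ labP g = some 1) ∨
    (orderOf g = 15 ∧ ¬ QA S15f g ∧ labP g = some 2) ∨
    (orderOf g = 21 ∧ QA S21f g ∧ labP g = some 3) ∨
    (orderOf g = 21 ∧ ¬ QA S21f g ∧ labP g = some 4) ∨
    (orderOf g = 23 ∧ QA S23f g ∧ labP g = some 5) ∨
    (orderOf g = 23 ∧ ¬ QA S23f g ∧ labP g = some 6) ∨
    (orderOf g ≠ 11 ∧ orderOf g ≠ 15 ∧ orderOf g ≠ 21 ∧ orderOf g ≠ 23 ∧ labP g = none) := by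
  unfold labP
  by_cases h11 : orderOf g = 11
  · left; exact ⟨h11, by rw [if_pos h11]⟩
  · rw [if_neg h11]
    by_cases h15 : orderOf g = 15
    · rw [if_pos h15]
      by_cases hq : QA S15f g
      · right; left; exact ⟨h15, hq, by rw [if_pos hq]⟩
      · right; right; left; exact ⟨h15, hq, by rw [if_neg hq]⟩
    · rw [if_neg h15]
      by_cases h21 : orderOf g = 21
      · rw [if_pos h21]
        by_cases hq : QA S21f g
        · right; right; right; left; exact ⟨h21, hq, by rw [if_pos hq]⟩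
        · right; right; right; right; left; exact ⟨h21, hq, by rw [if_neg hq]⟩
      · rw [if_neg h21]
        by_cases h23 : orderOf g = 23
        · rw [if_pos h23]
          by_cases hq : QA S23f g
          · right; right; right; right; right; left; exact ⟨h23, hq, by rw [if_pos hq]⟩
          · right; right; right; right; right; right; left; exact ⟨h23, hq, by rw [if_neg hq]⟩
        · rw [if_neg h23]
          right; right; right; right; right; right; right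
          exact ⟨h11, h15, h21, h23, rfl⟩

theorem coe_rElH0 : ((rElH 0 : G24) : Equiv.Perm GolayPt) = r11 := rfl
theorem coe_rElH1 : ((rElH 1 : G24) : Equiv.Perm GolayPt) = r15 ^ 11 := rfl
theorem coe_rElH2 : ((rElH 2 : G24) : Equiv.Perm GolayPt) = r15 := rfl
theorem coe_rElH3 : ((rElH 3 : G24) : Equiv.Perm GolayPt) = r21 := rfl
theorem coe_rElH4 : ((rElH 4 : G24) : Equiv.Perm GolayPt) = r21⁻¹ := rfl
theorem coe_rElH5 : ((rElH 5 : G24) : Equiv.Perm GolayPt) = r23⁻¹ := rfl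
theorem coe_rElH6 : ((rElH 6 : G24) : Equiv.Perm GolayPt) = r23 := rfl

theorem labE_rLitH : ∀ i : Fin 7, labE idLit (rLitH i) = i.val := by decide +kernel

theorem lab_rElH (hE : EvalSound) (i : Fin 7) : labP ((rElH i : G24) : Equiv.Perm GolayPt) = some i := by
  have h := hE 1 (rElH i) i.val (by
    rw [show ((1 : G24) : Equiv.Perm GolayPt) = 1 from rfl, pkP_one, pkP_rElH]
    exact labE_rLitH i) (by omega)
  rw [one_mul] at h
  change labP ((rElH i : G24) : Equiv.Perm GolayPt) = dec i.val at h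
  rw [h]
  unfold dec
  rw [dif_pos i.isLt]

theorem qa15 (hE : EvalSound) : QA S15f (r15 ^ 11) := by
  have h := lab_rElH hE 1
  rw [coe_rElH1] at h
  rcases labP_cases (r15 ^ 11) with ⟨_, h'⟩ | ⟨_, hq, _⟩ | ⟨_, _, h'⟩ | ⟨_, _, h'⟩ | ⟨_, _, h'⟩ |
    ⟨_, _, h'⟩ | ⟨_, _, h'⟩ | ⟨_, _, _, _, h'⟩
  all_goals first | exact hq | (rw [h] at h'; exact absurd h' (by decide))

theorem nqa15 (hE : EvalSound) : ¬ QA S15f r15 := by
  have h := lab_rElH hE 2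
  rw [coe_rElH2] at h
  rcases labP_cases r15 with ⟨_, h'⟩ | ⟨_, _, h'⟩ | ⟨_, hq, _⟩ | ⟨_, _, h'⟩ | ⟨_, _, h'⟩ |
    ⟨_, _, h'⟩ | ⟨_, _, h'⟩ | ⟨_, _, _, _, h'⟩
  all_goals first | exact hq | (rw [h] at h'; exact absurd h' (by decide))

theorem qa21 (hE : EvalSound) : QA S21f r21 := by
  have h := lab_rElH hE 3
  rw [coe_rElH3] at h
  rcases labP_cases r21 with ⟨_, h'⟩ | ⟨_, _, h'⟩ | ⟨_, _, h'⟩ | ⟨_, hq, _⟩ | ⟨_, _, h'⟩ |
    ⟨_, _, h'⟩ | ⟨_, _, h'⟩ | ⟨_, _, _, _, h'⟩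
  all_goals first | exact hq | (rw [h] at h'; exact absurd h' (by decide))

theorem nqa21 (hE : EvalSound) : ¬ QA S21f r21⁻¹ := by
  have h := lab_rElH hE 4
  rw [coe_rElH4] at h
  rcases labP_cases r21⁻¹ with ⟨_, h'⟩ | ⟨_, _, h'⟩ | ⟨_, _, h'⟩ | ⟨_, _, h'⟩ | ⟨_, hq, _⟩ |
    ⟨_, _, h'⟩ | ⟨_, _, h'⟩ | ⟨_, _, _, _, h'⟩
  all_goals first | exact hq | (rw [h] at h'; exact absurd h' (by decide))

theorem qa23 (hE : EvalSound) : QA S23f r23⁻¹ := by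
  have h := lab_rElH hE 5
  rw [coe_rElH5] at h
  rcases labP_cases r23⁻¹ with ⟨_, h'⟩ | ⟨_, _, h'⟩ | ⟨_, _, h'⟩ | ⟨_, _, h'⟩ | ⟨_, _, h'⟩ |
    ⟨_, hq, _⟩ | ⟨_, _, h'⟩ | ⟨_, _, _, _, h'⟩
  all_goals first | exact hq | (rw [h] at h'; exact absurd h' (by decide))

theorem nqa23 (hE : EvalSound) : ¬ QA S23f r23 := by
  have h := lab_rElH hE 6
  rw [coe_rElH6] at h
  rcases labP_cases r23 with ⟨_, h'⟩ | ⟨_, _, h'⟩ | ⟨_, _, h'⟩ | ⟨_, _, h'⟩ | ⟨_, _, h'⟩ |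
    ⟨_, _, h'⟩ | ⟨_, hq, _⟩ | ⟨_, _, _, _, h'⟩
  all_goals first | exact hq | (rw [h] at h'; exact absurd h' (by decide))

/-! ### HSOUND -/

theorem hsound (hE : EvalSound) (hQ : QAInvStmt) (g : G24) (i : Fin 7) (h : lab g = some i) :
    IsConj g (rElH i) := by
  have hSyl := Cfsg.Agent.Lib.Helper24.M24BlkSYL.main
  have key : ∀ r : G24, (∃ c ∈ M24, c * (g : Equiv.Perm GolayPt) * c⁻¹ = (r : Equiv.Perm GolayPt)) →
      IsConj g r := by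
    rintro r ⟨c, hc, hcg⟩
    exact isConj_iff.2 ⟨⟨c, hc⟩, Subtype.ext hcg⟩
  change labP (g : Equiv.Perm GolayPt) = some i at h
  rcases labP_cases (g : Equiv.Perm GolayPt) with ⟨ho, hl⟩ | ⟨ho, hq, hl⟩ | ⟨ho, hq, hl⟩ |
    ⟨ho, hq, hl⟩ | ⟨ho, hq, hl⟩ | ⟨ho, hq, hl⟩ | ⟨ho, hq, hl⟩ | ⟨_, _, _, _, hl⟩
  · obtain rfl : i = 0 := by rw [hl] at h; exact (Option.some.inj h).symm
    exact key _ (Cfsg.Agent.Lib.Helper72.M24BlkCONJ11.main hSyl r11 hn11 r11_mem hn11.2 ord11 norm11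
      g g.2 ho)
  · obtain rfl : i = 1 := by rw [hl] at h; exact (Option.some.inj h).symm
    obtain ⟨c, hc, hcg | hcg⟩ := Cfsg.Agent.Lib.Helper67.M24BlkCONJ15.main hSyl r15 hn15 r15_mem
      hn15.2 ord15 norm15 Cfsg.Agent.Lib.Helper86.M24BlkCD5.main.2 g g.2 ho
    · exfalso
      apply nqa15 hE
      rw [← hcg]
      exact (hQ S15f c g hc).2 hq
    · exact key _ ⟨c, hc, hcg⟩
  · obtain rfl : i = 2 := by rw [hl] at h; exact (Option.some.inj h).symm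
    obtain ⟨c, hc, hcg | hcg⟩ := Cfsg.Agent.Lib.Helper67.M24BlkCONJ15.main hSyl r15 hn15 r15_mem
      hn15.2 ord15 norm15 Cfsg.Agent.Lib.Helper86.M24BlkCD5.main.2 g g.2 ho
    · exact key _ ⟨c, hc, hcg⟩
    · exfalso
      apply hq
      have := qa15 hE
      rw [← hcg] at this
      exact (hQ S15f c g hc).1 this
  · obtain rfl : i = 3 := by rw [hl] at h; exact (Option.some.inj h).symm
    obtain ⟨c, hc, hcg | hcg⟩ := Cfsg.Agent.Lib.Helper67.M24BlkCONJ21.main hSyl r21 hn21 r21_mem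
      hn21.2 ord21 norm21 Cfsg.Agent.Lib.Helper86.M24BlkCD7.main.2 g g.2 ho
    · exact key _ ⟨c, hc, hcg⟩
    · exfalso
      apply nqa21 hE
      rw [← hcg]
      exact (hQ S21f c g hc).2 hq
  · obtain rfl : i = 4 := by rw [hl] at h; exact (Option.some.inj h).symm
    obtain ⟨c, hc, hcg | hcg⟩ := Cfsg.Agent.Lib.Helper67.M24BlkCONJ21.main hSyl r21 hn21 r21_mem
      hn21.2 ord21 norm21 Cfsg.Agent.Lib.Helper86.M24BlkCD7.main.2 g g.2 ho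
    · exfalso
      apply hq
      have := qa21 hE
      rw [← hcg] at this
      exact (hQ S21f c g hc).1 this
    · exact key _ ⟨c, hc, hcg⟩
  · obtain rfl : i = 5 := by rw [hl] at h; exact (Option.some.inj h).symm
    obtain ⟨c, hc, hcg | hcg⟩ := Cfsg.Agent.Lib.Helper72.M24BlkCONJ23.main hSyl r23 hn23 r23_mem
      hn23.2 ord23 norm23 g g.2 ho
    · exfalso
      apply nqa23 hE
      rw [← hcg]
      exact (hQ S23f c g hc).2 hq
    · exact key _ ⟨c, hc, hcg⟩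
  · obtain rfl : i = 6 := by rw [hl] at h; exact (Option.some.inj h).symm
    obtain ⟨c, hc, hcg | hcg⟩ := Cfsg.Agent.Lib.Helper72.M24BlkCONJ23.main hSyl r23 hn23 r23_mem
      hn23.2 ord23 norm23 g g.2 ho
    · exact key _ ⟨c, hc, hcg⟩
    · exfalso
      apply hq
      have := qa23 hE
      rw [← hcg] at this
      exact (hQ S23f c g hc).1 this
  · rw [hl] at h
    exact absurd h (by simp)

/-! ### HCOMPL -/

theorem odd_dvd {n m : ℕ} (hodd : Odd n) (h : n ∣ 2 * m) : n ∣ m :=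
  Nat.Coprime.dvd_of_dvd_mul_left (Nat.coprime_two_right.mpr hodd) h

theorem hcompl (hP27 : P27Stmt) (g : G24) (hodd : Odd (orderOf g))
    (hno : ∀ u : G24, orderOf u = 2 → ¬ Commute u g) : lab g ≠ none := by
  obtain ⟨P, hP, hPc, hPexp, hPinv⟩ := hP27
  have hSyl := Cfsg.Agent.Lib.Helper24.M24BlkSYL.main
  have hoc : orderOf (g : Equiv.Perm GolayPt) = orderOf g := Subgroup.orderOf_coe g
  have hodd' : Odd (orderOf (g : Equiv.Perm GolayPt)) := by rw [hoc]; exact hodd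
  have c3 : ∀ x ∈ M24, x ^ 27 = 1 → x ^ 3 = 1 :=
    Cfsg.Agent.Lib.Helper24.M24BlkEXP3.main P hP hPc hPexp
  have h5m : r15 ^ 3 ∈ M24 := M24.pow_mem r15_mem 3
  have h7m : r21 ^ 3 ∈ M24 := M24.pow_mem r21_mem 3
  have c5 : ∀ x ∈ M24, x * r15 ^ 3 = r15 ^ 3 * x → Odd (orderOf x) → orderOf x ∣ 15 := by
    intro x hx hc ho
    exact odd_dvd ho (orderOf_dvd_of_pow_eq_one (Cfsg.Agent.Lib.Helper86.M24BlkCD5.main.1 x hx hc))
  have c7 : ∀ x ∈ M24, x * r21 ^ 3 = r21 ^ 3 * x → Odd (orderOf x) → orderOf x ∣ 21 := by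
    intro x hx hc ho
    exact odd_dvd ho (orderOf_dvd_of_pow_eq_one (Cfsg.Agent.Lib.Helper86.M24BlkCD7.main.1 x hx hc))
  have c11 : ∀ x ∈ M24, x * r11 = r11 * x → Odd (orderOf x) → orderOf x ∣ 11 := by
    intro x hx hc _
    exact orderOf_dvd_of_pow_eq_one (Cfsg.Agent.Lib.Helper86.M24BlkCD11.main x hx hc)
  have c23 : ∀ x ∈ M24, x * r23 = r23 * x → Odd (orderOf x) → orderOf x ∣ 23 := by
    intro x hx hc _
    exact orderOf_dvd_of_pow_eq_one (Cfsg.Agent.Lib.Helper86.M24BlkCD23.main x hx hc)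
  have hord := Cfsg.Agent.Lib.Helper67.M24BlkORD.main hSyl (r15 ^ 3) (r21 ^ 3) r11 r23 h5m h7m
    r11_mem r23_mem ord5 ord7 ord11 ord23 c5 c7 c11 c23 c3 g g.2 hodd'
  have hinvc := Cfsg.Agent.Lib.Helper67.M24BlkINVC.main hSyl P (r15 ^ 3) (r21 ^ 3) hu5 hu7 hP hPc
    hPinv h5m h7m hu5.2 hu7.2 ord5 ord7 ordu5 ordu7 comm5 comm7 g g.2
  have h4 : ¬ (orderOf (g : Equiv.Perm GolayPt) = 1 ∨ orderOf (g : Equiv.Perm GolayPt) = 3 ∨
      orderOf (g : Equiv.Perm GolayPt) = 5 ∨ orderOf (g : Equiv.Perm GolayPt) = 7) := by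
    intro h
    obtain ⟨u, hu, hu2, huc⟩ := hinvc h
    exact hno ⟨u, hu⟩ (by rw [← Subgroup.orderOf_coe]; exact hu2) (Subtype.ext huc)
  intro hnone
  change labP (g : Equiv.Perm GolayPt) = none at hnone
  rcases labP_cases (g : Equiv.Perm GolayPt) with ⟨_, hl⟩ | ⟨_, _, hl⟩ | ⟨_, _, hl⟩ |
    ⟨_, _, hl⟩ | ⟨_, _, hl⟩ | ⟨_, _, hl⟩ | ⟨_, _, hl⟩ | ⟨n11, n15, n21, n23, _⟩
  · rw [hl] at hnone; exact absurd hnone (by simp)
  · rw [hl] at hnone; exact absurd hnone (by simp)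
  · rw [hl] at hnone; exact absurd hnone (by simp)
  · rw [hl] at hnone; exact absurd hnone (by simp)
  · rw [hl] at hnone; exact absurd hnone (by simp)
  · rw [hl] at hnone; exact absurd hnone (by simp)
  · rw [hl] at hnone; exact absurd hnone (by simp)
  · rcases hord with h | h | h | h | h | h | h | h
    · exact h4 (Or.inl h)
    · exact h4 (Or.inr (Or.inl h))
    · exact h4 (Or.inr (Or.inr (Or.inl h)))
    · exact h4 (Or.inr (Or.inr (Or.inr h)))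
    · exact n11 h
    · exact n15 h
    · exact n21 h
    · exact n23 h

/-! ### HINV -/

theorem hinv (hGB : Good Cfsg.Agent.Lib.Helper86.M24Inv2.gB) :
    ∀ t : G24, orderOf t = 2 → ∃ Q : Subgroup G24, IsPGroup 2 Q ∧
      Subgroup.centralizer ({t} : Set G24) ≤ Subgroup.normalizer (Q : Set G24) ∧
      Subgroup.centralizer (Q : Set G24) ≤ Q := by
  refine Cfsg.Agent.Lib.Helper67.M24BlkHINV.main Cfsg.Agent.Lib.Helper86.M24Inv2.gB
    Cfsg.Agent.Lib.Helper86.M24Inv2.gB_mem ?_ Cfsg.Agent.Lib.Helper26.M24BlkCENTA.main hGB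
  intro u hu hu2 hfpf
  have hu1 : u ≠ 1 := by
    rintro rfl
    exact hfpf (pt 0) rfl
  exact Cfsg.Agent.Lib.Helper86.M24Inv2.conj_gB_of_fpf hu
    (Cfsg.Agent.Lib.Helper86.M24Inv2.orderOf_two hu2 hu1) hfpf

/-! ### HPAR -/

/-- The sum over `LL`, chunk by chunk. -/
theorem sum_tally (hT : TallyStmt) (S : Nat) :
    (LL.map (fun U => 2 ^ (20 * labE U S))).sum =
      tally S L0 0 + (tally S L1 0 + (tally S L2 0 + (tally S L3 0 + (tally S L4 0 + (tally S L5 0 + (tally S L6 0 + (tally S L7 0 + (tally S L8 0 + (tally S L9 0 + (tally S L10 0 + (tally S L11 0 + (tally S L12 0 + (tally S L13 0 + (tally S L14 0 + (tally S L15 0 + (tally S L16 0 + (tally S L17 0 + (tally S L18 0 + (tally S L19 0 + (tally S L20 0 + (tally S L21 0 + 0))))))))))))))))))))) := by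
  have e : ∀ l : List Nat, (l.map (fun U => 2 ^ (20 * labE U S))).sum = tally S l 0 := by
    intro l
    rw [hT, zero_add]
  simp only [LL, chunks, List.flatten_cons, List.flatten_nil, List.map_append, List.sum_append,
    List.map_nil, List.sum_nil, e]

/-- The totals: the count of the answer `v` for the square root no. `i` sits in the bits
`20 v .. 20 v + 19` of `totH i`. -/
def totH : Fin 7 → Nat := ![35079074536732173850271734308989818137416307664, 34454654043357510164591742066964845932245422064, 34454654043357510164591742066963860770766458864, 35703495742573722737968642424655458944631704864, 35703495742573722738723011416671968674975845664, 34365451041295983128585288778843978395008634464, 34365451317775142580522942871120335619053588064]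

theorem tot0 (hT : TallyStmt) :
    (LL.map (fun U => 2 ^ (20 * labE U (sLitH 0)))).sum = totH 0 := by
  rw [sum_tally hT, show sLitH 0 = Cfsg.Agent.Lib.Helper3.M24TalH0.S from rfl]
  rw [Cfsg.Agent.Lib.Helper3.M24TalH0.tal0, Cfsg.Agent.Lib.Helper3.M24TalH0.tal1, Cfsg.Agent.Lib.Helper3.M24TalH0.tal2, Cfsg.Agent.Lib.Helper3.M24TalH0.tal3, Cfsg.Agent.Lib.Helper3.M24TalH0.tal4, Cfsg.Agent.Lib.Helper3.M24TalH0.tal5, Cfsg.Agent.Lib.Helper3.M24TalH0.tal6, Cfsg.Agent.Lib.Helper3.M24TalH0.tal7, Cfsg.Agent.Lib.Helper3.M24TalH0.tal8, Cfsg.Agent.Lib.Helper3.M24TalH0.tal9, Cfsg.Agent.Lib.Helper3.M24TalH0.tal10, Cfsg.Agent.Lib.Helper3.M24TalH0.tal11, Cfsg.Agent.Lib.Helper3.M24TalH0.tal12, Cfsg.Agent.Lib.Helper3.M24TalH0.tal13, Cfsg.Agent.Lib.Helper3.M24TalH0.tal14, Cfsg.Agent.Lib.Helper3.M24TalH0.tal15, Cfsg.Agent.Lib.Helper3.M24TalH0.tal16, Cfsg.Agent.Lib.Helper3.M24TalH0.tal17,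 Cfsg.Agent.Lib.Helper3.M24TalH0.tal18, Cfsg.Agent.Lib.Helper3.M24TalH0.tal19, Cfsg.Agent.Lib.Helper3.M24TalH0.tal20, Cfsg.Agent.Lib.Helper3.M24TalH0.tal21]
  rfl

theorem tot1 (hT : TallyStmt) :
    (LL.map (fun U => 2 ^ (20 * labE U (sLitH 1)))).sum = totH 1 := by
  rw [sum_tally hT, show sLitH 1 = Cfsg.Agent.Lib.Helper3.M24TalH1.S from rfl]
  rw [Cfsg.Agent.Lib.Helper3.M24TalH1.tal0, Cfsg.Agent.Lib.Helper3.M24TalH1.tal1, Cfsg.Agent.Lib.Helper3.M24TalH1.tal2, Cfsg.Agent.Lib.Helper3.M24TalH1.tal3, Cfsg.Agent.Lib.Helper3.M24TalH1.tal4, Cfsg.Agent.Lib.Helper3.M24TalH1.tal5, Cfsg.Agent.Lib.Helper3.M24TalH1.tal6, Cfsg.Agent.Lib.Helper3.M24TalH1.tal7, Cfsg.Agent.Lib.Helper3.M24TalH1.tal8, Cfsg.Agent.Lib.Helper3.M24TalH1.tal9, Cfsg.Agent.Lib.Helper3.M24TalH1.tal10, Cfsg.Agent.Lib.Helper3.M24TalH1.tal11, Cfsg.Agent.Lib.Helper3.M24TalH1.tal12, Cfsg.Agent.Lib.Helper3.M24TalH1.tal13,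 Cfsg.Agent.Lib.Helper3.M24TalH1.tal14, Cfsg.Agent.Lib.Helper3.M24TalH1.tal15, Cfsg.Agent.Lib.Helper3.M24TalH1.tal16, Cfsg.Agent.Lib.Helper3.M24TalH1.tal17, Cfsg.Agent.Lib.Helper3.M24TalH1.tal18, Cfsg.Agent.Lib.Helper3.M24TalH1.tal19, Cfsg.Agent.Lib.Helper3.M24TalH1.tal20, Cfsg.Agent.Lib.Helper3.M24TalH1.tal21]
  rfl

theorem tot2 (hT : TallyStmt) :
    (LL.map (fun U => 2 ^ (20 * labE U (sLitH 2)))).sum = totH 2 := by
  rw [sum_tally hT, show sLitH 2 = Cfsg.Agent.Lib.Helper3.M24TalH2.S from rfl]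
  rw [Cfsg.Agent.Lib.Helper3.M24TalH2.tal0, Cfsg.Agent.Lib.Helper3.M24TalH2.tal1, Cfsg.Agent.Lib.Helper3.M24TalH2.tal2, Cfsg.Agent.Lib.Helper3.M24TalH2.tal3, Cfsg.Agent.Lib.Helper3.M24TalH2.tal4, Cfsg.Agent.Lib.Helper3.M24TalH2.tal5, Cfsg.Agent.Lib.Helper3.M24TalH2.tal6, Cfsg.Agent.Lib.Helper3.M24TalH2.tal7, Cfsg.Agent.Lib.Helper3.M24TalH2.tal8, Cfsg.Agent.Lib.Helper3.M24TalH2.tal9, Cfsg.Agent.Lib.Helper3.M24TalH2.tal10, Cfsg.Agent.Lib.Helper3.M24TalH2.tal11, Cfsg.Agent.Lib.Helper3.M24TalH2.tal12, Cfsg.Agent.Lib.Helper3.M24TalH2.tal13, Cfsg.Agent.Lib.Helper3.M24TalH2.tal14, Cfsg.Agent.Lib.Helper3.M24TalH2.tal15, Cfsg.Agent.Lib.Helper3.M24TalH2.tal16, Cfsg.Agent.Lib.Helper3.M24TalH2.tal17, Cfsg.Agent.Lib.Helper3.M24TalH2.tal18, Cfsg.Agent.Lib.Helper3.M24TalH2.tal19, Cfsg.Agent.Lib.Helper3.M24TalH2.tal20, Cfsg.Agent.Lib.Helper3.M24TalH2.tal21]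
  rfl

theorem tot3 (hT : TallyStmt) :
    (LL.map (fun U => 2 ^ (20 * labE U (sLitH 3)))).sum = totH 3 := by
  rw [sum_tally hT, show sLitH 3 = Cfsg.Agent.Lib.Helper3.M24TalH3.S from rfl]
  rw [Cfsg.Agent.Lib.Helper3.M24TalH3.tal0, Cfsg.Agent.Lib.Helper3.M24TalH3.tal1, Cfsg.Agent.Lib.Helper3.M24TalH3.tal2, Cfsg.Agent.Lib.Helper3.M24TalH3.tal3, Cfsg.Agent.Lib.Helper3.M24TalH3.tal4, Cfsg.Agent.Lib.Helper3.M24TalH3.tal5, Cfsg.Agent.Lib.Helper3.M24TalH3.tal6, Cfsg.Agent.Lib.Helper3.M24TalH3.tal7, Cfsg.Agent.Lib.Helper3.M24TalH3.tal8, Cfsg.Agent.Lib.Helper3.M24TalH3.tal9, Cfsg.Agent.Lib.Helper3.M24TalH3.tal10, Cfsg.Agent.Lib.Helper3.M24TalH3.tal11, Cfsg.Agent.Lib.Helper3.M24TalH3.tal12, Cfsg.Agent.Lib.Helper3.M24TalH3.tal13, Cfsg.Agent.Lib.Helper3.M24TalH3.tal14, Cfsg.Agent.Lib.Helper3.M24TalH3.tal15, Cfsg.Agent.Lib.Helper3.M24TalH3.tal16, Cfsg.Agent.Lib.Helper3.M24TalH3.tal17,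 Cfsg.Agent.Lib.Helper3.M24TalH3.tal18, Cfsg.Agent.Lib.Helper3.M24TalH3.tal19, Cfsg.Agent.Lib.Helper3.M24TalH3.tal20, Cfsg.Agent.Lib.Helper3.M24TalH3.tal21]
  rfl

theorem tot4 (hT : TallyStmt) :
    (LL.map (fun U => 2 ^ (20 * labE U (sLitH 4)))).sum = totH 4 := by
  rw [sum_tally hT, show sLitH 4 = Cfsg.Agent.Lib.Helper3.M24TalH4.S from rfl]
  rw [Cfsg.Agent.Lib.Helper3.M24TalH4.tal0, Cfsg.Agent.Lib.Helper3.M24TalH4.tal1, Cfsg.Agent.Lib.Helper3.M24TalH4.tal2, Cfsg.Agent.Lib.Helper3.M24TalH4.tal3, Cfsg.Agent.Lib.Helper3.M24TalH4.tal4, Cfsg.Agent.Lib.Helper3.M24TalH4.tal5, Cfsg.Agent.Lib.Helper3.M24TalH4.tal6, Cfsg.Agent.Lib.Helper3.M24TalH4.tal7, Cfsg.Agent.Lib.Helper3.M24TalH4.tal8, Cfsg.Agent.Lib.Helper3.M24TalH4.tal9, Cfsg.Agent.Lib.Helper3.M24TalH4.tal10, Cfsg.Agent.Lib.Helper3.M24TalH4.tal11, Cfsg.Agent.Lib.Helper3.M24TalH4.tal12, Cfsg.Agent.Lib.Helper3.M24TalH4.tal13,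 Cfsg.Agent.Lib.Helper3.M24TalH4.tal14, Cfsg.Agent.Lib.Helper3.M24TalH4.tal15, Cfsg.Agent.Lib.Helper3.M24TalH4.tal16, Cfsg.Agent.Lib.Helper3.M24TalH4.tal17, Cfsg.Agent.Lib.Helper3.M24TalH4.tal18, Cfsg.Agent.Lib.Helper3.M24TalH4.tal19, Cfsg.Agent.Lib.Helper3.M24TalH4.tal20, Cfsg.Agent.Lib.Helper3.M24TalH4.tal21]
  rfl

theorem tot5 (hT : TallyStmt) :
    (LL.map (fun U => 2 ^ (20 * labE U (sLitH 5)))).sum = totH 5 := by
  rw [sum_tally hT, show sLitH 5 = Cfsg.Agent.Lib.Helper3.M24TalH5.S from rfl]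
  rw [Cfsg.Agent.Lib.Helper3.M24TalH5.tal0, Cfsg.Agent.Lib.Helper3.M24TalH5.tal1, Cfsg.Agent.Lib.Helper3.M24TalH5.tal2, Cfsg.Agent.Lib.Helper3.M24TalH5.tal3, Cfsg.Agent.Lib.Helper3.M24TalH5.tal4, Cfsg.Agent.Lib.Helper3.M24TalH5.tal5, Cfsg.Agent.Lib.Helper3.M24TalH5.tal6, Cfsg.Agent.Lib.Helper3.M24TalH5.tal7, Cfsg.Agent.Lib.Helper3.M24TalH5.tal8, Cfsg.Agent.Lib.Helper3.M24TalH5.tal9, Cfsg.Agent.Lib.Helper3.M24TalH5.tal10, Cfsg.Agent.Lib.Helper3.M24TalH5.tal11, Cfsg.Agent.Lib.Helper3.M24TalH5.tal12, Cfsg.Agent.Lib.Helper3.M24TalH5.tal13, Cfsg.Agent.Lib.Helper3.M24TalH5.tal14, Cfsg.Agent.Lib.Helper3.M24TalH5.tal15, Cfsg.Agent.Lib.Helper3.M24TalH5.tal16, Cfsg.Agent.Lib.Helper3.M24TalH5.tal17, Cfsg.Agent.Lib.Helper3.M24TalH5.tal18, Cfsg.Agent.Lib.Helper3.M24TalH5.tal19, Cfsg.Agent.Lib.Helper3.M24TalH5.tal20, Cfsg.Agent.Lib.Helper3.M24TalH5.tal21]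
  rfl

theorem tot6 (hT : TallyStmt) :
    (LL.map (fun U => 2 ^ (20 * labE U (sLitH 6)))).sum = totH 6 := by
  rw [sum_tally hT, show sLitH 6 = Cfsg.Agent.Lib.Helper3.M24TalH6.S from rfl]
  rw [Cfsg.Agent.Lib.Helper3.M24TalH6.tal0, Cfsg.Agent.Lib.Helper3.M24TalH6.tal1, Cfsg.Agent.Lib.Helper3.M24TalH6.tal2, Cfsg.Agent.Lib.Helper3.M24TalH6.tal3, Cfsg.Agent.Lib.Helper3.M24TalH6.tal4, Cfsg.Agent.Lib.Helper3.M24TalH6.tal5, Cfsg.Agent.Lib.Helper3.M24TalH6.tal6, Cfsg.Agent.Lib.Helper3.M24TalH6.tal7, Cfsg.Agent.Lib.Helper3.M24TalH6.tal8, Cfsg.Agent.Lib.Helper3.M24TalH6.tal9, Cfsg.Agent.Lib.Helper3.M24TalH6.tal10, Cfsg.Agent.Lib.Helper3.M24TalH6.tal11, Cfsg.Agent.Lib.Helper3.M24TalH6.tal12, Cfsg.Agent.Lib.Helper3.M24TalH6.tal13, Cfsg.Agent.Lib.Helper3.M24TalH6.tal14, Cfsg.Agent.Lib.Helper3.M24TalH6.tal15, Cfsg.Agent.Lib.Helper3.M24TalH6.tal16, Cfsg.Agent.Lib.Helper3.M24TalH6.tal17,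 Cfsg.Agent.Lib.Helper3.M24TalH6.tal18, Cfsg.Agent.Lib.Helper3.M24TalH6.tal19, Cfsg.Agent.Lib.Helper3.M24TalH6.tal20, Cfsg.Agent.Lib.Helper3.M24TalH6.tal21]
  rfl

theorem total (hT : TallyStmt) (i : Fin 7) :
    (LL.map (fun U => 2 ^ (20 * labE U (sLitH i)))).sum = totH i := by
  fin_cases i
  · exact tot0 hT
  · exact tot1 hT
  · exact tot2 hT
  · exact tot3 hT
  · exact tot4 hT
  · exact tot5 hT
  · exact tot6 hT

theorem totH_lt : ∀ i : Fin 7, totH i < 2 ^ 160 := by decide +kernel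

theorem even_digits : ∀ i j : Fin 7, (totH i / 2 ^ (20 * j.val)) % 2 ^ 20 % 2 = 0 := by
  decide +kernel

theorem le7 (hT : TallyStmt) (hD : DigitStmt) (i : Fin 7) : ∀ U ∈ LL, labE U (sLitH i) ≤ 7 := by
  intro U hU
  by_contra hcon
  have h8 : 8 ≤ labE U (sLitH i) := by omega
  have hd := hD (fun U => labE U (sLitH i)) LL
    (by rw [Cfsg.Agent.Lib.Helper74.M24LNODUP.length_LL]; norm_num) (labE U (sLitH i))
  rw [total hT i] at hd
  have hpos : 0 < LL.countP (fun V => Nat.beq (labE V (sLitH i)) (labE U (sLitH i))) :=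
    List.countP_pos_iff.2 ⟨U, hU, Nat.beq_refl _⟩
  have hz : totH i / 2 ^ (20 * labE U (sLitH i)) = 0 := by
    apply Nat.div_eq_of_lt
    calc totH i < 2 ^ 160 := totH_lt i
      _ ≤ 2 ^ (20 * labE U (sLitH i)) := Nat.pow_le_pow_right (by norm_num) (by omega)
  rw [hz, Nat.zero_mod] at hd
  omega

theorem hpar (hT : TallyStmt) (hD : DigitStmt) (hE : EvalSound) (hLS : LSoundStmt) (i : Fin 7) :
    ∃ s : G24, s * s = rElH i ∧
      ∀ j : Fin 7, Even (Nat.card {u : G24 // u * u = 1 ∧ lab (u * s) = some j}) := by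
  have hN := Cfsg.Agent.Lib.Helper74.M24LNODUP.nodup
  have hLC : LCompleteStmt := Cfsg.Agent.Lib.Helper86.M24BlkLCOMPLETE.main hLS
    ⟨hN, Cfsg.Agent.Lib.Helper74.M24LNODUP.length_LL⟩
  refine ⟨sElH i, sq_sElH i, fun j => ?_⟩
  have hle : ∀ U ∈ LL, labE U (pkP ((sElH i : G24) : Equiv.Perm GolayPt)) ≤ 7 := by
    rw [pkP_sElH]
    exact le7 hT hD i
  rw [Cfsg.Agent.Lib.Helper74.M24CNT.count (sElH i) j hLS hN hLC hE hle, pkP_sElH]
  have hd := hD (fun U => labE U (sLitH i)) LL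
    (by rw [Cfsg.Agent.Lib.Helper74.M24LNODUP.length_LL]; norm_num) j.val
  rw [total hT i] at hd
  rw [← hd]
  exact Nat.even_iff.2 (even_digits i j)

/-! ### The theorem -/

theorem final (hLS : LSoundStmt) (hP27 : P27Stmt)
    (hGB : Good Cfsg.Agent.Lib.Helper86.M24Inv2.gB)
    (M : Ideal Cfsg.AlgInt) (hM : Cfsg.IsPModular 2 M) (χ ψ : Cfsg.IrrCharacter ↥Cfsg.M24) :
    Cfsg.SameBlock M (χ : ↥Cfsg.M24 → ℂ) (ψ : ↥Cfsg.M24 → ℂ) := by
  haveI : Fact (Nat.Prime 2) := ⟨Nat.prime_two⟩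
  have hE := Cfsg.Agent.Lib.Helper72.M24EVAL.main
  have hQ := Cfsg.Agent.Lib.Helper91.M24QAINV.main
  have hT := Cfsg.Agent.Lib.Helper65.M24TLY.main
  have hD := Cfsg.Agent.Lib.Helper65.M24DIG.main
  have h0 : ∀ B : Set (Cfsg.IrrCharacter G24), Cfsg.IsPBlock M B → ¬ Cfsg.IsDefectGroup 2 M B ⊥ :=
    fun B hB => Cfsg.Agent.Lib.Helper3.InvParity.no_defect_zero_of_involution_parity M hM rElH lab
      (hsound hE hQ) (hcompl hP27) (hpar hT hD hE hLS) B hB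
  have hloc : ∀ D : Subgroup G24, IsPGroup 2 D → D ≠ ⊥ →
      (Cfsg.pCore 2 (Subgroup.normalizer (D : Set G24))).map
        (Subgroup.normalizer (D : Set G24)).subtype = D →
      Subgroup.centralizer (D : Set G24) ≤ D :=
    fun D hD hD1 hrad =>
      Cfsg.Agent.Lib.Helper3.RadCent.radical_self_centralizing (hinv hGB) D hD hD1 hrad
  exact Cfsg.Agent.Lib.Helper91.OneBlockLocal.one_block_of_local 2 M hM h0 hloc χ ψ

end Cfsg.Agent.Lib.Helper3.M24BlkGlue
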