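-- S5006 (M24 has exactly one 2-block): the PIECES, as `Prop` definitions.
-- Assembly: `Cfsg.Agent.S5006` (via Helper3.InvParity, Helper3.RadCent, Helper91.OneBlockLocal).
-- Definitions: `Cfsg.Agent.Lib.Helper3.M24Blk` (`G24`, `r11 r15 r21 r23`, `n11 .. n23`, `rEl`, `sEl`,
-- `QA`, `lab`, the kernel evaluator `labE`), `M24BlkT` (`tA tB r5 r7`), `M24InvAll` (`LL`).
import Cfsg.Agent.Lib.Helper3.M24BlkT
import Cfsg.Agent.Lib.Helper3.M24InvAll

set_option autoImplicit false

namespace Cfsg.Agent.Lib.Helper3.M24BlkStmt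

open Cfsg Cfsg.Agent.Lib.Helper7.GolayBase Cfsg.Agent.Lib.Helper3.M24Blk
  Cfsg.Agent.Lib.Helper3.M24InvD

/-! ### Basic facts on the explicit elements -/

/-- ORD: the orders of the representatives. -/
def OrdStmt : Prop :=
  orderOf r11 = 11 ∧ orderOf r15 = 15 ∧ orderOf r21 = 21 ∧ orderOf r23 = 23

/-- SQ: the `sEl i` are square roots of the `rEl i`. -/
def SqStmt : Prop := ∀ i : Fin 7, sEl i * sEl i = rEl i

/-- The packed tables of the square roots, as literals. -/
def sLit : Fin 7 → Nat := ![962298451038133363011374430748423744,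
  355326438660451590012344856554543490, 887127454364263798348510194723979406,
  374102775484889894756134556530915411, 761122784768919696203458021205378678,
  970078821195397598087999963796060588, 968738873619001514367364102631142795]

/-- SP: the packed tables of the square roots. -/
def SPStmt : Prop := ∀ i : Fin 7, pkP ((sEl i : G24) : Equiv.Perm GolayPt) = sLit i

/-- NORM: each representative is conjugate to its square. -/
def NormStmt : Prop :=
  n11 * r11 * n11⁻¹ = r11 ^ 2 ∧ n15 * r15 * n15⁻¹ = r15 ^ 2 ∧ n21 * r21 * n21⁻¹ = r21 ^ 2 ∧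
    n23 * r23 * n23⁻¹ = r23 ^ 2

/-! ### The octad test -/

/-- QAINV: the octad test is invariant under conjugation by `M24`. -/
def QAInvStmt : Prop :=
  ∀ (S : Finset ℕ) (c g : Equiv.Perm GolayPt), c ∈ Cfsg.M24 → (QA S (c * g * c⁻¹) ↔ QA S g)

/-- QAR15 / QAR21 / QAR23: the octad test separates `r` from `r⁻¹`. -/
def QAR15Stmt : Prop :=
  QA S15f (r15 : Equiv.Perm GolayPt) ∧ ¬ QA S15f ((r15⁻¹ : G24) : Equiv.Perm GolayPt)
def QAR21Stmt : Prop :=
  QA S21f (r21 : Equiv.Perm GolayPt) ∧ ¬ QA S21f ((r21⁻¹ : G24) : Equiv.Perm GolayPt)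
def QAR23Stmt : Prop :=
  QA S23f (r23 : Equiv.Perm GolayPt) ∧ ¬ QA S23f ((r23⁻¹ : G24) : Equiv.Perm GolayPt)

/-! ### Soundness of the kernel evaluator -/

/-- EVAL: whenever the evaluator answers `v ≤ 7` on the packed tables of `u` and `s`, the label
of `u * s` is `dec v`. -/
def EvalSound : Prop :=
  ∀ (u s : G24) (v : ℕ),
    labE (pkP (u : Equiv.Perm GolayPt)) (pkP (s : Equiv.Perm GolayPt)) = v → v ≤ 7 →
      lab (u * s) = dec v

/-- TLY: the tally is the sum of the `2 ^ (20 * answer)`. -/
def TallyStmt : Prop :=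
  ∀ (S : Nat) (l : List Nat) (c : Nat),
    tally S l c = c + (l.map (fun U => 2 ^ (20 * labE U S))).sum

/-- DIG: reading a count off such a sum. -/
def DigitStmt : Prop :=
  ∀ (f : Nat → Nat) (l : List Nat), l.length < 2 ^ 20 → ∀ j : Nat,
    ((l.map (fun U => 2 ^ (20 * f U))).sum / 2 ^ (20 * j)) % 2 ^ 20 =
      l.countP (fun U => Nat.beq (f U) j)

/-! ### The list of involutions -/

/-- `U` is the packed table of some `u ∈ M24` with `u * u = 1`. -/
def InvOK (U : Nat) : Prop := ∃ u : G24, u * u = 1 ∧ pkP (u : Equiv.Perm GolayPt) = U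

/-- LSOUND k: every entry of chunk `k` is the packed table of an element of `M24` of square 1. -/
def LSoundChunk (k : Nat) : Prop := ∀ U ∈ chunks.getD k [], InvOK U

/-- LSOUND: every entry of `LL` is the packed table of an element of `M24` of square 1. -/
def LSoundStmt : Prop := ∀ U ∈ LL, InvOK U

/-- LNODUP: no repetition in `LL` (it is strictly increasing), and its length. -/
def LNodupStmt : Prop := LL.Nodup ∧ LL.length = 43263

/-- FUSION: two classes of involutions. -/
def FusionStmt : Prop := ∀ t : G24, orderOf t = 2 → IsConj t tA ∨ IsConj t tB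

/-- CENTA / CENTB: lower bounds for the centralisers of the involutions. -/
def CentAStmt : Prop := 21504 ∣ Nat.card (Subgroup.centralizer ({tA} : Set G24))
def CentBStmt : Prop := 7680 ∣ Nat.card (Subgroup.centralizer ({tB} : Set G24))

/-- LCOMPLETE: `LL` contains the packed table of every `u ∈ M24` with `u * u = 1`. -/
def LCompleteStmt : Prop := ∀ u : G24, u * u = 1 → pkP (u : Equiv.Perm GolayPt) ∈ LL

/-- CNT: counting the involutions `u` with a given label of `u * s`. -/
def CountStmt : Prop :=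
  ∀ (s : G24) (j : Fin 7), LSoundStmt → LNodupStmt → LCompleteStmt → EvalSound →
    (∀ U ∈ LL, labE U (pkP (s : Equiv.Perm GolayPt)) ≤ 7) →
    Nat.card {u : G24 // u * u = 1 ∧ lab (u * s) = some j} =
      LL.countP (fun U => Nat.beq (labE U (pkP (s : Equiv.Perm GolayPt))) j.val)

/-! ### Conjugacy classes of the elements of order 11, 15, 21, 23 -/

/-- K5: an element centralising `r5` and fixing its four fixed points is a power of `r5`. -/
def K5Stmt : Prop :=
  ∀ t : G24, Commute t r5 →
    (∀ p : GolayPt, (r5 : Equiv.Perm GolayPt) p = p → (t : Equiv.Perm GolayPt) p = p) →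
    t ∈ Subgroup.zpowers r5

/-- K7: an element centralising `r7` and fixing its three fixed points is a power of `r7`. -/
def K7Stmt : Prop :=
  ∀ t : G24, Commute t r7 →
    (∀ p : GolayPt, (r7 : Equiv.Perm GolayPt) p = p → (t : Equiv.Perm GolayPt) p = p) →
    t ∈ Subgroup.zpowers r7

/-- O15: every element of order 15 is conjugate to a power of `r15`. -/
def O15Stmt : Prop := ∀ g : G24, orderOf g = 15 → ∃ c : G24, ∃ k : ℕ, c * g * c⁻¹ = r15 ^ k

/-- O21: every element of order 21 is conjugate to a power of `r21`. -/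
def O21Stmt : Prop := ∀ g : G24, orderOf g = 21 → ∃ c : G24, ∃ k : ℕ, c * g * c⁻¹ = r21 ^ k

/-- HS11: one class of elements of order 11. -/
def HS11Stmt : Prop := ∀ g : G24, orderOf g = 11 → IsConj g r11

/-- HS15: two classes of elements of order 15, separated by the octad test. -/
def HS15Stmt : Prop := ∀ g : G24, orderOf g = 15 →
  (QA S15f (g : Equiv.Perm GolayPt) → IsConj g r15) ∧
  (¬ QA S15f (g : Equiv.Perm GolayPt) → IsConj g r15⁻¹)

/-- HS21: two classes of elements of order 21, separated by the octad test. -/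
def HS21Stmt : Prop := ∀ g : G24, orderOf g = 21 →
  (QA S21f (g : Equiv.Perm GolayPt) → IsConj g r21) ∧
  (¬ QA S21f (g : Equiv.Perm GolayPt) → IsConj g r21⁻¹)

/-- HS23: two classes of elements of order 23, separated by the octad test. -/
def HS23Stmt : Prop := ∀ g : G24, orderOf g = 23 →
  (QA S23f (g : Equiv.Perm GolayPt) → IsConj g r23) ∧
  (¬ QA S23f (g : Equiv.Perm GolayPt) → IsConj g r23⁻¹)

/-! ### Elements of odd order with a centraliser of even order -/

/-- THREE: a 3-element has order at most 3 and commutes with an involution. -/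
def ThreeStmt : Prop :=
  ∀ g : G24, (∃ k : ℕ, g ^ 3 ^ k = 1) → g ^ 3 = 1 ∧ ∃ u : G24, orderOf u = 2 ∧ Commute u g

/-- I57: `r5` and `r7` commute with involutions. -/
def I57Stmt : Prop :=
  (∃ u : G24, orderOf u = 2 ∧ Commute u r5) ∧ (∃ u : G24, orderOf u = 2 ∧ Commute u r7)

/-- CLA: no two commuting elements of distinct prime orders in `{5, 7, 11, 23}`. -/
def ClaStmt : Prop :=
  ∀ (z1 z2 : G24) (q1 q2 : ℕ), (q1 = 5 ∨ q1 = 7 ∨ q1 = 11 ∨ q1 = 23) →
    (q2 = 5 ∨ q2 = 7 ∨ q2 = 11 ∨ q2 = 23) → q1 ≠ q2 → orderOf z1 = q1 → orderOf z2 = q2 →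
    Commute z1 z2 → False

/-- CLB: no element of order 3 commutes with an element of order 11 or 23. -/
def ClbStmt : Prop :=
  ∀ (w z : G24) (q : ℕ), (q = 11 ∨ q = 23) → orderOf w = 3 → orderOf z = q → Commute w z → False

/-! ### The three hypotheses of `Helper3.InvParity.no_defect_zero_of_involution_parity` -/

/-- HSOUND. -/
def HSoundStmt : Prop := ∀ (g : G24) (i : Fin 7), lab g = some i → IsConj g (rEl i)

/-- HCOMPL. -/
def HComplStmt : Prop :=
  ∀ g : G24, Odd (orderOf g) → (∀ u : G24, orderOf u = 2 → ¬ Commute u g) → lab g ≠ none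

/-- HPAR. -/
def HParStmt : Prop :=
  ∀ i : Fin 7, ∃ s : G24, s * s = rEl i ∧
    ∀ j : Fin 7, Even (Nat.card {u : G24 // u * u = 1 ∧ lab (u * s) = some j})

/-! ### The hypothesis of `Helper3.RadCent.radical_self_centralizing` -/

/-- The local condition at the involution `t`. -/
def HInvOne (t : G24) : Prop :=
  ∃ Q : Subgroup G24, IsPGroup 2 Q ∧
    Subgroup.centralizer ({t} : Set G24) ≤ Subgroup.normalizer (Q : Set G24) ∧
    Subgroup.centralizer (Q : Set G24) ≤ Q

/-- HINV. -/
def HInvStmt : Prop := ∀ t : G24, orderOf t = 2 → HInvOne t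

end Cfsg.Agent.Lib.Helper3.M24BlkStmt
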