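import Cfsg.Agent.Lib.Helper68.MixStmt

/-!
# S4017 piece BP1 (helper3)
-/

set_option autoImplicit false

namespace Cfsg.Agent.Lib.Helper3.MixBP1

universe u

open Subgroup Cfsg.Agent.Lib.Helper68

theorem exists_mem_notMem_finset {G : Type u} [Group G] [Finite G] (Q : Subgroup G)
    (S : Finset G) (h : S.card < Nat.card Q) : ∃ s ∈ Q, s ∉ S := by
  classical
  by_contra hcon
  push Not at hcon
  have hsub : (Q : Set G) ⊆ (↑S : Set G) := fun s hs => Finset.mem_coe.mpr (hcon s hs)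
  have h1 : Nat.card Q = (Q : Set G).ncard := Nat.card_coe_set_eq (Q : Set G)
  have h2 : (Q : Set G).ncard ≤ (↑S : Set G).ncard :=
    Set.ncard_le_ncard hsub (Finset.finite_toSet S)
  rw [Set.ncard_coe_finset] at h2
  omega

theorem main (hLEMY : MixStmt.LEMY.{u}) (hCQY : MixStmt.CQY.{u}) : MixStmt.BP1.{u} := by
  classical
  intro G _ _ p a Q y ctx t₀ ht₀ ht₀1 V hV x hxC hxp
  obtain ⟨hQV, hNV, hVt, v₀, hv₀, hv₀1, hv₀t⟩ := hV
  by_contra hx1
  have : Fact p.Prime := ⟨ctx.hp⟩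
  have ha := ctx.ha
  have h4 : 4 ≤ 2 ^ a := by
    calc 4 = 2 ^ 2 := by norm_num
      _ ≤ 2 ^ a := Nat.pow_le_pow_right (by norm_num) ha
  have hp2 : p ≠ 2 := by
    intro h
    have := ctx.hpa
    omega
  have hQ2 : IsPGroup 2 Q := IsPGroup.of_card ctx.hQ
  have hdisj : ∀ z : G, z ∈ Q → z ∈ V → z = 1 := by
    intro z hzQ hzV
    have := IsPGroup.disjoint_of_ne 2 p (Ne.symm hp2) Q (V : Subgroup G) hQ2 V.2
    exact (Subgroup.disjoint_def.mp this) hzQ hzV
  have hnorm : ∀ s ∈ Q, ∀ v ∈ V, s * v * s⁻¹ ∈ V := by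
    intro s hs v hv
    have := hQV hs
    exact (Subgroup.mem_normalizer_iff.mp this v).mp hv
  have hxt : x * t₀ = t₀ * x := ((Subgroup.mem_centralizer_iff.mp hxC) t₀ ht₀).symm
  have hxV : x ∈ V := hVt x hxt hxp
  obtain ⟨X, hX⟩ : ∃ X : Subgroup G, X = centralizer ({x} : Set G) := ⟨_, rfl⟩
  have hmemX : ∀ g : G, g ∈ X ↔ x * g = g * x := by
    intro g
    rw [hX, Subgroup.mem_centralizer_iff]
    constructor
    · intro h
      exact h x (Set.mem_singleton x)
    · intro h z hz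
      rw [Set.mem_singleton_iff] at hz
      rw [hz]
      exact h
  have hXtop : X ≠ ⊤ := by
    intro htop
    have hcen : ∀ g : G, g * x = x * g := by
      intro g
      have hg : g ∈ X := by rw [htop]; trivial
      exact ((hmemX g).mp hg).symm
    have hnormal : (zpowers x).Normal := by
      refine ⟨fun n hn g => ?_⟩
      obtain ⟨k, rfl⟩ := Subgroup.mem_zpowers_iff.mp hn
      have hc : Commute g x := hcen g
      have hc2 := hc.zpow_right k
      have h3 : g * x ^ k * g⁻¹ = x ^ k := by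
        rw [hc2.eq, mul_inv_cancel_right]
      rw [h3]
      exact zpow_mem (mem_zpowers x) k
    have hP : IsPGroup p (zpowers x) := by
      obtain ⟨k, hk⟩ := hxp
      exact IsPGroup.of_card (by rw [Nat.card_zpowers]; exact hk)
    have hbot := ctx.hOp (zpowers x) hnormal hP
    apply hx1
    have hmem : x ∈ zpowers x := mem_zpowers x
    rw [hbot] at hmem
    exact Subgroup.mem_bot.mp hmem
  have hQX : Q ≤ X := by
    intro s hs
    rw [hmemX]
    exact ((Subgroup.mem_centralizer_iff.mp hxC) s hs).symm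
  have hyX : y ∈ X := by
    rw [hmemX]
    exact hCQY G p a Q y ctx x hxC hxp
  have hXN : X ≤ normalizer (Q : Set G) := hLEMY G p a Q y ctx X hXtop hQX hyX
  have hVX : ∀ v ∈ V, v ∈ X := by
    intro v hv
    rw [hmemX]
    have := (ctx.hab V).is_comm.comm ⟨x, hxV⟩ ⟨v, hv⟩
    exact congrArg Subtype.val this
  have hVN : ∀ v ∈ V, v ∈ normalizer (Q : Set G) := fun v hv => hXN (hVX v hv)
  have hVC : ∀ v ∈ V, v ∈ centralizer (Q : Set G) := by
    intro v hv
    rw [Subgroup.mem_centralizer_iff]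
    intro s hs
    have h1 : v * s * v⁻¹ * s⁻¹ ∈ Q :=
      mul_mem ((Subgroup.mem_normalizer_iff.mp (hVN v hv) s).mp hs) (inv_mem hs)
    have h2 : v * s * v⁻¹ * s⁻¹ ∈ V := by
      have h2a : s * v⁻¹ * s⁻¹ ∈ V := hnorm s hs v⁻¹ (inv_mem hv)
      have h2b := mul_mem hv h2a
      have h2c : v * (s * v⁻¹ * s⁻¹) = v * s * v⁻¹ * s⁻¹ := by group
      rw [← h2c]
      exact h2b
    have h3 := hdisj _ h1 h2
    have h4 : v * s * v⁻¹ = s := mul_inv_eq_one.mp h3
    calc s * v = v * s * v⁻¹ * v := by rw [h4]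
      _ = v * s := by group
  -- y ∈ C via Sylow conjugacy inside N
  have hyC : y ∈ centralizer (Q : Set G) := by
    obtain ⟨N, hN⟩ : ∃ N : Subgroup G, N = normalizer (Q : Set G) := ⟨_, rfl⟩
    have hVleN : (V : Subgroup G) ≤ N := by
      intro v hv
      rw [hN]
      exact hVN v hv
    have hyN : y ∈ N := by
      rw [hN]; exact ctx.hyQ
    obtain ⟨m, hm⟩ := ctx.hy
    have hPy : IsPGroup p (zpowers (⟨y, hyN⟩ : N)) :=
      IsPGroup.of_card (by rw [Nat.card_zpowers, Subgroup.orderOf_mk]; exact hm)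
    obtain ⟨P', hP'⟩ := hPy.exists_le_sylow
    obtain ⟨n, hn⟩ := MulAction.exists_smul_eq N P' (V.subtype hVleN)
    have hy' : (⟨y, hyN⟩ : N) ∈ P' := hP' (mem_zpowers _)
    have hmem' : n * ⟨y, hyN⟩ * n⁻¹ ∈ ((V.subtype hVleN : Sylow p N) : Subgroup N) := by
      rw [← hn, Sylow.coe_subgroup_smul]
      have h5 := Subgroup.smul_mem_pointwise_smul _ (MulAut.conj n) (P' : Subgroup N) hy'
      simp only [MulAut.smul_def, MulAut.conj_apply] at h5
      exact h5
    have hmemV : (n : G) * y * (n : G)⁻¹ ∈ V := by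
      rw [Sylow.coe_subtype, Subgroup.mem_subgroupOf] at hmem'
      have h8 : ((n * ⟨y, hyN⟩ * n⁻¹ : N) : G) = (n : G) * y * (n : G)⁻¹ := rfl
      rw [h8] at hmem'
      exact hmem'
    have hc := hVC _ hmemV
    rw [Subgroup.mem_centralizer_iff] at hc ⊢
    intro s hs
    have hnN : (n : G) ∈ normalizer (Q : Set G) := by
      rw [← hN]; exact n.2
    have hnQ : (n : G) * s * (n : G)⁻¹ ∈ Q := (Subgroup.mem_normalizer_iff.mp hnN s).mp hs
    have h6 := hc _ hnQ
    have h' : (n : G) * (s * y) * (n : G)⁻¹ = (n : G) * (y * s) * (n : G)⁻¹ := by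
      calc (n : G) * (s * y) * (n : G)⁻¹
          = ((n : G) * s * (n : G)⁻¹) * ((n : G) * y * (n : G)⁻¹) := by group
        _ = ((n : G) * y * (n : G)⁻¹) * ((n : G) * s * (n : G)⁻¹) := h6
        _ = (n : G) * (y * s) * (n : G)⁻¹ := by group
    exact mul_left_cancel (mul_right_cancel h')
  -- contradiction with transitivity
  obtain ⟨s, hs, hsn⟩ := exists_mem_notMem_finset Q ({1, t₀} : Finset G) (by
    have := Finset.card_le_two (a := (1 : G)) (b := t₀)
    have := ctx.hQ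
    omega)
  have hs1 : s ≠ 1 := by
    intro h; apply hsn; simp [h]
  have hst : s ≠ t₀ := by
    intro h; apply hsn; simp [h]
  obtain ⟨k, hk⟩ := ctx.htrans t₀ ht₀ ht₀1 s hs hs1
  have hykC : y ^ k ∈ centralizer (Q : Set G) := pow_mem hyC k
  have h7 := Subgroup.mem_centralizer_iff.mp hykC t₀ ht₀
  apply hst
  rw [← hk, ← h7, mul_inv_cancel_right]

end Cfsg.Agent.Lib.Helper3.MixBP1
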