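import Cfsg.Agent.Lib.Helper68.MixStmt

/-!
# S4017 piece BSIG (helper3)
-/

set_option autoImplicit false

namespace Cfsg.Agent.Lib.Helper3.MixBSIG

universe u

open Subgroup Cfsg.Agent.Lib.Helper68

theorem exists_mem_notMem_finset {G : Type u} [Group G] [Finite G] (Q : Subgroup G)
    (S : Finset G) (h : S.card < Nat.card Q) : ∃ s ∈ Q, s ∉ S := by
  classical
  by_contra hcon
  push Not at hcon
  have hsub : (Q : Set G) ⊆ (↑S : Set G) := fun s hs => Finset.mem_coe.mpr (hcon s hs)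
  have h1 : Nat.card Q = (Q : Set G).ncard := Nat.card_coe_set_eq (Q : Set G)
  have h2 : (Q : Set G).ncard ≤ (↑S : Set G).ncard :=
    Set.ncard_le_ncard hsub (Finset.finite_toSet S)
  rw [Set.ncard_coe_finset] at h2
  omega

theorem main (hEXP : MixStmt.EXP.{u}) : MixStmt.BSIG.{u} := by
  classical
  intro G _ _ p a Q y ctx t₀ ht₀ ht₀1 V hV hStar
  obtain ⟨hQV, hNV, hVt, v₀, hv₀, hv₀1, hv₀t⟩ := hV
  have hexp := hEXP G p a Q y ctx
  have : Fact p.Prime := ⟨ctx.hp⟩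
  have ha := ctx.ha
  have h4 : 4 ≤ 2 ^ a := by
    calc 4 = 2 ^ 2 := by norm_num
      _ ≤ 2 ^ a := Nat.pow_le_pow_right (by norm_num) ha
  have hp2 : p ≠ 2 := by
    intro h
    have := ctx.hpa
    omega
  have hQ2 : IsPGroup 2 Q := IsPGroup.of_card ctx.hQ
  have hdisj : ∀ x : G, x ∈ Q → x ∈ V → x = 1 := by
    intro x hxQ hxV
    have := IsPGroup.disjoint_of_ne 2 p (Ne.symm hp2) Q (V : Subgroup G) hQ2 V.2
    exact (Subgroup.disjoint_def.mp this) hxQ hxV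
  have hcomm : ∀ v ∈ V, ∀ w ∈ V, v * w = w * v := by
    intro v hv w hw
    have := (ctx.hab V).is_comm.comm ⟨v, hv⟩ ⟨w, hw⟩
    exact congrArg Subtype.val this
  have hnorm : ∀ s ∈ Q, ∀ v ∈ V, s * v * s⁻¹ ∈ V := by
    intro s hs v hv
    have := hQV hs
    exact (Subgroup.mem_normalizer_iff.mp this v).mp hv
  -- Step 1
  have hfix : ∀ s ∈ Q, s ≠ 1 → s ≠ t₀ → ∀ e ∈ V, e * s = s * e → e = 1 := by
    intro s hs hs1 hst e he hes
    by_contra he1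
    obtain ⟨k, hk⟩ := ctx.htrans t₀ ht₀ ht₀1 s hs hs1
    obtain ⟨g, hg⟩ : ∃ g : G, g = y ^ k := ⟨_, rfl⟩
    rw [← hg] at hk
    have hc : (g⁻¹ * e * g) * t₀ = t₀ * (g⁻¹ * e * g) := by
      have hs' : s = g * t₀ * g⁻¹ := hk.symm
      rw [hs'] at hes
      calc (g⁻¹ * e * g) * t₀ = g⁻¹ * (e * (g * t₀ * g⁻¹)) * g := by group
        _ = g⁻¹ * ((g * t₀ * g⁻¹) * e) * g := by rw [hes]
        _ = t₀ * (g⁻¹ * e * g) := by group
    have hpe : MixStmt.IsPElt p (g⁻¹ * e * g) := by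
      obtain ⟨j, hj⟩ := (IsPGroup.iff_orderOf.mp V.2) ⟨e, he⟩
      refine ⟨j, ?_⟩
      rw [← hj, Subgroup.orderOf_mk]
      have hsc : SemiconjBy g⁻¹ e (g⁻¹ * e * g) := by
        unfold SemiconjBy
        group
      exact (SemiconjBy.orderOf_eq g⁻¹ hsc).symm
    have hmem : g⁻¹ * e * g ∈ V := hVt _ hc hpe
    have he2 : e ∈ (g • V : Sylow p G) := by
      show e ∈ ((g • V : Sylow p G) : Subgroup G)
      rw [Sylow.coe_subgroup_smul, Subgroup.mem_pointwise_smul_iff_inv_smul_mem]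
      simp only [MulAut.smul_def, MulAut.conj_inv_apply]
      exact hmem
    have hs2 : orderOf s = 2 := orderOf_eq_prime (by rw [pow_two]; exact hexp s hs) hs1
    have hEq : V = g • V := hStar V (g • V) e s he he2 he1 hs2 hes
    have hgN : g ∈ normalizer ((V : Subgroup G) : Set G) :=
      Sylow.smul_eq_iff_mem_normalizer.mp hEq.symm
    have hgV : g ∈ V := by
      obtain ⟨m, hm⟩ := ctx.hy
      have hdvd : orderOf g ∣ p ^ m := by
        rw [← hm, hg]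
        exact orderOf_pow_dvd k
      obtain ⟨j, -, hj⟩ := (Nat.dvd_prime_pow ctx.hp).mp hdvd
      have hPg : IsPGroup p (zpowers g) :=
        IsPGroup.of_card (by rw [Nat.card_zpowers]; exact hj)
      have hinf := hPg.inf_normalizer_sylow V
      have hg1 : g ∈ zpowers g ⊓ normalizer (V : Set G) :=
        ⟨mem_zpowers g, hgN⟩
      rw [hinf] at hg1
      exact hg1.2
    have hyN : g ∈ normalizer (Q : Set G) := by
      rw [hg]
      exact pow_mem ctx.hyQ k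
    have h1 : g * t₀ * g⁻¹ * t₀⁻¹ ∈ Q := by
      have : g * t₀ * g⁻¹ ∈ Q := (Subgroup.mem_normalizer_iff.mp hyN t₀).mp ht₀
      exact Q.mul_mem this (Q.inv_mem ht₀)
    have h2 : g * t₀ * g⁻¹ * t₀⁻¹ ∈ V := by
      have h2a : t₀ * g⁻¹ * t₀⁻¹ ∈ V := hnorm t₀ ht₀ g⁻¹ (inv_mem hgV)
      have h2b := mul_mem hgV h2a
      have h2c : g * (t₀ * g⁻¹ * t₀⁻¹) = g * t₀ * g⁻¹ * t₀⁻¹ := by group
      rw [← h2c]
      exact h2b
    have h3 := hdisj _ h1 h2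
    apply hst
    rw [← hk]
    exact mul_inv_eq_one.mp h3
  -- Step 2
  have hinv : ∀ s ∈ Q, s ≠ 1 → s ≠ t₀ → ∀ v ∈ V, s * v * s⁻¹ = v⁻¹ := by
    intro s hs hs1 hst v hv
    have hsv : s * v * s⁻¹ ∈ V := hnorm s hs v hv
    have hw : v * (s * v * s⁻¹) ∈ V := mul_mem hv hsv
    have hss : s * s = 1 := hexp s hs
    have hsinv : s⁻¹ = s := inv_eq_of_mul_eq_one_right hss
    have hcw : (v * (s * v * s⁻¹)) * s = s * (v * (s * v * s⁻¹)) := by
      have hc := hcomm v hv _ hsv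
      rw [hsinv] at hc ⊢
      calc v * (s * v * s) * s = v * s * v * (s * s) := by simp only [mul_assoc]
        _ = v * s * v := by rw [hss, mul_one]
        _ = (s * s) * v * s * v := by rw [hss, one_mul]
        _ = s * ((s * v * s) * v) := by simp only [mul_assoc]
        _ = s * (v * (s * v * s)) := by rw [hc]
    have h1 := hfix s hs hs1 hst _ hw hcw
    exact eq_inv_of_mul_eq_one_right h1
  -- Step 3
  obtain ⟨s₁, hs₁, hs₁n⟩ := exists_mem_notMem_finset Q ({1, t₀} : Finset G) (by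
    have := Finset.card_le_two (a := (1 : G)) (b := t₀)
    have := ctx.hQ
    omega)
  have hs₁1 : s₁ ≠ 1 := by
    intro h; apply hs₁n; simp [h]
  have hs₁t : s₁ ≠ t₀ := by
    intro h; apply hs₁n; simp [h]
  have ht₀t₀ : t₀ * t₀ = 1 := hexp t₀ ht₀
  have hs₁s₁ : s₁ * s₁ = 1 := hexp s₁ hs₁
  obtain ⟨s₂, hs₂def⟩ : ∃ s₂ : G, s₂ = s₁ * t₀ := ⟨_, rfl⟩
  have hs₂ : s₂ ∈ Q := by
    rw [hs₂def]; exact mul_mem hs₁ ht₀
  have hs₂1 : s₂ ≠ 1 := by
    intro h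
    apply hs₁t
    calc s₁ = (s₁ * t₀) * t₀ := by rw [mul_assoc, ht₀t₀, mul_one]
      _ = t₀ := by rw [← hs₂def, h, one_mul]
  have hs₂t : s₂ ≠ t₀ := by
    intro h
    apply hs₁1
    rw [hs₂def] at h
    calc s₁ = (s₁ * t₀) * t₀ := by rw [mul_assoc, ht₀t₀, mul_one]
      _ = 1 := by rw [h, ht₀t₀]
  have hcent : ∀ v ∈ V, t₀ * v = v * t₀ := by
    intro v hv
    have e1 := hinv s₂ hs₂ hs₂1 hs₂t v hv
    have e2 := hinv s₁ hs₁ hs₁1 hs₁t v⁻¹ (inv_mem hv)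
    have ht : t₀ = s₁ * s₂ := by rw [hs₂def, ← mul_assoc, hs₁s₁, one_mul]
    have h3 : s₁ * s₂ * v * (s₁ * s₂)⁻¹ = v := by
      calc s₁ * s₂ * v * (s₁ * s₂)⁻¹ = s₁ * (s₂ * v * s₂⁻¹) * s₁⁻¹ := by group
        _ = v := by rw [e1, e2, inv_inv]
    rw [← ht] at h3
    calc t₀ * v = t₀ * v * t₀⁻¹ * t₀ := by group
      _ = v * t₀ := by rw [h3]
  -- Step 4
  have ha2 : a = 2 := by
    by_contra hne
    have ha3 : 3 ≤ a := by omega
    have h8 : 8 ≤ 2 ^ a := by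
      calc 8 = 2 ^ 3 := by norm_num
        _ ≤ 2 ^ a := Nat.pow_le_pow_right (by norm_num) ha3
    obtain ⟨s₃, hs₃, hs₃n⟩ := exists_mem_notMem_finset Q ({1, t₀, s₁, s₁ * t₀} : Finset G) (by
      have := Finset.card_le_four (a := (1 : G)) (b := t₀) (c := s₁) (d := s₁ * t₀)
      have := ctx.hQ
      omega)
    have hs₃1 : s₃ ≠ 1 := by
      intro h; apply hs₃n; simp [h]
    have hs₃t : s₃ ≠ t₀ := by
      intro h; apply hs₃n; simp [h]
    have hs₃s : s₃ ≠ s₁ := by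
      intro h; apply hs₃n; simp [h]
    have hs₃st : s₃ ≠ s₁ * t₀ := by
      intro h; apply hs₃n; simp [h]
    have h13 : s₁ * s₃ ∈ Q := mul_mem hs₁ hs₃
    have h13_1 : s₁ * s₃ ≠ 1 := by
      intro h
      apply hs₃s
      calc s₃ = (s₁ * s₁) * s₃ := by rw [hs₁s₁, one_mul]
        _ = s₁ * (s₁ * s₃) := by rw [mul_assoc]
        _ = s₁ := by rw [h, mul_one]
    have h13_t : s₁ * s₃ ≠ t₀ := by
      intro h
      apply hs₃st
      calc s₃ = (s₁ * s₁) * s₃ := by rw [hs₁s₁, one_mul]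
        _ = s₁ * (s₁ * s₃) := by rw [mul_assoc]
        _ = s₁ * t₀ := by rw [h]
    have e3 := hinv s₃ hs₃ hs₃1 hs₃t v₀ hv₀
    have e1 := hinv s₁ hs₁ hs₁1 hs₁t v₀⁻¹ (inv_mem hv₀)
    have e13 := hinv (s₁ * s₃) h13 h13_1 h13_t v₀ hv₀
    have hvv : v₀ = v₀⁻¹ := by
      calc v₀ = v₀⁻¹⁻¹ := (inv_inv _).symm
        _ = s₁ * v₀⁻¹ * s₁⁻¹ := e1.symm
        _ = s₁ * (s₃ * v₀ * s₃⁻¹) * s₁⁻¹ := by rw [e3]
        _ = (s₁ * s₃) * v₀ * (s₁ * s₃)⁻¹ := by group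
        _ = v₀⁻¹ := e13
    have hv2 : v₀ ^ 2 = 1 := by
      rw [pow_two]
      calc v₀ * v₀ = v₀ * v₀⁻¹ := by rw [← hvv]
        _ = 1 := mul_inv_cancel v₀
    obtain ⟨j, hj⟩ := (IsPGroup.iff_orderOf.mp V.2) ⟨v₀, hv₀⟩
    rw [Subgroup.orderOf_mk] at hj
    have hd : orderOf v₀ ∣ 2 := orderOf_dvd_of_pow_eq_one hv2
    rw [hj] at hd
    have hj0 : j = 0 := by
      by_contra hj0
      have h2 : p ∣ 2 := dvd_trans (dvd_pow_self p hj0) hd
      have := (Nat.prime_dvd_prime_iff_eq ctx.hp Nat.prime_two).mp h2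
      exact hp2 this
    rw [hj0, pow_zero] at hj
    exact hv₀1 (orderOf_eq_one_iff.mp hj)
  exact ⟨ha2, hcent, hinv⟩

end Cfsg.Agent.Lib.Helper3.MixBSIG
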